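import Cfsg.Agent.ZNComp.FullStd

/-!
# The structure of a maximal straddling 2-group
-/

set_option autoImplicit false

namespace Cfsg.Agent.ZNComp

open Subgroup
open scoped commutatorElement
open SfFree (cj Mem jS)

variable {G : Type*} [Group G] [Finite G] {S : Sylow 2 G} {M T : Subgroup G}

theorem local_of_outside {K : Subgroup G} (hK : K ∈ Cfsg.jComponentsOutside M T) :
    ∃ L, Cfsg.IsTwoLocal L ∧ T ≤ L ∧ K ≤ L :=
  ⟨_, SfFree.isTwoLocal_normalizer (core_isPGroup _) hK.2.2,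
    le_sup_right.trans (LocalStructure.le_normalizer_pCoreOf _),
    le_sup_left.trans (LocalStructure.le_normalizer_pCoreOf _)⟩

theorem std_of_le (hG : Hyp G) (hO : Cfsg.pCore 2 G = ⊥)
    (hMJ : normalizer (jS (S : Subgroup G) : Set G) ≤ M)
    (hT : T ∈ Cfsg.maxStraddlingTwoSubgroups M) (hTS : T ≤ (S : Subgroup G)) :
    (∀ K ∈ Cfsg.jComponentsOutside M T, Std T K) ∧ ∃ K K', Std T K ∧ Std T K' ∧ K ≠ K' ∧
      Cfsg.pCoreOf 2 ((K ⊔ T) ⊔ (K' ⊔ T)) = ⊥ := by
  by_cases he : T = (S : Subgroup G)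
  · subst he
    have c : TCtx S M := ⟨hG, hO, hMJ, hT⟩
    exact ⟨fun K hK => c.std hK.1.1 (c.sylow_le_normalizer hK.1.1), c.exists_pair⟩
  · have c : PCtx S M T := ⟨hG, hMJ, hT, hTS, he⟩
    refine ⟨fun K hK => ?_, ?_⟩
    · obtain ⟨L, hL, hTL, hKL⟩ := local_of_outside hK
      exact c.std ⟨hK.1.1, hK.2.1⟩ (c.le_normalizer_of_local ⟨hK.1.1, hK.2.1⟩ hL hTL hKL)
    · obtain ⟨K, K', h1, h2, h3, h4, -⟩ := c.exists_pair
      exact ⟨K, K', h1, h2, h3, h4⟩

theorem main (hG : Hyp G) (hO : Cfsg.pCore 2 G = ⊥)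
    (hMJ : normalizer (Cfsg.thompsonSubgroupOf 2 (S : Subgroup G) : Set G) ≤ M)
    (hT : T ∈ Cfsg.maxStraddlingTwoSubgroups M) :
    (∀ K ∈ Cfsg.jComponentsOutside M T, Std T K) ∧ ∃ K K', Std T K ∧ Std T K' ∧ K ≠ K' ∧
      Cfsg.pCoreOf 2 ((K ⊔ T) ⊔ (K' ⊔ T)) = ⊥ := by
  rw [thompson_eq_jS] at hMJ
  obtain ⟨S', hTS', hMJ'⟩ := exists_sylow_over hMJ hT.1.1 hT.1.2.2.1
  exact std_of_le hG hO hMJ' hT hTS'

/-- The maximal 2-local subgroup above a standard component of an amalgam is its parabolic. -/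
theorem normalizer_eq_sup (hG : Hyp G) {K K' : Subgroup G} (h : Std T K) (h' : Std T K')
    (hbot : Cfsg.pCoreOf 2 ((K ⊔ T) ⊔ (K' ⊔ T)) = ⊥) :
    normalizer (K : Set G) = K ⊔ T := by
  have : Fact (Nat.Prime 2) := ⟨Nat.prime_two⟩
  obtain ⟨hpara, hQC, hsix⟩ := h.para hG
  obtain ⟨-, h16, -, hTA⟩ := h.pair hG h' hbot
  have hea := h.core_ea hG h' hbot
  have hc := h.jover.2.2
  set L := normalizer (K : Set G) with hL
  set A := Cfsg.pCoreOf 2 (K ⊔ T) with hA
  have hA8 : Nat.card A ≤ 8 := by omega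
  have hAQ : A = Cfsg.pCoreOf 2 L := le_antisymm
    (((Thompson.ea_iff.1 hea).1.trans (centralizer_le hQC)).trans hc) hQC
  have hAcl : centralizer (A : Set G) ≤ A := by rw [hAQ]; exact hc
  have hAn : L ≤ normalizer (A : Set G) := hAQ ▸ LocalStructure.le_normalizer_pCoreOf L
  obtain ⟨x, hx, hx0⟩ := exists_not_mem_core h.comp.2.2.1
  set W := Cfsg.wOf K with hW
  have hW4 : Nat.card W = 4 := h.comp.2.2.2.2.1
  have hWn : L ≤ normalizer (W : Set G) := normalizer_le_wOf K
  have hWA : W ≤ A := ((wOf_spec h.comp.2.2.1 hx hx0).1.trans (omega_le _)).trans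
    (S4Amal.le_core_of_normal ((core_le K).trans le_sup_left)
      ((sup_le le_normalizer h.norm).trans (normalizer_le_core K)) (core_isPGroup K))
  have hidx : W.relIndex A ≤ 2 := by
    have := Coprime.card_mul_relIndex_of_le hWA
    rw [hW4] at this
    omega
  set C := L ⊓ centralizer (W : Set G) with hC
  have hfix : ∀ y ∈ C, Odd (orderOf y) → y ∈ centralizer (A : Set G) := by
    intro y hy ho
    refine mem_centralizer_iff.2 fun a ha => ?_
    by_cases haW : a ∈ W
    · exact mem_centralizer_iff.1 hy.2 a haW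
    have hya : y * a * y⁻¹ ∈ A := (mem_normalizer_iff.1 (hAn hy.1) a).1 ha
    have hya' : y * a * y⁻¹ ∉ W := fun hw =>
      haW ((mem_normalizer_iff.1 (hWn hy.1) a).2 hw)
    have hi2 : (W.subgroupOf A).index = 2 := by
      have h1 : W.relIndex A ≠ 1 := fun e => haW (relIndex_eq_one.1 e ha)
      have h0 : W.relIndex A ≠ 0 := Nat.card_pos.ne'
      show W.relIndex A = 2
      omega
    set v := a⁻¹ * (y * a * y⁻¹) with hvdef
    have hv : v ∈ W := mem_subgroupOf.1 ((Subgroup.mul_mem_iff_of_index_two hi2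
      (a := (⟨a, ha⟩ : A)⁻¹) (b := ⟨_, hya⟩)).2
        ⟨fun e => absurd (inv_mem_iff.1 (mem_subgroupOf.1 e)) haW,
          fun e => absurd (mem_subgroupOf.1 e) hya'⟩)
    have hcy : Commute y v := (mem_centralizer_iff.1 hy.2 v hv).symm
    have hyv : y * a * y⁻¹ = a * v := by rw [hvdef]; group
    have hiter : ∀ n : ℕ, y ^ n * a * (y ^ n)⁻¹ = a * v ^ n := by
      intro n
      induction n with
      | zero => simp
      | succ n ih =>
        rw [pow_succ' y, show y * y ^ n * a * (y * y ^ n)⁻¹ = y * (y ^ n * a * (y ^ n)⁻¹) * y⁻¹ by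
          group, ih, show y * (a * v ^ n) * y⁻¹ = (y * a * y⁻¹) * (y * v ^ n * y⁻¹) by group, hyv,
          (hcy.pow_right n).eq, mul_inv_cancel_right, mul_assoc, ← pow_succ']
    have h1 := hiter (orderOf y)
    rw [pow_orderOf_eq_one] at h1
    have h2 : v ^ orderOf y = 1 := by simpa using h1.symm
    obtain ⟨m, hm⟩ := ho
    rw [hm, pow_succ, pow_mul, pow_two, h.comp.2.2.2.2.2 v hv, one_pow, one_mul] at h2
    have h3 : y * a * y⁻¹ = a := by rw [hyv, h2, mul_one]
    exact (mul_inv_eq_iff_eq_mul.1 h3).symm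
  have hC2 : IsPGroup 2 C := by
    refine fun y => ?_
    have hfin : (y : G) ∈ C := y.2
    obtain ⟨k, m, hm, hkm⟩ := Nat.exists_eq_pow_mul_and_not_dvd (orderOf_pos y).ne' 2 (by norm_num)
    have ho : orderOf ((y : G) ^ 2 ^ k) = m := by
      rw [orderOf_pow_of_dvd (pow_ne_zero _ two_ne_zero) (by
        rw [Subgroup.orderOf_coe, hkm]; exact dvd_mul_right _ _), Subgroup.orderOf_coe, hkm,
        Nat.mul_div_cancel_left _ (Nat.two_pow_pos k)]
    have hmem := hAcl (hfix _ (C.pow_mem hfin _)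
      (by rw [ho]; exact Nat.odd_iff.2 (Nat.two_dvd_ne_zero.1 hm)))
    have h2 : orderOf ((y : G) ^ 2 ^ k) ∣ 2 :=
      orderOf_dvd_of_pow_eq_one (by rw [pow_two]; exact SfFree.ea_sq hea hmem)
    rw [ho] at h2
    rcases (Nat.dvd_prime Nat.prime_two).1 h2 with rfl | rfl
    · exact ⟨k, Subtype.ext (by simpa using orderOf_eq_one_iff.1 ho)⟩
    · exact absurd (dvd_refl 2) hm
  have hCn : L ≤ normalizer (C : Set G) := by
    refine S4Amal.mem_normalizer_of_le fun l hl p hp =>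
      ⟨L.mul_mem (L.mul_mem hl hp.1) (L.inv_mem hl), mem_centralizer_iff.2 fun w hw => ?_⟩
    have := mem_centralizer_iff.1 hp.2 _ ((mem_normalizer_iff''.1 (hWn hl) w).1 hw)
    calc w * (l * p * l⁻¹) = l * ((l⁻¹ * w * l) * p) * l⁻¹ := by group
      _ = l * (p * (l⁻¹ * w * l)) * l⁻¹ := by rw [this]
      _ = l * p * l⁻¹ * w := by group
  have hCA : C ≤ A := hAQ ▸ S4Amal.le_core_of_normal inf_le_left hCn hC2
  -- the action on the three involutions of `W`
  have hle6 : C.relIndex L ≤ 6 := by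
    let W₁ : Set G := (W : Set G) \ {1}
    have hW₁ : Nat.card W₁ = 3 := by
      rw [Nat.card_coe_set_eq, Set.ncard_sdiff_singleton_of_mem W.one_mem,
        show (W : Set G).ncard = 4 from (Nat.card_coe_set_eq _).symm.trans hW4]
    let act : L → Equiv.Perm W₁ := fun l =>
      { toFun := fun w => ⟨(l : G) * w * (l : G)⁻¹,
          (mem_normalizer_iff.1 (hWn l.2) _).1 w.2.1, fun e => w.2.2 (by simpa using e)⟩
        invFun := fun w => ⟨(l : G)⁻¹ * w * l,
          (mem_normalizer_iff''.1 (hWn l.2) _).1 w.2.1,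
          fun e => w.2.2 (by simpa [mul_assoc, inv_mul_eq_one] using e)⟩
        left_inv := fun w => Subtype.ext (by group)
        right_inv := fun w => Subtype.ext (by group) }
    have hact : ∀ l l' : L, act l = act l' → (l : G)⁻¹ * l' ∈ C := by
      refine fun l l' e => ⟨L.mul_mem (L.inv_mem l.2) l'.2, mem_centralizer_iff.2 fun w hw => ?_⟩
      by_cases hw1 : w = 1
      · rw [hw1, one_mul, mul_one]
      have h1 := congrArg Subtype.val (DFunLike.congr_fun e ⟨w, hw, hw1⟩)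
      change (l : G) * w * (l : G)⁻¹ = (l' : G) * w * (l' : G)⁻¹ at h1
      calc w * ((l : G)⁻¹ * l') = (l : G)⁻¹ * ((l : G) * w * (l : G)⁻¹) * l' := by group
        _ = (l : G)⁻¹ * ((l' : G) * w * (l' : G)⁻¹) * l' := by rw [h1]
        _ = (l : G)⁻¹ * l' * w := by group
    have hperm : Nat.card (Equiv.Perm W₁) = 6 := by
      rw [Nat.card_perm, hW₁]; rfl
    rw [← hperm]
    show (C.subgroupOf L).index ≤ _
    rw [index_eq_card]
    refine Nat.card_le_card_of_injective
      (fun q : L ⧸ C.subgroupOf L => act q.out) fun q q' e => ?_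
    rw [← q.out_eq', ← q'.out_eq']
    exact QuotientGroup.eq.2 (hact _ _ e)
  have hAL : A ≤ L := hAQ ▸ core_le L
  have hAPle : A ≤ K ⊔ T := core_le _
  refine (eq_of_le_of_card_ge (sup_le le_normalizer h.norm) ?_).symm
  rw [← Coprime.card_mul_relIndex_of_le hAPle, hsix, ← Coprime.card_mul_relIndex_of_le hAL]
  exact Nat.mul_le_mul_left _ ((Nat.le_of_dvd (Nat.pos_of_ne_zero Nat.card_pos.ne')
    (relIndex_dvd_of_le_left _ hCA)).trans hle6)

/-- `P / O₂(P)` is the symmetric group of degree three. -/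
theorem quot_perm_three {P : Subgroup G} (hP : Para T P) :
    Nonempty (↥P ⧸ Cfsg.pCore 2 ↥P ≃* Equiv.Perm (Fin 3)) := by
  have : Fact (Nat.Prime 2) := ⟨Nat.prime_two⟩
  classical
  set Q := Cfsg.pCore 2 ↥P
  have hQn : Q.Normal := Core.pCore_normal
  set U := T.subgroupOf P with hU
  have hU3 : Nat.card (↥P ⧸ U) = 3 := by rw [← index_eq_card]; exact hP.three
  have hcoreT : Cfsg.pCoreOf 2 P ≤ T :=
    S4Amal.core_le_sylow hP.le hP.two (by rw [hP.three]; norm_num)
  have hQU : Q ≤ U := fun q hq => mem_subgroupOf.2 (hcoreT ⟨q, hq, rfl⟩)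
  set f := MulAction.toPermHom ↥P (↥P ⧸ U) with hf
  have hker : f.ker = Q := by
    rw [hf, ← normalCore_eq_ker]
    exact le_antisymm (Core.le_pCore (hP.two.comap_subtype.to_le (normalCore_le U)))
      (Subgroup.normal_le_normalCore.2 hQU)
  have hQi : Q.index = 6 := by
    have h := relIndex_mul_relIndex _ _ _ hcoreT hP.le
    rw [hP.core, hP.three, relIndex, subgroupOf, Cfsg.pCoreOf,
      comap_map_eq_self_of_injective (subtype_injective _)] at h
    exact h.symm
  have hperm : Nat.card (Equiv.Perm (↥P ⧸ U)) = 6 := by rw [Nat.card_perm, hU3]; rfl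
  have hsurj : Function.Surjective f := by
    rw [← MonoidHom.range_eq_top]
    refine Subgroup.eq_top_of_card_eq _ ?_
    rw [hperm, ← hQi, ← hker, index_eq_card]
    exact (Nat.card_congr (QuotientGroup.quotientKerEquivRange f).toEquiv).symm
  exact ⟨((QuotientGroup.quotientMulEquivOfEq hker.symm).trans
    (QuotientGroup.quotientKerEquivOfSurjective f hsurj)).trans
    (Finite.equivFinOfCardEq hU3).permCongrHom⟩

end Cfsg.Agent.ZNComp
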