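import Cfsg.Agent.ZNComp.Exists
import Cfsg.Agent.S4Free.Locals

/-!
# Components of the ambient group and of a local subgroup
-/

set_option autoImplicit false

namespace Cfsg.Agent.ZNComp

open Subgroup
open scoped commutatorElement
open SfFree (cj Mem jS)

/-- The hypotheses on `G`. -/
structure Hyp (G : Type*) [Group G] : Prop where
  char2 : Cfsg.IsCharacteristicTwoType G
  solv : ∀ N : Subgroup G, Cfsg.IsTwoLocal N → Group.IsSolvable ↥N
  cZ : ∀ S : Sylow 2 G,
    centralizer (Cfsg.omegaCenterOf (S : Subgroup G) : Set G) ≤ normalizer ((S : Subgroup G) : Set G)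

variable {G : Type*} [Group G]

theorem Comp.map {H : Type*} [Group H] {f : G →* H} (hf : Function.Injective f)
    {J K : Subgroup G} (hK : Comp J K) : Comp (J.map f) (K.map f) where
  odd := by
    have h := congrArg (Subgroup.map f) hK.odd
    rw [MonoidHom.map_closure] at h
    refine Eq.trans (congrArg Subgroup.closure (Set.ext fun x => ?_)) h
    constructor
    · rintro ⟨⟨k, hk, rfl⟩, ho⟩
      exact ⟨k, ⟨hk, by rwa [orderOf_injective f hf] at ho⟩, rfl⟩
    · rintro ⟨k, ⟨hk, ho⟩, rfl⟩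
      exact ⟨⟨k, hk, rfl⟩, by rwa [orderOf_injective f hf]⟩
  comm := by rw [← map_commutator, hK.comm]
  idx := by rw [← pCoreOf_map hf, relIndex_map_map_of_injective _ _ hf, hK.idx]
  w4 := by rw [← wOf_map hf, card_map_of_injective hf, hK.w4]

theorem Comp.of_map {H : Type*} [Group H] {f : G →* H} (hf : Function.Injective f)
    {J K : Subgroup G} (hK : Comp (J.map f) (K.map f)) : Comp J K where
  odd := by
    refine Subgroup.map_injective hf ?_
    rw [MonoidHom.map_closure]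
    conv_rhs => rw [← hK.odd]
    refine congrArg Subgroup.closure (Set.ext fun x => ?_)
    constructor
    · rintro ⟨k, ⟨hk, ho⟩, rfl⟩
      exact ⟨⟨k, hk, rfl⟩, by rwa [orderOf_injective f hf]⟩
    · rintro ⟨⟨k, hk, rfl⟩, ho⟩
      exact ⟨k, ⟨hk, by rwa [orderOf_injective f hf] at ho⟩, rfl⟩
  comm := Subgroup.map_injective hf (by rw [map_commutator, hK.comm])
  idx := by rw [← relIndex_map_map_of_injective _ _ hf, pCoreOf_map hf, hK.idx]
  w4 := by rw [← card_map_of_injective hf, wOf_map hf, hK.w4]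

variable [Finite G]

theorem isSylowTwoIn_map {L : Subgroup G} (S : Sylow 2 L) :
    Cfsg.IsSylowTwoIn ((S : Subgroup L).map L.subtype) L := by
  have : Fact (Nat.Prime 2) := ⟨Nat.prime_two⟩
  refine ⟨map_subtype_le _, S.2.map _, ?_⟩
  rw [relIndex, subgroupOf, comap_map_eq_self_of_injective L.subtype_injective]
  exact Nat.odd_iff.2 (Nat.two_dvd_ne_zero.1 S.not_dvd_index)

theorem exists_sylow_of_isSylowTwoIn {T L : Subgroup G} (hT : Cfsg.IsSylowTwoIn T L) :
    ∃ S : Sylow 2 L, (S : Subgroup L).map L.subtype = T := by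
  have : Fact (Nat.Prime 2) := ⟨Nat.prime_two⟩
  have hp : IsPGroup 2 (T.subgroupOf L) := hT.2.1.comap_subtype
  refine ⟨hp.toSylow (Nat.two_dvd_ne_zero.2 (Nat.odd_iff.1 hT.2.2)), ?_⟩
  rw [IsPGroup.toSylow_coe, subgroupOf_map_subtype, inf_eq_left.2 hT.1]

theorem exists_sylow_containing {R L : Subgroup G} (hR : IsPGroup 2 R) (hle : R ≤ L) :
    ∃ S : Sylow 2 L, R ≤ (S : Subgroup L).map L.subtype := by
  have : Fact (Nat.Prime 2) := ⟨Nat.prime_two⟩
  obtain ⟨S, hS⟩ := (hR.comap_subtype (K := L)).exists_le_sylow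
  exact ⟨S, fun x hx => ⟨⟨x, hle hx⟩, hS hx, rfl⟩⟩

theorem local_charTwo (hG : Hyp G) {N : Subgroup G} (hN : Cfsg.IsTwoLocal N) :
    centralizer (Cfsg.pCoreOf 2 N : Set G) ≤ Cfsg.pCoreOf 2 N := by
  have : Fact (Nat.Prime 2) := ⟨Nat.prime_two⟩
  obtain ⟨U, hU, hU1, rfl⟩ := hN
  have hch : LocalStructure.CharP 2 (normalizer (U : Set G)) :=
    LocalStructure.charP_iff.2 (hG.char2.2 U hU hU1)
  intro x hx
  have hUO : U ≤ Cfsg.pCoreOf 2 (normalizer (U : Set G)) :=
    LocalStructure.le_pCoreOf_of_normal le_normalizer le_rfl hU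
  exact hch ⟨centralizer_le_normalizer _ (centralizer_le hUO hx), hx⟩

theorem pCoreOf_ne_bot (hG : Hyp G) {L : Subgroup G}
    (hc : centralizer (Cfsg.pCoreOf 2 L : Set G) ≤ Cfsg.pCoreOf 2 L) :
    Cfsg.pCoreOf 2 L ≠ ⊥ := fun e => by
  rw [e] at hc
  have htop : (⊤ : Subgroup G) ≤ ⊥ := fun x _ => hc (mem_centralizer_iff.2 fun y hy => by
    rw [Subgroup.mem_bot.1 hy, one_mul, mul_one])
  have h1 : Nat.card G = 1 := by
    rw [← card_top (G := G), le_bot_iff.1 htop, card_bot]
  have := hG.char2.1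
  rw [h1] at this
  exact absurd this (by decide)

/-- A subgroup of characteristic 2 satisfies the hypotheses of a local subgroup. -/
theorem loc_of (hG : Hyp G) {L : Subgroup G}
    (hc : centralizer (Cfsg.pCoreOf 2 L : Set G) ≤ Cfsg.pCoreOf 2 L) : Loc L := by
  have : Fact (Nat.Prime 2) := ⟨Nat.prime_two⟩
  refine ⟨?_, LocalStructure.charP_iff.1 (inf_le_right.trans hc), fun S' => ?_⟩
  · have hle : L ≤ normalizer (Cfsg.pCoreOf 2 L : Set G) := LocalStructure.le_normalizer_pCoreOf L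
    have := hG.solv _ ⟨_, core_isPGroup L, pCoreOf_ne_bot hG hc, rfl⟩
    exact solvable_of_solvable_injective (Subgroup.inclusion_injective hle)
  set T := (S' : Subgroup L).map L.subtype with hT
  obtain ⟨S, hS⟩ := (S'.2.map L.subtype).exists_le_sylow
  have hQT : Cfsg.pCoreOf 2 L ≤ T := map_mono (Core.pCore_le_sylow S')
  have hST : (S : Subgroup G) ⊓ L = T := by
    refine le_antisymm ?_ (le_inf hS (map_subtype_le _))
    have h1 : ((S : Subgroup G) ⊓ L).subgroupOf L = (S' : Subgroup L) :=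
      S'.3 ((S.2.to_le inf_le_left).comap_subtype) fun x hx =>
        ⟨hS ⟨x, hx, rfl⟩, x.2⟩
    rw [hT, ← h1, subgroupOf_map_subtype, inf_assoc, inf_idem]
  have hZ : Cfsg.omegaCenterOf (S : Subgroup G) ≤ (Cfsg.omegaCenterOf (S' : Subgroup L)).map L.subtype := by
    rw [omegaCenterOf_map L.subtype_injective, ← hT]
    refine Thompson.omegaOne_mono fun z hz => ?_
    exact ⟨hQT (hc (centralizer_le (hQT.trans hS) hz.2)), centralizer_le hS hz.2⟩
  intro x hx
  have hxS : (x : G) ∈ normalizer ((S : Subgroup G) : Set G) := hG.cZ S <| by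
    rw [mem_centralizer_iff]
    intro z hz
    obtain ⟨w, hw, rfl⟩ := hZ hz
    exact congrArg Subtype.val (mem_centralizer_iff.1 hx w hw)
  refine QdFree.ZJControl.mem_normalizer_of_conj fun z hz => ?_
  have h1 : ((x * z * x⁻¹ : L) : G) ∈ (S : Subgroup G) :=
    (mem_normalizer_iff.1 hxS (z : G)).1 (hS ⟨z, hz, rfl⟩)
  obtain ⟨w, hw, he⟩ := hST.le ⟨h1, (x * z * x⁻¹).2⟩
  have e : w = x * z * x⁻¹ := L.subtype_injective he
  exact e ▸ hw

/-- A component inside `L`, seen in `L`. -/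
theorem comp_of_isJComponent {L T K : Subgroup G} (S : Sylow 2 L)
    (hJ : jS ((S : Subgroup L).map L.subtype) = Cfsg.thompsonSubgroupOf 2 T)
    (hK : Cfsg.IsJComponent T K) (hKL : K ≤ L) :
    Comp (jS (S : Subgroup L)) (K.subgroupOf L) := by
  refine Comp.of_map L.subtype_injective ?_
  rw [← SfFree.jS_map L.subtype_injective, hJ, subgroupOf_map_subtype, inf_eq_left.2 hKL]
  obtain ⟨h1, h2, h3, -, h5, -⟩ := hK
  exact ⟨h1, h2, h3, h5⟩

/-- A component of `L` is a component of `G`. -/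
theorem isJComponent_of_comp {L T : Subgroup G} (S : Sylow 2 L)
    (hJ : jS ((S : Subgroup L).map L.subtype) = Cfsg.thompsonSubgroupOf 2 T) {K : Subgroup L}
    (hK : Comp (jS (S : Subgroup L)) K) : Cfsg.IsJComponent T (K.map L.subtype) := by
  have hK' := hK.map L.subtype_injective
  rw [← SfFree.jS_map L.subtype_injective, hJ] at hK'
  refine ⟨hK'.odd, hK'.comm, hK'.idx, fun R hR hJR => ?_, hK'.w4, fun w hw => ?_⟩
  · have hRL : R ≤ L := hR.1.trans (sup_le (map_subtype_le _) (by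
      rw [← hJ]; exact (SfFree.jS_le _).trans (map_subtype_le _)))
    have h1 : jS (R.subgroupOf L) = jS (S : Subgroup L) := by
      refine jS_eq_of_le hR.2.1.comap_subtype fun z hz => ?_
      refine hJR (hJ ▸ ?_)
      rw [SfFree.jS_map L.subtype_injective]
      exact mem_map_of_mem _ hz
    have h2 := SfFree.jS_map (ι := L.subtype) L.subtype_injective (R.subgroupOf L)
    rw [subgroupOf_map_subtype, inf_eq_left.2 hRL, h1, ← SfFree.jS_map L.subtype_injective, hJ] at h2
    rw [thompson_eq_jS, h2]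
  · obtain ⟨x, hx, hx0⟩ := exists_not_mem_core hK'.idx
    exact SfFree.ea_sq (wOf_spec hK'.idx hx hx0).2.1 hw

theorem Comp.cj {J K : Subgroup G} (hK : Comp J K) (g : G) :
    Comp (SfFree.cj g J) (SfFree.cj g K) := hK.map (MulAut.conj g).injective

theorem IsJComponent.le_normalizer {T K : Subgroup G} (hK : Cfsg.IsJComponent T K) :
    Cfsg.thompsonSubgroupOf 2 T ≤ normalizer (K : Set G) :=
  le_normalizer_of_commutator_eq hK.2.1

theorem IsJComponent.isTwoLocal {T K : Subgroup G} (hK : Cfsg.IsJComponent T K) :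
    Cfsg.IsTwoLocal (normalizer (Cfsg.wOf K : Set G)) := by
  obtain ⟨x, hx, hx0⟩ := exists_not_mem_core hK.2.2.1
  refine ⟨_, Thompson.ea_isPGroup (wOf_spec hK.2.2.1 hx hx0).2.1, fun e => ?_, rfl⟩
  have := hK.2.2.2.2.1
  rw [e, card_bot] at this
  norm_num at this

/-- For `K` in `jComponentsZero T`: the local subgroup `N(W)`. -/
theorem exists_sylow_normalizer {T K : Subgroup G} (hT : IsPGroup 2 T)
    (hK : K ∈ Cfsg.jComponentsZero T) :
    ∃ S : Sylow 2 (normalizer (Cfsg.wOf K : Set G)),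
      jS ((S : Subgroup _).map (normalizer (Cfsg.wOf K : Set G)).subtype) =
        Cfsg.thompsonSubgroupOf 2 T := by
  obtain ⟨hKc, hK0⟩ := hK
  obtain ⟨S, hS⟩ := exists_sylow_containing (hT.to_le (Thompson.thompsonOf_le 2 T))
    ((IsJComponent.le_normalizer hKc).trans (normalizer_le_wOf K))
  refine ⟨S, ?_⟩
  rw [← thompson_eq_jS]
  exact hK0 _ hS (isSylowTwoIn_map S)

theorem normalizer_eq (hG : Hyp G) {T K : Subgroup G} (hT : IsPGroup 2 T)
    (hK : K ∈ Cfsg.jComponentsZero T) :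
    normalizer (K : Set G) = normalizer (Cfsg.wOf K : Set G) := by
  refine le_antisymm (normalizer_le_wOf K) fun g hg => ?_
  have hS0 := exists_sylow_normalizer hT hK
  set L := normalizer (Cfsg.wOf K : Set G) with hLdef
  obtain ⟨S, hS⟩ := hS0
  have h : Loc L := loc_of hG (local_charTwo hG (IsJComponent.isTwoLocal hK.1))
  have hKL : K ≤ L := le_normalizer.trans (normalizer_le_wOf K)
  have hc := comp_of_isJComponent S hS hK.1 hKL
  set g' : L := ⟨g, hg⟩ with hg'
  set K' := K.subgroupOf L with hK'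
  have hc' := hc.cj g'
  have hJ : cj g' (jS (S : Subgroup L)) = jS ((g' • S : Sylow 2 L) : Subgroup L) := by
    rw [Sylow.coe_subgroup_smul, Coprime.conj_smul_eq_map,
      SfFree.jS_map (ι := (MulAut.conj g').toMonoidHom) (MulAut.conj g').injective]
  rw [hJ] at hc'
  have hW : (Cfsg.wOf K').map L.subtype = Cfsg.wOf K := by
    rw [wOf_map L.subtype_injective, hK', subgroupOf_map_subtype, inf_eq_left.2 hKL]
  have hne : Cfsg.wOf K' ⊓ Cfsg.wOf (cj g' K') ≠ ⊥ := by
    have e : cj g' (Cfsg.wOf K') = Cfsg.wOf K' := by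
      refine Subgroup.map_injective L.subtype_injective ?_
      rw [hW, SfFree.cj, map_map]
      conv_rhs => rw [← SfFree.cj_of_mem_normalizer hg, ← hW, SfFree.cj, map_map]
      rfl
    rw [← wOf_map (f := (MulAut.conj g').toMonoidHom) (MulAut.conj g').injective]
    rw [show (Cfsg.wOf K').map (MulAut.conj g').toMonoidHom = Cfsg.wOf K' from e, inf_idem]
    intro e0
    have := hc.w4
    rw [e0, card_bot] at this
    norm_num at this
  have he := hc.eq_of_wOf h hc' hne
  rw [mem_normalizer_iff_map_conj_eq]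
  have he' := congrArg (Subgroup.map L.subtype) he
  rw [SfFree.cj, map_map, hK', subgroupOf_map_subtype, inf_eq_left.2 hKL] at he'
  conv_rhs => rw [← he']
  conv_lhs => rw [← inf_eq_left.2 hKL, ← subgroupOf_map_subtype, map_map]
  rfl

theorem isJComponent_conj (hG : Hyp G) {T K : Subgroup G} (hT : IsPGroup 2 T)
    (hK : K ∈ Cfsg.jComponentsZero T) (g : G)
    (hg : Cfsg.thompsonSubgroupOf 2 (T.map (MulAut.conj g).toMonoidHom) ≤
      normalizer (Cfsg.wOf K : Set G)) :
    Cfsg.IsJComponent (T.map (MulAut.conj g).toMonoidHom) K := by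
  have : Fact (Nat.Prime 2) := ⟨Nat.prime_two⟩
  have hS0 := exists_sylow_normalizer hT hK
  have hNeq := normalizer_eq hG hT hK
  set L := normalizer (Cfsg.wOf K : Set G) with hLdef
  obtain ⟨S, hS⟩ := hS0
  have hKL : K ≤ L := le_normalizer.trans (normalizer_le_wOf K)
  set T' := T.map (MulAut.conj g).toMonoidHom with hT'
  obtain ⟨S', hS'⟩ := exists_sylow_containing ((hT.map (MulAut.conj g).toMonoidHom).to_le
    (Thompson.thompsonOf_le 2 T')) hg
  obtain ⟨k, hk⟩ := MulAction.exists_smul_eq L S S'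
  have hmap : (S' : Subgroup L).map L.subtype =
      cj (k : G) ((S : Subgroup L).map L.subtype) := by
    rw [← hk, Sylow.coe_subgroup_smul, Coprime.conj_smul_eq_map, SfFree.cj, map_map, map_map]
    rfl
  have hJ' : jS ((S' : Subgroup L).map L.subtype) = cj (k : G) (Cfsg.thompsonSubgroupOf 2 T) := by
    rw [hmap, SfFree.cj, SfFree.jS_map (ι := (MulAut.conj (k : G)).toMonoidHom)
      (MulAut.conj (k : G)).injective, hS]
  have hgJ : jS T' = cj g (jS T) :=
    SfFree.jS_map (ι := (MulAut.conj g).toMonoidHom) (MulAut.conj g).injective T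
  rw [thompson_eq_jS] at hg hS' hJ' hS
  have hle : jS T' ≤ jS ((S' : Subgroup L).map L.subtype) := by
    refine iSup₂_le fun P hP => SfFree.le_jS ⟨(SfFree.le_jS hP).trans hS', hP.2.1, fun B hB hBe => ?_⟩
    obtain ⟨P₁, hP₁⟩ := SfFree.exists_mem ((S : Subgroup L).map L.subtype)
    have h1 : Nat.card B ≤ Nat.card P₁ := by
      rw [← SfFree.card_cj (k : G)⁻¹ B]
      refine hP₁.2.2 _ ?_ (SfFree.ea_cj hBe)
      refine (SfFree.cj_mono (hB.trans hmap.le)).trans ?_
      rw [SfFree.cj_cj, inv_mul_cancel, SfFree.cj_one]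
    have hP₁T : P₁ ≤ T := (SfFree.le_jS hP₁).trans (hS.le.trans (SfFree.jS_le T))
    refine h1.trans ?_
    rw [← SfFree.card_cj g P₁]
    exact hP.2.2 _ (SfFree.cj_mono hP₁T) (SfFree.ea_cj hP₁.2.1)
  have heq : jS ((S' : Subgroup L).map L.subtype) = Cfsg.thompsonSubgroupOf 2 T' := by
    rw [thompson_eq_jS]
    refine (eq_of_le_of_card_ge hle ?_).symm
    rw [hJ', hgJ, SfFree.card_cj, SfFree.card_cj]
  have hc := comp_of_isJComponent S (hS.trans (thompson_eq_jS T).symm) hK.1 hKL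
  have hkK : cj (k : G) K = K := SfFree.cj_of_mem_normalizer (hNeq.ge k.2)
  have hc' := (hc.map L.subtype_injective).cj (k : G)
  rw [subgroupOf_map_subtype, inf_eq_left.2 hKL, hkK,
    ← SfFree.jS_map L.subtype_injective] at hc'
  have hc'' : Comp (jS (S' : Subgroup L)) (K.subgroupOf L) := by
    refine Comp.of_map L.subtype_injective ?_
    rw [← SfFree.jS_map L.subtype_injective, subgroupOf_map_subtype, inf_eq_left.2 hKL, hmap,
      SfFree.cj, SfFree.jS_map (ι := (MulAut.conj (k : G)).toMonoidHom) (MulAut.conj (k : G)).injective]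
    exact hc'
  have := isJComponent_of_comp S' heq hc''
  rwa [subgroupOf_map_subtype, inf_eq_left.2 hKL] at this

/-- In a member of `jOvergroups T`. -/
theorem setting_of_overgroup (hG : Hyp G) {T L : Subgroup G} (hL : L ∈ Cfsg.jOvergroups T) :
    Loc L ∧ ∃ S : Sylow 2 L, (S : Subgroup L).map L.subtype = T ∧
      jS ((S : Subgroup L).map L.subtype) = Cfsg.thompsonSubgroupOf 2 T := by
  obtain ⟨hTL, -, hc⟩ := hL
  obtain ⟨S, hS⟩ := exists_sylow_of_isSylowTwoIn hTL
  exact ⟨loc_of hG hc, S, hS, by rw [hS, thompson_eq_jS]⟩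

/-- The normalizer in `T` of a component with four-group meeting `Z(T)`. -/
theorem le_normalizer_of_center (hG : Hyp G) {T L K : Subgroup G} (hL : L ∈ Cfsg.jOvergroups T)
    (hK : Cfsg.IsJComponent T K) (hKL : K ≤ L)
    (hne : T ⊓ centralizer (T : Set G) ⊓ Cfsg.wOf K ≠ ⊥) : T ≤ normalizer (K : Set G) := by
  obtain ⟨h, S, hST, hS⟩ := setting_of_overgroup hG hL
  intro t ht
  obtain ⟨t', ht', rfl⟩ := hST.ge ht
  have hc := comp_of_isJComponent S hS hK hKL
  have hc' := hc.cj t'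
  rw [SfFree.cj_of_mem_normalizer (SfFree.le_normalizer_jS (S : Subgroup L) ht')] at hc'
  have hW : Cfsg.wOf K = (Cfsg.wOf (K.subgroupOf L)).map L.subtype := by
    rw [wOf_map L.subtype_injective, subgroupOf_map_subtype, inf_eq_left.2 hKL]
  obtain ⟨z, ⟨⟨-, hzC⟩, hzW⟩, hz1⟩ := Offender.exists_ne_one_of_ne_bot hne
  rw [SetLike.mem_coe, hW] at hzW
  obtain ⟨w, hw, rfl⟩ := hzW
  have hne' : Cfsg.wOf (K.subgroupOf L) ⊓ Cfsg.wOf (cj t' (K.subgroupOf L)) ≠ ⊥ := fun e => by
    refine hz1 ?_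
    have hw' : w ∈ Cfsg.wOf (cj t' (K.subgroupOf L)) := by
      rw [← wOf_map (f := (MulAut.conj t').toMonoidHom) (MulAut.conj t').injective]
      refine ⟨w, hw, ?_⟩
      rw [MulEquiv.coe_toMonoidHom, MulAut.conj_apply]
      refine L.subtype_injective ?_
      rw [map_mul, map_mul, map_inv]
      rw [mem_centralizer_iff.1 hzC _ ht, mul_inv_cancel_right]
    have h0 : w ∈ Cfsg.wOf (K.subgroupOf L) ⊓ Cfsg.wOf (cj t' (K.subgroupOf L)) := ⟨hw, hw'⟩
    rw [e, Subgroup.mem_bot] at h0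
    rw [h0, map_one]
  have he := congrArg (Subgroup.map L.subtype) (hc.eq_of_wOf h hc' hne')
  rw [SfFree.cj, map_map, subgroupOf_map_subtype, inf_eq_left.2 hKL] at he
  rw [mem_normalizer_iff_map_conj_eq]
  conv_rhs => rw [← he]
  conv_lhs => rw [← inf_eq_left.2 hKL, ← subgroupOf_map_subtype, map_map]
  rfl

theorem isSubnormal_subgroupOf (hG : Hyp G) {T L K : Subgroup G} (hL : L ∈ Cfsg.jOvergroups T)
    (hK : Cfsg.IsJComponent T K) (hKL : K ≤ L) : (K.subgroupOf L).IsSubnormal := by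
  obtain ⟨h, S, -, hS⟩ := setting_of_overgroup hG hL
  exact (comp_of_isJComponent S hS hK hKL).isSubnormal h

end Cfsg.Agent.ZNComp
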