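import Cfsg.Agent.ZNComp.Exists
import Mathlib.GroupTheory.GroupAction.ConjAct

/-!
# A subnormal component and the elementary abelian subgroups of largest order

A subnormal `K` with `O₂(K)` of index 3 and `|W_K| = 4` whose normalizer is that of `W_K` has
`W_K` normalized by every elementary abelian subgroup of largest order.
-/

set_option autoImplicit false

namespace Cfsg.Agent.ZNComp

open Subgroup
open scoped commutatorElement
open SfFree (cj Mem jS)

/-- Odd elements of a product with a normal 2-subgroup stay in a subnormal subgroup. -/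
theorem le_normalizer_of_subnormal {X : Type*} [Group X] [Finite X] {K : Subgroup X}
    (hsn : K.IsSubnormal) (hodd : OddGen K) {R : Subgroup X} [R.Normal] (hR : IsPGroup 2 R) :
    R ≤ normalizer (K : Set X) := by
  have : Fact (Nat.Prime 2) := ⟨Nat.prime_two⟩
  have key : ∀ H : Subgroup X, H.IsSubnormal → K ≤ H →
      ∀ g ∈ K ⊔ R, Odd (orderOf g) → g ∈ H := by
    intro H hH
    induction hH with
    | top => intro _ g _ _; exact mem_top _
    | step H H' hle _ hN ih =>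
      intro hKH g hg ho
      have hn' : H' ≤ normalizer (H : Set X) := (normal_subgroupOf_iff_le_normalizer hle).1 hN
      have h1 : g ∈ H' := ih (hKH.trans hle) g hg ho
      have hg' := hg
      rw [← SetLike.mem_coe, Subgroup.mul_normal] at hg'
      obtain ⟨k, hk, r, hr, rfl⟩ := hg'
      refine mem_of_odd_sup (R := R ⊓ H') (inf_le_right.trans hn') (hR.to_le inf_le_left) ?_ ho
      exact mul_mem_sup (hKH hk) ⟨hr, (H'.mul_mem_cancel_left (hle (hKH hk))).1 h1⟩
  intro r hr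
  refine QdFree.ZJControl.mem_normalizer_of_conj fun z hz => ?_
  have hle : K ≤ K.comap (MulAut.conj r).toMonoidHom := by
    conv_lhs => rw [← hodd]
    rw [closure_le]
    rintro g ⟨hg, hgo⟩
    refine key K hsn le_rfl _ ?_ (by rw [MulEquiv.coe_toMonoidHom, MulEquiv.orderOf_eq]; exact hgo)
    exact mul_mem (mul_mem (mem_sup_right hr) (mem_sup_left hg)) (inv_mem (mem_sup_right hr))
  exact hle hz

/-- The data of a subnormal component. -/
structure Piece {X : Type*} [Group X] (K : Subgroup X) : Prop where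
  sn : K.IsSubnormal
  odd : OddGen K
  idx : (Cfsg.pCoreOf 2 K).relIndex K = 3
  w4 : Nat.card (Cfsg.wOf K) = 4
  nW : normalizer (Cfsg.wOf K : Set X) ≤ normalizer (K : Set X)

/-- The join of the conjugates of `W`. -/
abbrev wSub {X : Type*} [Group X] (K : Subgroup X) : Subgroup X :=
  ⨆ y : X, cj y (Cfsg.wOf K)

instance wSub_normal {X : Type*} [Group X] (K : Subgroup X) : (wSub K).Normal := by
  refine ⟨fun z hz g => ?_⟩
  have h1 : wSub K ≤ (wSub K).comap (MulAut.conj g).toMonoidHom := by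
    refine iSup_le fun y => ?_
    rw [← map_le_iff_le_comap]
    show cj g (cj y (Cfsg.wOf K)) ≤ _
    rw [SfFree.cj_cj]
    exact le_iSup (fun t : X => cj t (Cfsg.wOf K)) (g * y)
  exact h1 hz

theorem wOf_le_wSub {X : Type*} [Group X] (K : Subgroup X) : Cfsg.wOf K ≤ wSub K :=
  le_iSup_of_le (1 : X) (SfFree.cj_one _).ge

namespace Piece

variable {X : Type*} [Group X] [Finite X] {K : Subgroup X} (hK : Piece K)
include hK

theorem cj (g : X) : Piece (SfFree.cj g K) where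
  sn := hK.sn.map (f := (MulAut.conj g).toMonoidHom) (MulAut.conj g).surjective
  odd := by
    have h := congrArg (Subgroup.map (MulAut.conj g).toMonoidHom) hK.odd
    rw [MonoidHom.map_closure] at h
    refine Eq.trans (congrArg Subgroup.closure (Set.ext fun x => ?_)) h
    constructor
    · rintro ⟨⟨k, hk, rfl⟩, ho⟩
      exact ⟨k, ⟨hk, by rwa [MulEquiv.coe_toMonoidHom, MulEquiv.orderOf_eq] at ho⟩, rfl⟩
    · rintro ⟨k, ⟨hk, ho⟩, rfl⟩
      exact ⟨⟨k, hk, rfl⟩, by rwa [MulEquiv.coe_toMonoidHom, MulEquiv.orderOf_eq]⟩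
  idx := by
    rw [← pCoreOf_map (MulAut.conj g).injective, relIndex_map_map_of_injective _ _
      (MulAut.conj g).injective, hK.idx]
  w4 := by rw [← wOf_map (MulAut.conj g).injective, card_map_of_injective (MulAut.conj g).injective, hK.w4]
  nW := by
    rw [SfFree.cj, ← wOf_map (MulAut.conj g).injective, ← map_equiv_normalizer_eq,
      ← map_equiv_normalizer_eq]
    exact map_mono hK.nW

theorem core_le_pCore : Cfsg.pCoreOf 2 K ≤ Cfsg.pCore 2 X := by
  have : Fact (Nat.Prime 2) := ⟨Nat.prime_two⟩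
  refine Layer.subnormal_le_pCore ?_ (core_isPGroup K)
  exact isSubnormal_step hK.sn (core_le K) (le_normalizer.trans (normalizer_le_core K))

theorem pCore_le_normalizer : Cfsg.pCore 2 X ≤ normalizer (K : Set X) := by
  have : Fact (Nat.Prime 2) := ⟨Nat.prime_two⟩
  exact le_normalizer_of_subnormal hK.sn hK.odd Core.pCore_isPGroup

theorem wOf_ne_bot : Cfsg.wOf K ≠ ⊥ := fun e => by
  have := hK.w4
  rw [e, card_bot] at this
  norm_num at this

theorem commutator_mem_core {d k : X} {D : Subgroup X} (hD : D ≤ normalizer (K : Set X))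
    (hDK : D ⊓ K ≤ Cfsg.pCoreOf 2 K) (hDn : D.Normal) (hd : d ∈ D) (hk : k ∈ K) :
    ⁅k, d⁆ ∈ Cfsg.pCoreOf 2 K := by
  refine hDK ⟨?_, ?_⟩
  · rw [commutatorElement_def]
    exact D.mul_mem (hDn.conj_mem d hd k) (D.inv_mem hd)
  · rw [commutatorElement_def, mul_assoc k, mul_assoc k]
    exact K.mul_mem hk ((mem_normalizer_iff.1 (hD hd) _).1 (K.inv_mem hk))

/-- A 2-group inside `Triv K` normalizing `K` centralizes `W`. -/
theorem le_centralizer_wOf {R : Subgroup X} (hR : IsPGroup 2 R)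
    (hRK : R ≤ normalizer (K : Set X)) (hRt : R ≤ Triv K) :
    R ≤ centralizer (Cfsg.wOf K : Set X) := by
  obtain ⟨x, hx, hx0⟩ := exists_not_mem_core hK.idx
  obtain ⟨-, hWe, -, hKW, hfpf⟩ := wOf_spec hK.idx hx hx0
  set W := Cfsg.wOf K with hW
  obtain ⟨w, ⟨hw, hwc⟩, hw1⟩ := Offender.exists_ne_one_of_ne_bot
    (exists_fixed hR (Thompson.ea_isPGroup hWe) hK.wOf_ne_bot (hRK.trans (normalizer_le_wOf K)))
  set w' := x * w * x⁻¹ with hw'
  have hw'W : w' ∈ W := (mem_normalizer_iff.1 (hKW hx) w).1 hw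
  have hw'c : w' ∈ centralizer (R : Set X) := mem_centralizer_iff.2 fun r hr => by
    have h1 := triv_commutes hK.idx hx hx0 (hRK hr) (hRt hr) w hw
    rw [mem_centralizer_iff.1 hwc r hr, mul_inv_cancel_right] at h1
    exact mul_inv_eq_iff_eq_mul.1 h1
  have hne : w' ≠ w := fun e => hw1 (hfpf w hw (mul_inv_eq_iff_eq_mul.1 e))
  have hw'1 : w' ≠ 1 := fun e => hw1 (conj_eq_one_iff.1 e)
  have h1 : Nat.card ({1, w, w'} : Set X) ≤ Nat.card (W ⊓ centralizer (R : Set X) : Subgroup X) :=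
    Nat.card_mono (Set.toFinite _) (by
      rintro z (rfl | rfl | rfl)
      exacts [one_mem _, ⟨hw, hwc⟩, ⟨hw'W, hw'c⟩])
  rw [Nat.card_coe_set_eq, Set.ncard_insert_of_notMem (by
      simp only [Set.mem_insert_iff, Set.mem_singleton_iff, not_or]
      exact ⟨hw1.symm, hw'1.symm⟩), Set.ncard_pair hne.symm] at h1
  have h2 := card_dvd_of_le (inf_le_left : W ⊓ centralizer (R : Set X) ≤ W)
  rw [hW, hK.w4] at h2
  have h3 : Nat.card (W ⊓ centralizer (R : Set X) : Subgroup X) = 4 := by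
    have := Nat.le_of_dvd (by norm_num) h2
    interval_cases Nat.card (W ⊓ centralizer (R : Set X) : Subgroup X) <;> omega
  exact Subgroup.le_centralizer_iff.1
    (inf_eq_left.1 (eq_of_le_of_card_ge inf_le_left (by rw [h3, hW, hK.w4])))

theorem wOf_le : Cfsg.wOf K ≤ Cfsg.pCore 2 X ⊓ centralizer (Cfsg.pCore 2 X : Set X) := by
  have : Fact (Nat.Prime 2) := ⟨Nat.prime_two⟩
  obtain ⟨x, hx, hx0⟩ := exists_not_mem_core hK.idx
  refine le_inf ((wOf_spec hK.idx hx hx0).1.trans (((Thompson.omegaOne_le 2 _).trans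
    inf_le_left).trans hK.core_le_pCore)) (Subgroup.le_centralizer_iff.1 ?_)
  refine hK.le_centralizer_wOf Core.pCore_isPGroup hK.pCore_le_normalizer fun r hr =>
    ⟨normalizer_le_core K (hK.pCore_le_normalizer hr), fun k hk => ?_⟩
  refine hK.commutator_mem_core hK.pCore_le_normalizer ?_ inferInstance hr hk
  exact LocalStructure.le_pCoreOf_of_normal inf_le_right
    (Coprime.le_normalizer_inf (by rw [normalizer_eq_top]; exact le_top) le_normalizer)
    (Core.pCore_isPGroup.to_le inf_le_left)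

theorem wSub_le : wSub K ≤ Cfsg.pCore 2 X ⊓ centralizer (Cfsg.pCore 2 X : Set X) :=
  iSup_le fun y => by
    have := (hK.cj y).wOf_le
    rwa [← wOf_map (f := (MulAut.conj y).toMonoidHom) (MulAut.conj y).injective] at this

theorem wSub_ea : Cfsg.IsElementaryAbelian 2 (wSub K) := by
  refine Thompson.ea_mono (Thompson.omegaOne_centre_ea 2 (Cfsg.pCore 2 X)) ?_
  refine iSup_le fun y => fun z hz => ?_
  have hz' := hK.wSub_le (le_iSup (fun t : X => SfFree.cj t (Cfsg.wOf K)) y hz)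
  obtain ⟨w, hw, rfl⟩ := hz
  refine Thompson.mem_omegaOne hz' ?_
  obtain ⟨x, hx, hx0⟩ := exists_not_mem_core hK.idx
  rw [← map_pow, (wOf_spec hK.idx hx hx0).2.1.2 w hw, map_one]

theorem pCoreOf_le_centralizer : Cfsg.pCoreOf 2 K ≤ centralizer (wSub K : Set X) :=
  hK.core_le_pCore.trans (Subgroup.le_centralizer_iff.1 (hK.wSub_le.trans inf_le_right))

/-- `[U, x] ≤ W`. -/
theorem commutator_mem_wOf {x : X} (hx : x ∈ K) (hx0 : x ∉ Cfsg.pCoreOf 2 K) {u : X}
    (hu : u ∈ wSub K) : ⁅u, x⁆ ∈ Cfsg.wOf K := by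
  have : Fact (Nat.Prime 2) := ⟨Nat.prime_two⟩
  obtain ⟨-, -, -, hKW, hfpf⟩ := wOf_spec hK.idx hx hx0
  set W := Cfsg.wOf K with hW
  set U := wSub K with hU
  have hUe := hK.wSub_ea
  have hWU : W ≤ U := wOf_le_wSub K
  have hxU : x ∈ normalizer (U : Set X) := by rw [normalizer_eq_top]; exact mem_top _
  have hUc : ∀ v ∈ U, ⁅v, x⁆ ∈ U := fun v hv => by
    rw [commutatorElement_def, mul_assoc v, mul_assoc v]
    exact mul_mem hv ((wSub_normal K).conj_mem _ (inv_mem hv) x)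
  have hmul : ∀ a ∈ U, ∀ b ∈ U, ⁅a * b, x⁆ = ⁅a, x⁆ * ⁅b, x⁆ := fun a ha b hb => by
    rw [show ⁅a * b, x⁆ = a * ⁅b, x⁆ * a⁻¹ * ⁅a, x⁆ by simp only [commutatorElement_def]; group,
      (SfFree.ea_commute hUe ha (hUc b hb)).eq, mul_inv_cancel_right,
      (SfFree.ea_commute hUe (hUc b hb) (hUc a ha)).eq]
  set v := ⁅u, x⁆ with hv
  have huR := (hK.wSub_le hu)
  have hvO : v ∈ Cfsg.pCoreOf 2 K := by
    refine LocalStructure.le_pCoreOf_of_normal (L := K) (N := Cfsg.pCore 2 X ⊓ K) inf_le_right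
      (Coprime.le_normalizer_inf (by rw [normalizer_eq_top]; exact le_top) le_normalizer)
      (Core.pCore_isPGroup.to_le inf_le_left) ⟨(hK.wSub_le (hUc u hu)).1, ?_⟩
    rw [hv, commutatorElement_def]
    exact K.mul_mem ((mem_normalizer_iff.1 (hK.pCore_le_normalizer huR.1) x).1 hx) (K.inv_mem hx)
  have hvU0 : v ∈ Cfsg.omegaCenterOf (Cfsg.pCoreOf 2 K) := Thompson.mem_omegaOne
    ⟨hvO, centralizer_le hK.core_le_pCore (hK.wSub_le (hUc u hu)).2⟩ (hUe.2 v (hUc u hu))
  have hw : ⁅v, x⁆ ∈ W := commutator_mem_commutator hvU0 hx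
  let φ : W → W := fun a => ⟨⁅(a : X), x⁆, by
    rw [commutatorElement_def, mul_assoc (a : X), mul_assoc (a : X)]
    exact mul_mem a.2 ((mem_normalizer_iff.1 (hKW hx) _).1 (inv_mem a.2))⟩
  have hinj : Function.Injective φ := by
    rintro ⟨a, ha⟩ ⟨b, hb⟩ hab
    have e : ⁅a, x⁆ = ⁅b, x⁆ := congrArg Subtype.val hab
    refine Subtype.ext (inv_mul_eq_one.1 (hfpf (a⁻¹ * b) (mul_mem (inv_mem ha) hb) ?_))
    have e1 : x * (a⁻¹ * b) * x⁻¹ = a⁻¹ * b := by
      calc x * (a⁻¹ * b) * x⁻¹ = a⁻¹ * ⁅a, x⁆ * ⁅b, x⁆⁻¹ * b := by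
            simp only [commutatorElement_def]; group
        _ = _ := by rw [e]; group
    exact mul_inv_eq_iff_eq_mul.1 e1
  obtain ⟨⟨w₁, hw₁⟩, hw₁'⟩ := (Finite.injective_iff_surjective.1 hinj) ⟨_, hw⟩
  obtain ⟨⟨w₂, hw₂⟩, hw₂'⟩ := (Finite.injective_iff_surjective.1 hinj) ⟨w₁, hw₁⟩
  have e1 : ⁅w₁, x⁆ = ⁅v, x⁆ := congrArg Subtype.val hw₁'
  have e2 : ⁅w₂, x⁆ = w₁ := congrArg Subtype.val hw₂'
  have e3 : ⁅w₂ * u, x⁆ = w₁ * v := by rw [hmul w₂ (hWU hw₂) u hu, e2]
  have e4 : ⁅w₂ * u, x⁆ = 1 := by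
    refine eq_one_of_commute hUe hxU ?_ (mul_mem (hWU hw₂) hu) ?_
    · exact hK.pCoreOf_le_centralizer (core_cosets hK.idx hx hx0).1
    · refine (commutatorElement_eq_one_iff_commute.1 ?_).symm
      rw [e3, hmul w₁ (hWU hw₁) v (hUc u hu), e1]
      exact SfFree.ea_sq hUe (hUc v (hUc u hu))
  rw [e3] at e4
  exact (mul_eq_one_iff_eq_inv'.1 e4) ▸ inv_mem hw₁

/-- `X / C(U)` has no nontrivial normal 2-subgroup. -/
theorem centralizer_eq {D : Subgroup X} (hDn : D.Normal)
    (hCD : centralizer (wSub K : Set X) ≤ D)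
    {n : ℕ} (hidx : (centralizer (wSub K : Set X)).relIndex D = 2 ^ n) :
    D ≤ centralizer (wSub K : Set X) := by
  have : Fact (Nat.Prime 2) := ⟨Nat.prime_two⟩
  set C := centralizer (wSub K : Set X) with hC
  have hCn : C.Normal := by rw [hC]; infer_instance
  obtain ⟨x, hx, hx0⟩ := exists_not_mem_core hK.idx
  obtain ⟨-, -, hOW, hKW, hfpf⟩ := wOf_spec hK.idx hx hx0
  set W := Cfsg.wOf K with hW
  have hOC := hK.pCoreOf_le_centralizer
  have hoddC : ∀ g ∈ D, Odd (orderOf g) → g ∈ C := fun g hg ho =>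
    mem_of_odd (N := C) (k := n) (by rw [normalizer_eq_top]; exact le_top) (hidx ▸ dvd_rfl) hg ho
  have hDK : D ⊓ K ≤ Cfsg.pCoreOf 2 K := by
    intro d hd
    by_contra hd0
    have hKD : K ≤ D ⊓ K := by
      refine hK.odd.le_of_sup (R := Cfsg.pCoreOf 2 K) ((core_le K).trans
        (Coprime.le_normalizer_inf (by rw [normalizer_eq_top]; exact le_top) le_normalizer))
        (core_isPGroup K) ?_
      exact le_of_mem hK.idx le_sup_right hd.2 hd0 (mem_sup_left hd)
    have hKC : K ≤ C := by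
      conv_lhs => rw [← hK.odd]
      exact (closure_le _).2 fun g hg => hoddC g (hKD hg.1).1 hg.2
    obtain ⟨w, hw, hw1⟩ := Offender.exists_ne_one_of_ne_bot hK.wOf_ne_bot
    exact hw1 (hfpf w hw (mem_centralizer_iff.1 (hKC hx) w (wOf_le_wSub K hw)).symm)
  -- `D` normalizes `K C`
  set π := QuotientGroup.mk' C with hπ
  have hker : π.ker = C := QuotientGroup.ker_mk' C
  have hsurj : Function.Surjective π := QuotientGroup.mk'_surjective C
  have hKb : OddGen (K.map π) := by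
    refine le_antisymm ((closure_le _).2 fun g hg => hg.1) ?_
    conv_lhs => rw [← hK.odd, MonoidHom.map_closure]
    refine closure_mono ?_
    rintro _ ⟨g, ⟨hg, ho⟩, rfl⟩
    exact ⟨⟨g, hg, rfl⟩, ho.of_dvd_nat (orderOf_map_dvd π g)⟩
  have hDb : IsPGroup 2 (D.map π) := IsPGroup.of_card (n := n) (by
    rw [← relIndex_ker, hker, hidx])
  have : (D.map π).Normal := hDn.map π hsurj
  have hDKC : D ≤ normalizer ((K ⊔ C : Subgroup X) : Set X) := by
    have h1 : D ≤ (normalizer (K.map π : Set (X ⧸ C))).comap π := map_le_iff_le_comap.1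
      (le_normalizer_of_subnormal (hK.sn.map hsurj) hKb hDb)
    refine h1.trans ((le_normalizer_comap π).trans ?_)
    rw [comap_map_eq, hker]
  have hcomm : ∀ d ∈ D, ∀ k ∈ K, ⁅k, d⁆ ∈ C := by
    intro d hd k hk
    have hD1 : ⁅k, d⁆ ∈ D := by
      rw [commutatorElement_def]; exact mul_mem (hDn.conj_mem d hd k) (inv_mem hd)
    have h2 : ⁅k, d⁆ ∈ K ⊔ C := by
      rw [commutatorElement_def, mul_assoc k, mul_assoc k]
      exact mul_mem (mem_sup_left hk)
        ((mem_normalizer_iff.1 (hDKC hd) _).1 (inv_mem (mem_sup_left hk)))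
    rw [← SetLike.mem_coe, Subgroup.mul_normal] at h2
    obtain ⟨k', hk', c, hc, he⟩ := h2
    change k' * c = ⁅k, d⁆ at he
    rw [← he] at hD1 ⊢
    exact mul_mem (hOC (hDK ⟨(D.mul_mem_cancel_right (hCD hc)).1 hD1, hk'⟩)) hc
  let φ : W → W := fun a => ⟨⁅(a : X), x⁆, by
    rw [commutatorElement_def, mul_assoc (a : X), mul_assoc (a : X)]
    exact mul_mem a.2 ((mem_normalizer_iff.1 (hKW hx) _).1 (inv_mem a.2))⟩
  have hinj : Function.Injective φ := by
    rintro ⟨a, ha⟩ ⟨b, hb⟩ hab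
    have e : ⁅a, x⁆ = ⁅b, x⁆ := congrArg Subtype.val hab
    refine Subtype.ext (inv_mul_eq_one.1 (hfpf (a⁻¹ * b) (mul_mem (inv_mem ha) hb) ?_))
    have e1 : x * (a⁻¹ * b) * x⁻¹ = a⁻¹ * b := by
      calc x * (a⁻¹ * b) * x⁻¹ = a⁻¹ * ⁅a, x⁆ * ⁅b, x⁆⁻¹ * b := by
            simp only [commutatorElement_def]; group
        _ = _ := by rw [e]; group
    exact mul_inv_eq_iff_eq_mul.1 e1
  have hDW : D ≤ normalizer (W : Set X) := fun d hd => by
    refine QdFree.ZJControl.mem_normalizer_of_conj fun w hw => ?_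
    obtain ⟨⟨u, hu⟩, hu'⟩ := (Finite.injective_iff_surjective.1 hinj) ⟨w, hw⟩
    have e : ⁅u, x⁆ = w := congrArg Subtype.val hu'
    set u' := d * u * d⁻¹ with hu''
    have hu'U : u' ∈ wSub K := (wSub_normal K).conj_mem u (wOf_le_wSub K hu) d
    set c := ⁅x, d⁆⁻¹ with hcd
    have hcC : c ∈ C := inv_mem (hcomm d hd x hx)
    have e2 : d * w * d⁻¹ = ⁅u', c * x⁆ := by
      rw [← e, hu'', hcd]; simp only [commutatorElement_def]; group
    have hwU : ⁅u', x⁆ ∈ wSub K := wOf_le_wSub K (hK.commutator_mem_wOf hx hx0 hu'U)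
    rw [e2, show ⁅u', c * x⁆ = ⁅u', c⁆ * (c * ⁅u', x⁆ * c⁻¹) by
      simp only [commutatorElement_def]; group,
      commutatorElement_eq_one_iff_commute.2 (mem_centralizer_iff.1 hcC u' hu'U), one_mul,
      ← mem_centralizer_iff.1 hcC _ hwU, mul_inv_cancel_right]
    exact hK.commutator_mem_wOf hx hx0 hu'U
  have hDN : D ≤ normalizer (K : Set X) := hDW.trans hK.nW
  have hDt : D ≤ Triv K := fun d hd =>
    ⟨normalizer_le_core K (hDN hd), fun k hk => hK.commutator_mem_core hDN hDK hDn hd hk⟩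
  have hDC : D ≤ centralizer (W : Set X) := by
    intro d hd
    obtain ⟨i, m, hm, him⟩ := Nat.exists_eq_two_pow_mul_odd (orderOf_pos d).ne'
    have h1 : d ^ 2 ^ i ∈ centralizer (W : Set X) := by
      refine centralizer_le (wOf_le_wSub K) (hoddC _ (pow_mem hd _) ?_)
      rw [orderOf_pow_of_dvd (pow_ne_zero _ two_ne_zero) (him ▸ dvd_mul_right _ _), him,
        Nat.mul_div_cancel_left _ (pow_pos two_pos i)]
      exact hm
    have h2 : d ^ m ∈ centralizer (W : Set X) := by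
      have hp : IsPGroup 2 (zpowers (d ^ m)) := IsPGroup.of_card (n := i) (by
        rw [Nat.card_zpowers, orderOf_pow_of_dvd hm.pos.ne' (him ▸ dvd_mul_left _ _), him,
          Nat.mul_div_cancel _ hm.pos])
      exact hK.le_centralizer_wOf hp (zpowers_le.2 (pow_mem (hDN hd) m))
        (zpowers_le.2 (pow_mem (hDt hd) m)) (mem_zpowers _)
    obtain ⟨a, b, hab⟩ : ∃ a b : ℤ, (1 : ℤ) = (2 ^ i : ℕ) * a + (m : ℕ) * b := by
      have hc : Nat.gcd (2 ^ i) m = 1 := (Nat.coprime_two_left.2 hm).pow_left i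
      exact ⟨_, _, by rw [← Nat.gcd_eq_gcd_ab, hc]; rfl⟩
    rw [show d = (d ^ 2 ^ i) ^ a * (d ^ m) ^ b by
      rw [← zpow_natCast, ← zpow_natCast, ← zpow_mul, ← zpow_mul, ← zpow_add, ← hab, zpow_one]]
    exact mul_mem (zpow_mem h1 a) (zpow_mem h2 b)
  rw [Subgroup.le_centralizer_iff]
  refine iSup_le fun y => ?_
  rintro _ ⟨w, hw, rfl⟩
  refine mem_centralizer_iff.2 fun d hd => ?_
  have h1 := mem_centralizer_iff.1 (hDC (hDn.conj_mem d hd y⁻¹)) w hw
  rw [inv_inv] at h1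
  simp only [MulEquiv.coe_toMonoidHom, MulAut.conj_apply]
  calc d * (y * w * y⁻¹) = y * ((y⁻¹ * d * y) * w) * y⁻¹ := by group
    _ = _ := by rw [← h1]; group

/-- The image of `K` on `U` lies in the 3-core. -/
theorem map_le_threeCore : K.map (Offender.act (wSub K)) ≤
    (Cfsg.pCore 3 (Offender.act (wSub K)).range).map (Offender.act (wSub K)).range.subtype := by
  have : Fact (Nat.Prime 3) := ⟨Nat.prime_three⟩
  set σ := Offender.act (wSub K) with hσ
  have hc : Nat.card (K.map σ) ∣ 3 := by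
    rw [← Subgroup.relIndex_ker, ← hK.idx]
    refine relIndex_dvd_of_le_left K ?_
    rw [hσ, Offender.act_ker]
    exact hK.pCoreOf_le_centralizer
  have e : (K.map σ.rangeRestrict).map σ.range.subtype = K.map σ := by
    rw [map_map, MonoidHom.subtype_comp_rangeRestrict]
  have h3 : IsPGroup 3 (K.map σ.rangeRestrict) := by
    have hc' : Nat.card (K.map σ.rangeRestrict) ∣ 3 ^ 1 := by
      rw [← card_map_of_injective σ.range.subtype_injective, e, pow_one]; exact hc
    obtain ⟨j, -, hj⟩ := (Nat.dvd_prime_pow Nat.prime_three).1 hc'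
    exact IsPGroup.of_card hj
  rw [← e]
  exact map_mono (Layer.subnormal_le_pCore (hK.sn.map σ.rangeRestrict_surjective) h3)

/-- Two pieces with meeting four-groups inside one `U`. -/
theorem wOf_le_of_meet {K' : Subgroup X} (hK' : Piece K') (hU : wSub K' = wSub K)
    (hne : Cfsg.wOf K ⊓ Cfsg.wOf K' ≠ ⊥) : Cfsg.wOf K' ≤ Cfsg.wOf K := by
  have : Fact (Nat.Prime 2) := ⟨Nat.prime_two⟩
  have : Fact (Nat.Prime 3) := ⟨Nat.prime_three⟩
  by_contra hWW'
  obtain ⟨x, hx, hx0⟩ := exists_not_mem_core hK.idx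
  obtain ⟨x', hx', hx0'⟩ := exists_not_mem_core hK'.idx
  obtain ⟨-, -, -, hKW, hfpf⟩ := wOf_spec hK.idx hx hx0
  obtain ⟨-, -, -, hKW', hfpf'⟩ := wOf_spec hK'.idx hx' hx0'
  set W := Cfsg.wOf K with hW
  set W' := Cfsg.wOf K' with hW'
  set U := wSub K with hUdef
  have hWU : W ≤ U := wOf_le_wSub K
  have hW'U : W' ≤ U := hU ▸ wOf_le_wSub K'
  have hUe := hK.wSub_ea
  obtain ⟨w₀, ⟨hw₀, hw₀'⟩, hw₀1⟩ := Offender.exists_ne_one_of_ne_bot hne
  have hi2 : Nat.card (W ⊓ W' : Subgroup X) = 2 := by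
    have h1 := card_dvd_of_le (inf_le_right : W ⊓ W' ≤ W')
    rw [hW', hK'.w4] at h1
    have h2 : Nat.card (W ⊓ W' : Subgroup X) ≠ 4 := fun e => hWW'
      (inf_eq_right.1 (eq_of_le_of_card_ge inf_le_right (by rw [e, hW', hK'.w4])))
    have h3 := (one_lt_card_iff_ne_bot _).2 hne
    have h4 := Nat.le_of_dvd (by norm_num) h1
    interval_cases Nat.card (W ⊓ W' : Subgroup X) <;> omega
  set N := W ⊔ W' with hN
  have hNU : N ≤ U := sup_le hWU hW'U
  have hN8 : Nat.card N = 8 := by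
    have h1 := Thompson.card_sup_mul_card_inf_of_comm (show W ≤ centralizer (W' : Set X) from
      hWU.trans ((Thompson.ea_iff.1 hUe).1.trans (centralizer_le hW'U)))
    rw [hi2, hW, hW', hK.w4, hK'.w4, ← hW, ← hW', ← hN] at h1
    omega
  have hconj : ∀ {L : Subgroup X} (hL : Piece L), wSub L = U → Cfsg.wOf L ≤ N → ∀ z ∈ L,
      z ∉ Cfsg.pCoreOf 2 L → z ∈ normalizer (N : Set X) := by
    intro L hL hLU hLN z hz hz0
    refine QdFree.ZJControl.mem_normalizer_of_conj fun u hu => ?_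
    have h1 := hLN (hL.commutator_mem_wOf hz hz0 (hLU.ge (hNU hu)))
    rw [show z * u * z⁻¹ = ⁅u, z⁆⁻¹ * u by simp only [commutatorElement_def]; group]
    exact mul_mem (inv_mem h1) hu
  have hxN := hconj hK rfl le_sup_left x hx hx0
  have hx'N := hconj hK' hU le_sup_right x' hx' hx0'
  set σ := Offender.act U with hσ
  set Y := Subgroup.closure ({x, x'} : Set X) with hY
  have hYN : Y ≤ normalizer (N : Set X) := (closure_le _).2 (by
    rintro z (rfl | rfl)
    exacts [hxN, hx'N])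
  have hY3 : Y ≤ ((Cfsg.pCore 3 σ.range).map σ.range.subtype).comap σ := (closure_le _).2 (by
    rintro z (rfl | rfl)
    · exact hK.map_le_threeCore (mem_map_of_mem _ hx)
    · have h1 := hK'.map_le_threeCore
      have : ∀ (V : Subgroup X) [V.Normal], wSub K' = V → K'.map (Offender.act V) ≤
          (Cfsg.pCore 3 (Offender.act V).range).map (Offender.act V).range.subtype := by
        intro V _ hV
        subst hV
        exact h1
      exact this U hU (mem_map_of_mem _ hx'))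
  have hpow : ∀ y ∈ Y, ∃ k : ℕ, y ^ 3 ^ k ∈ centralizer (U : Set X) := by
    intro y hy
    obtain ⟨k, hk⟩ := (Core.pCore_isPGroup (p := 3) (G := σ.range)).map σ.range.subtype ⟨σ y, hY3 hy⟩
    refine ⟨k, ?_⟩
    rw [← Offender.act_ker, MonoidHom.mem_ker, ← hσ, map_pow]
    exact congrArg Subtype.val hk
  let φ : Y →* MulAut N := N.normalizerMonoidHom.comp (Subgroup.inclusion hYN)
  have hφ : ∀ (y : Y) (n : N), ((φ y) n : X) = (y : X) * n * (y : X)⁻¹ := fun y n => rfl
  have h3 : IsPGroup 3 φ.range := by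
    rintro ⟨_, y, rfl⟩
    obtain ⟨k, hk⟩ := hpow y y.2
    refine ⟨k, Subtype.ext ?_⟩
    show φ y ^ 3 ^ k = 1
    rw [← map_pow]
    refine MulEquiv.ext fun n => Subtype.ext ?_
    rw [hφ]
    show ((y ^ 3 ^ k : Y) : X) * n * ((y ^ 3 ^ k : Y) : X)⁻¹ = n
    rw [Subgroup.coe_pow, ← mem_centralizer_iff.1 hk n (hNU n.2), mul_inv_cancel_right]
  obtain ⟨f, hf1, hfix⟩ : ∃ f : N, f ≠ 1 ∧ f ∈ MulAction.fixedPoints φ.range N := by
    have hmod := h3.card_modEq_card_fixedPoints N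
    rw [hN8] at hmod
    by_contra! hno
    have hle : Nat.card (MulAction.fixedPoints φ.range N) ≤ 1 := by
      rw [Finite.card_le_one_iff_subsingleton]
      refine ⟨fun a b => Subtype.ext ?_⟩
      have h1 : ∀ c : MulAction.fixedPoints φ.range N, (c : N) = 1 := fun c =>
        by_contra fun hc => hno _ hc c.2
      rw [h1 a, h1 b]
    unfold Nat.ModEq at hmod
    interval_cases Nat.card (MulAction.fixedPoints φ.range N) <;> omega
  have hfc : ∀ y ∈ Y, y * (f : X) * y⁻¹ = f := fun y hy => by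
    have h1 := hfix ⟨_, ⟨⟨y, hy⟩, rfl⟩⟩
    have h2 := congrArg Subtype.val h1
    exact h2
  have hxY : x ∈ Y := subset_closure (Or.inl rfl)
  have hx'Y : x' ∈ Y := subset_closure (Or.inr rfl)
  have hfW : (f : X) ∉ W := fun hf => hf1 (Subtype.ext (hfpf f hf
    (mul_inv_eq_iff_eq_mul.1 (hfc x hxY))))
  have hfW' : (f : X) ∉ W' := fun hf => hf1 (Subtype.ext (hfpf' f hf
    (mul_inv_eq_iff_eq_mul.1 (hfc x' hx'Y))))
  have hf2 : (f : X) * f = 1 := SfFree.ea_sq hUe (hNU f.2)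
  have hcos : ∀ n ∈ N, n ∈ W ∨ n * (f : X) ∈ W := by
    intro n hn
    have hWN : W ≤ N := le_sup_left
    have hW2 : W.relIndex N = 2 := by
      have := Coprime.card_mul_relIndex_of_le hWN
      rw [hW, hK.w4, ← hW, hN8] at this
      omega
    by_cases hnW : n ∈ W
    · exact Or.inl hnW
    · right
      have h1 := (Subgroup.mul_mem_iff_of_index_two (H := W.subgroupOf N) hW2
        (a := ⟨n, hn⟩) (b := f)).2
      exact h1 ⟨fun h => absurd h hnW, fun h => absurd h hfW⟩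
  set w₁ := x * w₀ * x⁻¹ with hw₁
  have hw₁W : w₁ ∈ W := (mem_normalizer_iff.1 (hKW hx) _).1 hw₀
  have hw₁ne : w₁ ≠ w₀ := fun e => hw₀1 (hfpf w₀ hw₀ (mul_inv_eq_iff_eq_mul.1 e))
  have hw₁1 : w₁ ≠ 1 := fun e => hw₀1 (conj_eq_one_iff.1 e)
  have hxx : x * x * w₀ * (x * x)⁻¹ = w₀ * w₁ := by
    set z := x * w₁ * x⁻¹ with hz
    have e0 : x * x * w₀ * (x * x)⁻¹ = z := by rw [hz, hw₁]; group
    have hzW : z ∈ W := (mem_normalizer_iff.1 (hKW hx) _).1 hw₁W
    have hx3 : x * z * x⁻¹ = w₀ := by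
      rw [show x * z * x⁻¹ = x ^ 3 * w₀ * (x ^ 3)⁻¹ by
        simp only [hz, hw₁, pow_succ, pow_zero, one_mul]; group,
        ← mem_centralizer_iff.1 (hK.pCoreOf_le_centralizer (core_cosets hK.idx hx hx0).1) w₀
          (hWU hw₀), mul_inv_cancel_right]
    have hcom : ∀ a ∈ W, ∀ b ∈ W, Commute a b := fun a ha b hb =>
      SfFree.ea_commute hUe (hWU ha) (hWU hb)
    have hfix : w₀ * w₁ * z = 1 := by
      refine hfpf _ (mul_mem (mul_mem hw₀ hw₁W) hzW) (mul_inv_eq_iff_eq_mul.1 ?_)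
      rw [show x * (w₀ * w₁ * z) * x⁻¹ = (x * w₀ * x⁻¹) * (x * w₁ * x⁻¹) * (x * z * x⁻¹) by group,
        ← hw₁, ← hz, hx3, ((hcom w₀ hw₀ w₁ hw₁W).mul_right (hcom w₀ hw₀ z hzW)).symm.eq, ← mul_assoc]
    rw [e0, ← mul_one z, ← hfix]
    calc z * (w₀ * w₁ * z) = (w₀ * w₁) * (z * z) := by
          rw [← mul_assoc, (hcom z hzW _ (mul_mem hw₀ hw₁W)).eq, mul_assoc]
      _ = w₀ * w₁ := by rw [SfFree.ea_sq hUe (hWU hzW), mul_one]
  have hW4' : ∀ q ∈ W, q = 1 ∨ q = w₀ ∨ q = w₁ ∨ q = w₀ * w₁ := by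
    intro q hq
    have hsub : ({1, w₀, w₁, w₀ * w₁} : Set X) ⊆ (W : Set X) := by
      rintro z (rfl | rfl | rfl | rfl)
      exacts [one_mem _, hw₀, hw₁W, mul_mem hw₀ hw₁W]
    have hc : ({1, w₀, w₁, w₀ * w₁} : Set X).ncard = 4 := by
      have a1 : w₀ ≠ w₀ * w₁ := fun e => hw₁1 (mul_eq_left.1 e.symm)
      have a2 : w₁ ≠ w₀ * w₁ := fun e => hw₀1 (mul_eq_right.1 e.symm)
      have a3 : (1 : X) ≠ w₀ * w₁ := fun e => hw₁ne (by
        have h := inv_eq_of_mul_eq_one_left e.symm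
        rw [inv_eq_of_mul_eq_one_left (SfFree.ea_sq hUe (hWU hw₁W))] at h
        exact h)
      rw [Set.ncard_insert_of_notMem (by
          simp only [Set.mem_insert_iff, Set.mem_singleton_iff, not_or]
          exact ⟨hw₀1.symm, hw₁1.symm, a3⟩),
        Set.ncard_insert_of_notMem (by
          simp only [Set.mem_insert_iff, Set.mem_singleton_iff, not_or]
          exact ⟨hw₁ne.symm, a1⟩),
        Set.ncard_pair a2]
    have heq := Set.eq_of_subset_of_ncard_le hsub (by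
      rw [hc, ← Nat.card_coe_set_eq, SetLike.coe_sort_coe, hW, hK.w4]) (Set.toFinite _)
    have hq' : q ∈ (W : Set X) := hq
    rw [← heq] at hq'
    exact hq'
  set v := x' * w₀ * x'⁻¹ with hv
  have hvW' : v ∈ W' := (mem_normalizer_iff.1 (hKW' hx') _).1 hw₀'
  have hv1 : v ≠ 1 := fun e => hw₀1 (conj_eq_one_iff.1 e)
  have hvne : v ≠ w₀ := fun e => hw₀1 (hfpf' w₀ hw₀' (mul_inv_eq_iff_eq_mul.1 e))
  have hvW : v ∉ W := fun hvW => hWW' fun z hz => by
    have hle : ({1, w₀, v} : Set X) ⊆ ((W ⊓ W' : Subgroup X) : Set X) := by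
      rintro t (rfl | rfl | rfl)
      exacts [one_mem _, ⟨hw₀, hw₀'⟩, ⟨hvW, hvW'⟩]
    have := Set.ncard_le_ncard hle (Set.toFinite _)
    rw [Set.ncard_insert_of_notMem (by
        simp only [Set.mem_insert_iff, Set.mem_singleton_iff, not_or]
        exact ⟨hw₀1.symm, hv1.symm⟩), Set.ncard_pair hvne.symm, ← Nat.card_coe_set_eq,
      SetLike.coe_sort_coe, hi2] at this
    omega
  have hvN : v ∈ N := mem_sup_right hvW'
  have hq := hW4' _ ((hcos v hvN).resolve_left hvW)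
  have hve : v = v * f * f := by rw [mul_assoc, hf2, mul_one]
  obtain ⟨e, heY, he⟩ : ∃ e ∈ Y, v * (f : X) = e * w₀ * e⁻¹ := by
    rcases hq with h | h | h | h
    · exfalso
      rw [h, one_mul] at hve
      exact hfW' (hve ▸ hvW')
    · exfalso
      refine hfW' ?_
      rw [show (f : X) = v⁻¹ * w₀ by rw [← h]; group]
      exact mul_mem (inv_mem hvW') hw₀'
    · exact ⟨x, hxY, h⟩
    · exact ⟨x * x, mul_mem hxY hxY, h.trans hxx.symm⟩
  set g := e⁻¹ * x' with hg
  have hgY : g ∈ Y := mul_mem (inv_mem heY) hx'Y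
  have hcwf : ∀ n : ℕ, g ^ n * w₀ * (g ^ n)⁻¹ = w₀ * (f : X) ^ n := by
    intro n
    induction n with
    | zero => simp
    | succ n ih =>
      have h1 : g * w₀ * g⁻¹ = w₀ * f := by
        rw [show g * w₀ * g⁻¹ = e⁻¹ * v * e⁻¹⁻¹ by rw [hg, hv]; group]
        rw [hve, he, show e⁻¹ * (e * w₀ * e⁻¹ * f) * e⁻¹⁻¹ = w₀ * (e⁻¹ * f * e⁻¹⁻¹) by group,
          hfc _ (inv_mem heY)]
      calc g ^ (n + 1) * w₀ * (g ^ (n + 1))⁻¹ = g * (g ^ n * w₀ * (g ^ n)⁻¹) * g⁻¹ := by
            rw [pow_succ']; group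
        _ = (g * w₀ * g⁻¹) * (g * (f : X) ^ n * g⁻¹) := by rw [ih]; group
        _ = _ := by rw [h1, ← conj_pow, hfc g hgY, pow_succ', mul_assoc]
  obtain ⟨k, hk⟩ := hpow g hgY
  have h1 := hcwf (3 ^ k)
  rw [← mem_centralizer_iff.1 hk w₀ (hWU hw₀), mul_inv_cancel_right] at h1
  have h2 : (f : X) ^ 3 ^ k = f := by
    obtain ⟨j, hj⟩ := (Odd.pow (by decide : Odd 3) : Odd (3 ^ k))
    rw [hj, pow_succ, pow_mul, pow_two, hf2, one_pow, one_mul]
  rw [h2] at h1
  exact hf1 (Subtype.ext (mul_eq_left.1 h1.symm))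

/-- The elementary abelian subgroups of largest order normalize `W`. -/
theorem le_normalizer_of_max (hsolv : Group.IsSolvable X) {P : Subgroup X}
    (hP : P ∈ Cfsg.maxElementaryAbelianSubgroups 2 X) :
    P ≤ normalizer (Cfsg.wOf K : Set X) := by
  have : Fact (Nat.Prime 2) := ⟨Nat.prime_two⟩
  set U := wSub K with hU
  set W := Cfsg.wOf K with hW
  set σ := Offender.act U with hσ
  have hUe := hK.wSub_ea
  have hff : Offender.FF 2 (Offender.emb U U)
      ((Cfsg.thompsonSubgroupOf 2 (⊤ : Subgroup X)).map σ) := by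
    have := hsolv
    refine Offender.ff_of_thompson (Fusion.isPSolvable_of_isSolvable _) le_top hUe ?_
    rw [← MonoidHom.range_eq_map]
    refine Offender.pCore_range_eq_bot _ (Offender.pCore_quotient_eq_bot ?_)
    intro D hDn hCD hk
    obtain ⟨n, hn⟩ := hk
    rw [Offender.act_ker] at hCD hn ⊢
    exact le_antisymm (hK.centralizer_eq hDn hCD hn) hCD
  have hPJ : P ≤ Cfsg.thompsonSubgroupOf 2 (⊤ : Subgroup X) :=
    Thompson.le_thompsonOf le_top hP.1 fun B _ hB => hP.2 B hB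
  have hoff : Cfsg.IsBestOffenderOn 2 (Offender.emb U U) (P.map σ) := by
    have hoff := S0606.result U hUe P hP
    refine ⟨fun B hB => ?_, ?_, fun a ha => ?_⟩
    · set B₀ := P ⊓ B.comap σ with hB₀
      have hmap : B₀.map σ = B := by
        refine le_antisymm (map_le_iff_le_comap.2 inf_le_right) fun b hb => ?_
        obtain ⟨a, ha, rfl⟩ := hB hb
        exact ⟨a, ⟨ha, hb⟩, rfl⟩
      have hker : B₀ ⊓ centralizer (U : Set X) = P ⊓ centralizer (U : Set X) := by
        refine le_antisymm (inf_le_inf_right _ inf_le_left) fun z hz => ⟨⟨hz.1, ?_⟩, hz.2⟩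
        show σ z ∈ B
        have hz1 : σ z = 1 := MonoidHom.mem_ker.1 (Offender.act_ker.ge hz.2)
        rw [hz1]
        exact one_mem _
      have key := hoff.1 B₀ inf_le_left
      rw [← Offender.card_map_act_mul (V := U) B₀, ← Offender.card_map_act_mul (V := U) P, hker,
        ← hσ, hmap] at key
      rw [← hmap, Offender.fix_act, Offender.fix_act, Offender.card_emb inf_le_left,
        Offender.card_emb inf_le_left, hmap]
      refine Nat.le_of_mul_le_mul_right ?_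
        (Nat.card_pos (α := (P ⊓ centralizer (U : Set X) : Subgroup X)))
      linarith
    · rw [commutator_eq_bot_iff_le_centralizer.2
        (Thompson.ea_iff.1 (Thompson.ea_map hP.1 σ)).1]
      exact bot_le
    · rw [(Thompson.ea_iff.1 (Thompson.ea_map hP.1 σ)).2 a ha]
      exact one_mem _
  have hCN : centralizer (U : Set X) ≤ normalizer (W : Set X) :=
    (centralizer_le (wOf_le_wSub K)).trans (centralizer_le_normalizer _)
  obtain ⟨k, B, hB, -, hsup⟩ := hff.exists_lines (map_mono hPJ) hoff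
  by_cases hall : ∀ i, B i ≤ (P ⊓ normalizer (W : Set X)).map σ
  · intro p hp
    obtain ⟨n, ⟨-, hn⟩, hnp⟩ := (hsup.ge.trans (iSup_le hall)) (mem_map_of_mem σ hp)
    have h1 : n⁻¹ * p ∈ centralizer (U : Set X) := by
      rw [← Offender.act_ker, MonoidHom.mem_ker, ← hσ, map_mul, map_inv, hnp, inv_mul_cancel]
    rw [show p = n * (n⁻¹ * p) by group]
    exact mul_mem hn (hCN h1)
  exfalso
  push Not at hall
  obtain ⟨i, hi⟩ := hall
  obtain ⟨α, -, hα⟩ := Offender.exists_gen (hB i).2.card_eq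
  obtain ⟨a, ha, haα⟩ := (hB i).1 (hα ▸ mem_zpowers α)
  have haW : a ∉ normalizer (W : Set X) := fun h => hi (by
    rw [← hα, zpowers_le, ← haα]
    exact mem_map_of_mem _ ⟨ha, h⟩)
  have hA : B i = (zpowers a).map σ := by rw [MonoidHom.map_zpowers, haα, hα]
  have hfix : Nat.card (U ⊓ centralizer (zpowers a : Set X) : Subgroup X) * 2 = Nat.card U := by
    have h1 := (hB i).2.card_fix
    rw [hA, Offender.fix_act, Offender.card_emb inf_le_left, Offender.card_emb le_rfl] at h1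
    exact h1
  have hmeet : W ⊓ centralizer (zpowers a : Set X) ≠ ⊥ := by
    intro e
    have h1 := SfFree.card_mul_card_le W (U ⊓ centralizer (zpowers a : Set X))
    rw [← inf_assoc, inf_eq_left.2 (wOf_le_wSub K), e, card_bot, mul_one, hW, hK.w4] at h1
    have h2 := SfFree.card_le_card_of_le (sup_le (wOf_le_wSub K)
      (inf_le_left : U ⊓ centralizer (zpowers a : Set X) ≤ U))
    have h3 : 0 < Nat.card U := Nat.card_pos
    have h4 := h1.trans h2
    linarith
  have hK' := hK.cj a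
  have hWc : Cfsg.wOf (SfFree.cj a K) = SfFree.cj a W :=
    (wOf_map (f := (MulAut.conj a).toMonoidHom) (MulAut.conj a).injective K).symm
  have hUc : wSub (SfFree.cj a K) = U := by
    refine le_antisymm (iSup_le fun y => ?_) (iSup_le fun y => ?_)
    · rw [hWc, SfFree.cj_cj]; exact le_iSup (fun t : X => SfFree.cj t W) (y * a)
    · refine le_iSup_of_le (y * a⁻¹) ?_
      rw [hWc, SfFree.cj_cj, inv_mul_cancel_right]
  have hne' : W ⊓ Cfsg.wOf (SfFree.cj a K) ≠ ⊥ := by
    obtain ⟨w, hw, hw1⟩ := Offender.exists_ne_one_of_ne_bot hmeet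
    intro e
    refine hw1 (Subgroup.mem_bot.1 (e ▸ ⟨hw.1, ?_⟩))
    rw [SetLike.mem_coe, Subgroup.mem_toSubmonoid, hWc, SfFree.mem_cj]
    have h1 : a * w = w * a := Offender.mem_centralizer_zpowers.1 hw.2
    rw [show a⁻¹ * w * a = w by rw [mul_assoc, ← h1]; group]
    exact hw.1
  refine haW (mem_normalizer_iff_map_conj_eq.2 ?_)
  show SfFree.cj a W = W
  rw [← hWc]
  exact eq_of_le_of_card_ge (hK.wOf_le_of_meet hK' hUc hne')
    (by rw [hW, hK.w4, hK'.w4])

end Piece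

end Cfsg.Agent.ZNComp
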