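import Cfsg.Agent.ZNComp.Four

/-!
# `Ω₁(Z(J(T)))` and a component

`fix_decomp` : `Ω₁(Z(J))` is the product of its fixed points under `K J` and a group of order 2.
-/

set_option autoImplicit false

namespace Cfsg.Agent.ZNComp

open Subgroup
open scoped commutatorElement
open SfFree (cj Mem jS)

variable {G : Type*} [Group G] [Finite G]

theorem fix_decomp {T K : Subgroup G} (hT : IsPGroup 2 T) (hK : Cfsg.IsJComponent T K) :
    let Z₀ := Cfsg.omegaCenterOf (Cfsg.thompsonSubgroupOf 2 T)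
    Nat.card ↥(Z₀ ⊓ Cfsg.wOf K) = 2 ∧
      (Z₀ ⊓ ((K ⊔ Cfsg.thompsonSubgroupOf 2 T) ⊓
        centralizer ((K ⊔ Cfsg.thompsonSubgroupOf 2 T : Subgroup G) : Set G))) ⊔ (Z₀ ⊓ Cfsg.wOf K) = Z₀ := by
  have : Fact (Nat.Prime 2) := ⟨Nat.prime_two⟩
  obtain ⟨hodd, hKJ, h3, hsyl, hW4, -⟩ := hK
  rw [thompson_eq_jS] at hKJ hsyl ⊢
  intro Z₀
  set J := jS T with hJ
  set O := Cfsg.pCoreOf 2 K with hO
  set W := Cfsg.wOf K with hW
  set X := K ⊔ J with hX
  obtain ⟨x, hx, hx0⟩ : ∃ x ∈ K, x ∉ O := by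
    by_contra! h
    rw [relIndex_eq_one.2 h] at h3
    norm_num at h3
  obtain ⟨hWU, hWe, hOW, hKW, hfpf⟩ := wOf_spec h3 hx hx0
  have hJ2 : IsPGroup 2 J := hT.to_le (SfFree.jS_le T)
  have hJK : J ≤ normalizer (K : Set G) := le_normalizer_of_commutator_eq hKJ
  have hJO : J ≤ normalizer (O : Set G) := hJK.trans (normalizer_le_core K)
  have hKO : K ≤ normalizer (O : Set G) := le_normalizer.trans (normalizer_le_core K)
  have hOK : O ≤ K := core_le K
  have hJW : J ≤ normalizer (W : Set G) := hJK.trans (normalizer_le_wOf K)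
  have hWO : W ≤ O := hWU.trans ((Thompson.omegaOne_le 2 _).trans inf_le_left)
  set S := O ⊔ J with hS
  have hS2 : IsPGroup 2 S := (core_isPGroup K).to_sup_of_normal_left' hJ2 hJO
  have hJS : J ≤ S := le_sup_right
  have hSsyl : Cfsg.IsSylowTwoIn S X := by
    refine ⟨sup_le (hOK.trans le_sup_left) le_sup_right, hS2, ?_⟩
    have e1 := SfFree.card_sup_mul hJK
    have e2 := SfFree.card_sup_mul hJO
    have hKJO : K ⊓ J = O ⊓ J := by
      refine le_antisymm (le_inf ?_ inf_le_right) (inf_le_inf_right _ hOK)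
      rintro k ⟨hk, hkJ⟩
      by_contra hk0
      have hk3 := (core_cosets h3 hk hk0).1
      obtain ⟨m, hm⟩ := hJ2 ⟨k, hkJ⟩
      have hm' : k ^ 2 ^ m = 1 := congrArg Subtype.val hm
      refine hk0 (zpowers_le.2 hk3 (SfFree.self_mem_zpowers_pow ?_))
      exact Nat.Coprime.coprime_dvd_right (orderOf_dvd_of_pow_eq_one hm')
        (Nat.Coprime.pow_right m (by norm_num))
    rw [hKJO] at e1
    have hcard : Nat.card X = 3 * Nat.card S := by
      have h := Coprime.card_mul_relIndex_of_le hOK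
      rw [h3] at h
      refine Nat.eq_of_mul_eq_mul_right (Nat.card_pos (α := (O ⊓ J : Subgroup G))) ?_
      rw [e1, mul_assoc, e2, ← h]; ring
    have h := Coprime.card_mul_relIndex_of_le
      (sup_le (hOK.trans le_sup_left) le_sup_right : S ≤ X)
    rw [hcard, mul_comm 3] at h
    rw [Nat.eq_of_mul_eq_mul_left Nat.card_pos h]
    decide
  have hJSeq : jS S = J := by
    have h := hsyl S hSsyl hJS
    rwa [thompson_eq_jS] at h
  have hmemS : ∀ P, Mem T P → Mem S P := fun P hP => by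
    refine ⟨(SfFree.le_jS hP).trans hJS, hP.2.1, fun B hB hBe => ?_⟩
    obtain ⟨B₀, hB₀⟩ := SfFree.exists_mem S
    exact (hB₀.2.2 B hB hBe).trans (hP.2.2 B₀ (((SfFree.le_jS hB₀).trans hJSeq.le).trans
      (SfFree.jS_le T)) hB₀.2.1)
  obtain ⟨A, hA, hAnt⟩ : ∃ A, Mem T A ∧ ¬ A ≤ Triv K := by
    by_contra! h
    have hJt : J ≤ Triv K := iSup₂_le h
    have hKO' : K ≤ O := by
      conv_lhs => rw [← hKJ]
      rw [commutator_le]
      exact fun k hk j hj => (hJt hj).2 k hk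
    exact hx0 (hKO' hx)
  obtain ⟨a, ha, ha'⟩ := SetLike.not_le_iff_exists.1 hAnt
  have haJ : a ∈ J := SfFree.le_jS hA ha
  have ha2 : a * a = 1 := SfFree.ea_sq hA.2.1 ha
  set C := W ⊓ centralizer (zpowers a : Set G) with hC
  have hW1 : W ≠ ⊥ := fun h => by
    rw [h, card_bot] at hW4
    norm_num at hW4
  have hCx : C ⊓ cj x C = ⊥ := by
    rw [eq_bot_iff]
    rintro w ⟨hw, hw'⟩
    exact Subgroup.mem_bot.2 (fix_inverted h3 hx hx0 ha2 (hJK haJ) ha' w hw.1
      (mem_centralizer_iff.1 hw.2 a (mem_zpowers a))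
      (SfFree.commute_conj (mem_centralizer_iff.1 (SfFree.mem_cj.1 hw').2 a (mem_zpowers a))))
  have hxW : cj x W = W := SfFree.cj_of_mem_normalizer (hKW hx)
  have hCle := SfFree.card_mul_card_le C (cj x C)
  rw [hCx, card_bot, mul_one, SfFree.card_cj] at hCle
  have hCW : C ⊔ cj x C ≤ W := sup_le inf_le_left ((SfFree.cj_mono inf_le_left).trans hxW.le)
  have hC2 : Nat.card C = 2 := by
    have h1 := card_le_sq hWe (hJW haJ) ha2
    rw [hW4, ← hC] at h1
    have h2 := hCle.trans (SfFree.card_le_card_of_le hCW)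
    rw [hW4] at h2
    rcases Nat.lt_trichotomy (Nat.card C) 2 with h | h | h
    · interval_cases (Nat.card C) <;> omega
    · exact h
    · nlinarith
  have hCWeq : C ⊔ cj x C = W := eq_of_le_of_card_ge hCW (by
    rw [hC2] at hCle; rw [hW4]; exact hCle)
  -- `C` is central in `S`
  have hCS : C ≤ centralizer (S : Set G) := by
    have hne : W ⊓ centralizer (S : Set G) ≠ ⊥ :=
      exists_fixed hS2 (Thompson.ea_isPGroup hWe) hW1
        (sup_le ((hOW).trans (centralizer_le_normalizer _)) hJW)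
    have hle : W ⊓ centralizer (S : Set G) ≤ C :=
      inf_le_inf_left _ (centralizer_le (zpowers_le.2 (hJS haJ)))
    have h1 := (one_lt_card_iff_ne_bot _).2 hne
    rw [← eq_of_le_of_card_ge hle (by rw [hC2]; omega)]
    exact inf_le_right
  have hCS' : C ≤ S := (inf_le_left : C ≤ W).trans (hWO.trans le_sup_left)
  have hCe : Cfsg.IsElementaryAbelian 2 C := Thompson.ea_mono hWe inf_le_left
  have hZ₀J : Z₀ ≤ J := (Thompson.omegaOne_le 2 _).trans inf_le_left
  have hJZ : J ≤ centralizer (Z₀ : Set G) :=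
    Subgroup.le_centralizer_iff.1 ((Thompson.omegaOne_le 2 _).trans inf_le_right)
  have hZe : Cfsg.IsElementaryAbelian 2 Z₀ := Thompson.omegaOne_centre_ea 2 _
  have hZmem : ∀ P, Mem S P → Z₀ ≤ P := fun P hP =>
    hP.le_of_centralizer (hZ₀J.trans hJS) hZe (Subgroup.le_centralizer_iff.1
      ((((SfFree.le_jS hP)).trans hJSeq.le).trans hJZ))
  have hCJ : C ≤ J := by
    have hAS := hmemS A hA
    exact (hAS.le_of_centralizer hCS' hCe (hCS.trans (centralizer_le hAS.1))).trans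
      (SfFree.le_jS hA)
  have hCZ : C ≤ Z₀ := fun w hw => Thompson.mem_omegaOne
    ⟨hCJ hw, centralizer_le hJS (hCS hw)⟩ (hWe.2 w hw.1)
  have hZW : Z₀ ⊓ W = C := by
    refine le_antisymm (fun z hz => ⟨hz.2, mem_centralizer_iff.2 ?_⟩) (le_inf hCZ inf_le_left)
    rintro y hy
    exact mem_centralizer_iff.1
      ((Subgroup.le_centralizer_iff.1 hJZ) hz.1) y (zpowers_le.2 haJ hy)
  refine ⟨by rw [hZW]; exact hC2, ?_⟩
  -- largest subgroups and their replacements
  have hrepl : ∀ P, Mem S P → ¬ P ≤ Triv K → Mem S ((P ⊓ Triv K) ⊔ W) ∧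
      (P ⊓ Triv K) ⊔ W ≤ Triv K ∧ P ⊓ Triv K ≤ centralizer (W : Set G) := by
    intro P hP hPn
    obtain ⟨p, hp, hp'⟩ := SetLike.not_le_iff_exists.1 hPn
    have hPJ : P ≤ J := (SfFree.le_jS hP).trans hJSeq.le
    have hPK : P ≤ normalizer (K : Set G) := hPJ.trans hJK
    have h2 : Nat.card P ≤ 2 * Nat.card (P ⊓ Triv K : Subgroup G) :=
      SfFree.card_le_mul_of_relIndex inf_le_left
        (SfFree.relIndex_le_two hp (triv_coset h3 hP.2.1 hPK hp hp'))
    have hcen : P ⊓ Triv K ≤ centralizer (W : Set G) := by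
      rw [← hCWeq, Thompson.centralizer_sup]
      refine le_inf ((inf_le_left.trans hP.1).trans (Subgroup.le_centralizer_iff.1 hCS))
        fun b hb => mem_centralizer_iff.2 ?_
      rintro _ ⟨w, hw, rfl⟩
      have h1 : b * w * b⁻¹ = w := by
        rw [mem_centralizer_iff.1 (hCS hw) b (hP.1 hb.1), mul_inv_cancel_right]
      have h2 := triv_commutes h3 hx hx0 (hPK hb.1) hb.2 w hw.1
      rw [h1] at h2
      simp only [MulEquiv.coe_toMonoidHom, MulAut.conj_apply]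
      exact (mul_inv_eq_iff_eq_mul.1 h2).symm
    refine ⟨hP.of_card (sup_le (inf_le_left.trans hP.1) (hWO.trans le_sup_left))
      (Thompson.ea_sup (Thompson.ea_mono hP.2.1 inf_le_left) hWe hcen) ?_, ?_, hcen⟩
    · have h3' := SfFree.card_mul_card_le (P ⊓ Triv K) W
      have h4 : Nat.card ((P ⊓ Triv K) ⊓ W : Subgroup G) ≤ 2 := by
        set Cp := W ⊓ centralizer (zpowers p : Set G) with hCp
        have hp2 : p * p = 1 := SfFree.ea_sq hP.2.1 hp
        have hd : Cp ⊓ cj x Cp = ⊥ := by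
          rw [eq_bot_iff]
          rintro w ⟨hw, hw'⟩
          exact Subgroup.mem_bot.2 (fix_inverted h3 hx hx0 hp2 (hJK (hPJ hp)) hp' w hw.1
            (mem_centralizer_iff.1 hw.2 p (mem_zpowers p))
            (SfFree.commute_conj (mem_centralizer_iff.1 (SfFree.mem_cj.1 hw').2 p (mem_zpowers p))))
        have hc := SfFree.card_mul_card_le Cp (cj x Cp)
        rw [hd, card_bot, mul_one, SfFree.card_cj] at hc
        have hc' := hc.trans (SfFree.card_le_card_of_le (sup_le (inf_le_left : Cp ≤ W)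
          ((SfFree.cj_mono inf_le_left).trans hxW.le)))
        rw [hW4] at hc'
        have hCp2 : Nat.card Cp ≤ 2 := by
          by_contra! hlt
          have := (Nat.mul_le_mul hlt hlt).trans hc'
          norm_num at this
        refine le_trans (SfFree.card_le_card_of_le (le_inf inf_le_right ?_ : _ ≤ Cp)) hCp2
        exact (inf_le_left.trans inf_le_left).trans ((Thompson.ea_iff.1 hP.2.1).1.trans
          (centralizer_le (zpowers_le.2 hp)))
      rw [hW4] at h3'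
      calc Nat.card P ≤ 2 * Nat.card (P ⊓ Triv K : Subgroup G) := h2
        _ ≤ Nat.card ((P ⊓ Triv K) ⊔ W : Subgroup G) := by
          have := h3'.trans (Nat.mul_le_mul le_rfl h4)
          omega
    · exact sup_le inf_le_right fun w hw => ⟨hKO (hOK (hWO hw)), fun v hv => by
        rw [commutatorElement_def]
        exact mul_mem ((mem_normalizer_iff.1 (hKO hv) w).1 (hWO hw)) (inv_mem (hWO hw))⟩
  obtain ⟨hB0, hB0t, -⟩ := hrepl A (hmemS A hA) hAnt
  set B₀ := (A ⊓ Triv K) ⊔ W with hB₀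
  -- `X` normalizes `S ⊓ Triv K`
  have hXK : X ≤ normalizer (K : Set G) := sup_le le_normalizer hJK
  have hKtriv : ∀ k ∈ K, ∀ t ∈ S ⊓ Triv K, k * t * k⁻¹ ∈ S ⊓ Triv K := by
    intro k hk t ht
    have h1 : ⁅k, t⁆ ∈ O := ht.2.2 k hk
    rw [show k * t * k⁻¹ = ⁅k, t⁆ * t by simp only [commutatorElement_def]; group]
    refine ⟨S.mul_mem (mem_sup_left h1) ht.1,
      (Triv K).mul_mem ⟨hKO (hOK h1), fun v hv => ?_⟩ ht.2⟩
    rw [commutatorElement_def]
    exact mul_mem ((mem_normalizer_iff.1 (hKO hv) _).1 h1) (inv_mem h1)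
  have hXtriv : X ≤ normalizer ((S ⊓ Triv K : Subgroup G) : Set G) := by
    refine sup_le (fun k hk => QdFree.ZJControl.mem_normalizer_of_conj fun t ht => hKtriv k hk t ht)
      (fun j hj => QdFree.ZJControl.mem_normalizer_of_conj fun t ht => ⟨?_, ?_⟩)
    · exact S.mul_mem (S.mul_mem (hJS hj) ht.1) (S.inv_mem (hJS hj))
    · refine ⟨?_, fun v hv => ?_⟩
      · exact (normalizer (O : Set G)).mul_mem ((normalizer (O : Set G)).mul_mem (hJO hj) ht.2.1)
          ((normalizer (O : Set G)).inv_mem (hJO hj))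
      · have h1 := ht.2.2 (j⁻¹ * v * j) ((mem_normalizer_iff''.1 (hJK hj) v).1 hv)
        have h2 := (mem_normalizer_iff.1 (hJO hj) _).1 h1
        rwa [show j * ⁅j⁻¹ * v * j, t⁆ * j⁻¹ = ⁅v, j * t * j⁻¹⁆ by
          simp only [commutatorElement_def]; group] at h2
  set U₁ : Subgroup G := ⨆ y : X, cj (y : G) Z₀ with hU₁
  have hU₁le : ∀ P, Mem S P → P ≤ Triv K → U₁ ≤ P := by
    intro P hP hPt
    refine iSup_le fun y => ?_
    have hle : cj (y : G)⁻¹ P ≤ S ⊓ Triv K := (SfFree.cj_mono (le_inf hP.1 hPt)).trans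
      (SfFree.cj_of_mem_normalizer (inv_mem (hXtriv y.2))).le
    have hmem := hP.of_card (hle.trans inf_le_left) (SfFree.ea_cj hP.2.1) (SfFree.card_cj _ _).ge
    refine (SfFree.cj_mono (hZmem _ hmem)).trans ?_
    rw [SfFree.cj_cj, mul_inv_cancel, SfFree.cj_one]
  have hXW : X ≤ normalizer (W : Set G) := sup_le hKW hJW
  have hXU : ∀ y ∈ X, ∀ u ∈ U₁, y * u * y⁻¹ ∈ U₁ := by
    intro y hy u hu
    have h1 : cj y U₁ ≤ U₁ := by
      rw [hU₁, cj, Subgroup.map_iSup]
      refine iSup_le fun z => ?_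
      show cj y (cj (z : G) Z₀) ≤ _
      rw [SfFree.cj_cj]
      exact le_iSup (fun t : X => cj (t : G) Z₀) ⟨y * z, mul_mem hy z.2⟩
    exact h1 ⟨u, hu, rfl⟩
  set M := Offender.stab U₁ W with hM
  have hPM : ∀ P, Mem S P → P ≤ M := by
    intro P hP p hp
    have hPJ : P ≤ J := (SfFree.le_jS hP).trans hJSeq.le
    refine ⟨hJW (hPJ hp), fun u hu => ?_⟩
    by_cases hPt : P ≤ Triv K
    · rw [commutatorElement_eq_one_iff_commute.2 (SfFree.ea_commute hP.2.1 (hU₁le P hP hPt hu) hp)]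
      exact one_mem _
    obtain ⟨hB, hBt, hcen⟩ := hrepl P hP hPt
    have hu' := hU₁le _ hB hBt hu
    rw [← SetLike.mem_coe, coe_mul_of_left_le_normalizer_right _ _
      (hcen.trans (centralizer_le_normalizer _))] at hu'
    obtain ⟨b, hb, w, hw, rfl⟩ := hu'
    have h1 : ⁅w, p⁆ ∈ W := by
      rw [commutatorElement_def, mul_assoc w, mul_assoc w]
      exact mul_mem hw ((mem_normalizer_iff.1 (hJW (hPJ hp)) _).1 (inv_mem hw))
    have h2 : ⁅b * w, p⁆ = b * ⁅w, p⁆ * b⁻¹ * ⁅b, p⁆ := by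
      simp only [commutatorElement_def]; group
    show ⁅b * w, p⁆ ∈ W
    rw [h2, commutatorElement_eq_one_iff_commute.2 (SfFree.ea_commute hP.2.1 hb.1 hp), mul_one]
    exact (mem_normalizer_iff.1 (centralizer_le_normalizer _ (hcen hb)) _).1 h1
  have hJM : J ≤ M := hJSeq.ge.trans (iSup₂_le hPM)
  have hXM : ∀ y ∈ X, ∀ m ∈ M, y * m * y⁻¹ ∈ M := by
    intro y hy m hm
    refine ⟨mul_mem (mul_mem (hXW hy) hm.1) (inv_mem (hXW hy)), fun u hu => ?_⟩
    have h1 := hm.2 _ (hXU y⁻¹ (inv_mem hy) u hu)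
    have h2 := (mem_normalizer_iff.1 (hXW hy) _).1 h1
    rwa [show y * ⁅y⁻¹ * u * y⁻¹⁻¹, m⁆ * y⁻¹ = ⁅u, y * m * y⁻¹⁆ by
      simp only [commutatorElement_def]; group] at h2
  have hXleM : X ≤ M := by
    refine sup_le ?_ hJM
    conv_lhs => rw [← hKJ]
    rw [commutator_le]
    intro k hk j hj
    rw [commutatorElement_def]
    exact mul_mem (hXM k (mem_sup_left hk) j (hJM hj)) (inv_mem (hJM hj))
  have hU₁B : U₁ ≤ B₀ := hU₁le _ hB0 hB0t
  have hB₀J : B₀ ≤ J := (SfFree.le_jS hB0).trans hJSeq.le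
  have hZU : Z₀ ≤ U₁ := le_iSup_of_le (1 : X) (SfFree.cj_one Z₀).ge
  have hconjW : ∀ z ∈ Z₀, ∀ y ∈ X, z⁻¹ * (y * z * y⁻¹) ∈ W := by
    intro z hz y hy
    have h1 := (hXleM hy).2 z⁻¹ (inv_mem (hZU hz))
    rwa [commutatorElement_def, inv_inv, mul_assoc z⁻¹, mul_assoc z⁻¹] at h1
  -- `O` centralizes `Z₀`
  have hOZ : ∀ z ∈ Z₀, ∀ o ∈ O, Commute z o := by
    have hSZ : S ≤ normalizer (Z₀ : Set G) :=
      (hJSeq ▸ SfFree.le_normalizer_jS S).trans (normalizer_le_omegaCenter J)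
    have hmem : ∀ z ∈ Z₀, ∀ o ∈ O, ⁅z, o⁆ ∈ C := fun z hz o ho => by
      rw [← hZW]
      refine ⟨?_, (hXleM (mem_sup_left (hOK ho))).2 z (hZU hz)⟩
      rw [commutatorElement_def, mul_assoc z, mul_assoc z]
      exact mul_mem hz ((mem_normalizer_iff.1 (hSZ (mem_sup_left ho)) _).1 (inv_mem hz))
    intro z hz o ho
    rw [← commutatorElement_eq_one_iff_commute]
    set o' := x * o * x⁻¹ with ho'
    have ho'O : o' ∈ O := (mem_normalizer_iff.1 (hKO hx) o).1 ho
    obtain ⟨w, hw, hwz⟩ : ∃ w ∈ W, x * z * x⁻¹ = z * w :=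
      ⟨_, hconjW z hz x (mem_sup_left hx), by group⟩
    have h1 : x * ⁅z, o⁆ * x⁻¹ ∈ C := by
      have e : x * ⁅z, o⁆ * x⁻¹ = ⁅z, o'⁆ := by
        rw [show x * ⁅z, o⁆ * x⁻¹ = ⁅x * z * x⁻¹, o'⁆ by
          simp only [ho', commutatorElement_def]; group, hwz,
          show ⁅z * w, o'⁆ = z * ⁅w, o'⁆ * z⁻¹ * ⁅z, o'⁆ by
            simp only [commutatorElement_def]; group,
          commutatorElement_eq_one_iff_commute.2 (mem_centralizer_iff.1 (hOW ho'O) w hw),
          mul_one, mul_inv_cancel, one_mul]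
      exact e ▸ hmem z hz o' ho'O
    have h2 : x * ⁅z, o⁆ * x⁻¹ ∈ C ⊓ cj x C :=
      ⟨h1, SfFree.mem_cj.2 (by simpa [mul_assoc] using hmem z hz o ho)⟩
    rw [hCx, Subgroup.mem_bot, conj_eq_one_iff] at h2
    exact h2
  refine le_antisymm (sup_le inf_le_left inf_le_left) fun z hz => ?_
  set z₁ := x * z * x⁻¹ with hz₁
  set z₂ := x * z₁ * x⁻¹ with hz₂
  set c := z * z₁ * z₂ with hc
  have hzU : z ∈ U₁ := hZU hz
  have hz₁U : z₁ ∈ U₁ := hXU x (mem_sup_left hx) z hzU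
  have hz₂U : z₂ ∈ U₁ := hXU x (mem_sup_left hx) z₁ hz₁U
  have hcom : ∀ u ∈ U₁, ∀ v ∈ U₁, Commute u v := fun u hu v hv =>
    SfFree.ea_commute hB0.2.1 (hU₁B hu) (hU₁B hv)
  have hcx : Commute x c := by
    have h3z : x * z₂ * x⁻¹ = z := by
      rw [show x * z₂ * x⁻¹ = x ^ 3 * z * (x ^ 3)⁻¹ by simp only [hz₁, hz₂, pow_succ, pow_zero, one_mul]; group,
        (hOZ z hz _ (core_cosets h3 hx hx0).1).symm.eq, mul_inv_cancel_right]
    have : x * c * x⁻¹ = c := by
      rw [show x * c * x⁻¹ = z₁ * z₂ * (x * z₂ * x⁻¹) by simp only [hc, hz₁, hz₂]; group, h3z,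
        ((hcom z hzU z₁ hz₁U).mul_right (hcom z hzU z₂ hz₂U)).symm.eq, hc, mul_assoc z]
    exact mul_inv_eq_iff_eq_mul.1 this
  have hOc : ∀ o ∈ O, Commute o c := by
    have h : ∀ u, (∀ o ∈ O, Commute o u) → ∀ o ∈ O, Commute o (x * u * x⁻¹) := fun u hu o ho => by
      have h1 := hu _ ((mem_normalizer_iff''.1 (hKO hx) o).1 ho)
      have h2 := h1.map (MulAut.conj x).toMonoidHom
      simpa [mul_assoc] using h2
    intro o ho
    have a₀ : ∀ o ∈ O, Commute o z := fun o ho => (hOZ z hz o ho).symm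
    exact ((a₀ o ho).mul_right (h z a₀ o ho)).mul_right (h z₁ (h z a₀) o ho)
  have hKc : ∀ k ∈ K, Commute k c := fun k hk => by
    rcases (core_cosets h3 hx hx0).2 k hk with h | h | h
    · exact hOc k h
    · simpa using hcx.mul_left (hOc _ h)
    · simpa using hcx.inv_left.mul_left (hOc _ h)
  have hc2 : c⁻¹ * z ∈ W := by
    have h1 := hconjW z hz x (mem_sup_left hx)
    have h2 := hconjW z hz (x * x) (mem_sup_left (mul_mem hx hx))
    rw [show x * x * z * (x * x)⁻¹ = z₂ by simp only [hz₁, hz₂]; group] at h2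
    rw [← hz₁] at h1
    have e : c = z * (z₁ * z₂) := mul_assoc _ _ _
    have hzz : z * z = 1 := SfFree.ea_sq hB0.2.1 (hU₁B hzU)
    have e2 : z⁻¹ * c = (z⁻¹ * z₁) * (z⁻¹ * z₂) := by
      rw [e, ((hcom z hzU z₁ hz₁U).inv_left).eq]
      rw [inv_eq_of_mul_eq_one_left hzz]
      calc z * (z * (z₁ * z₂)) = z * z * (z₁ * z₂) := by group
        _ = z₁ * z * (z * z₂) := by rw [hzz, one_mul]; rw [show z₁ * z * (z * z₂) =
              z₁ * (z * z) * z₂ by group, hzz, mul_one]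
    have := inv_mem (e2 ▸ mul_mem h1 h2 : z⁻¹ * c ∈ W)
    rwa [mul_inv_rev, inv_inv] at this
  have hJc : ∀ j ∈ J, Commute j c := by
    intro j hj
    have hd : ⁅j, c⁆ ∈ W := by
      have h1 := (hXleM (mem_sup_right hj : j ∈ X)).2 c (mul_mem (mul_mem hzU hz₁U) hz₂U)
      have := inv_mem h1
      rwa [commutatorElement_inv] at this
    refine commutatorElement_eq_one_iff_commute.1 (hfpf _ hd ?_)
    have h1 : Commute x (j * c * j⁻¹) := by
      have h2 := (hKc _ ((mem_normalizer_iff''.1 (hJK hj) x).1 hx)).map (MulAut.conj j).toMonoidHom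
      simpa [mul_assoc] using h2
    rw [commutatorElement_def]
    exact h1.mul_right hcx.inv_right
  have hcJ : c ∈ J := hB₀J (hU₁B (mul_mem (mul_mem hzU hz₁U) hz₂U))
  have hcsq : c * c = 1 := SfFree.ea_sq hB0.2.1 (hU₁B (mul_mem (mul_mem hzU hz₁U) hz₂U))
  have hcZ : c ∈ Z₀ := Thompson.mem_omegaOne
    ⟨hcJ, mem_centralizer_iff.2 fun j hj => hJc j hj⟩ (by rw [pow_two]; exact hcsq)
  have hcX : c ∈ centralizer (X : Set G) := by
    rw [hX, Thompson.centralizer_sup]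
    exact ⟨mem_centralizer_iff.2 fun k hk => hKc k hk, mem_centralizer_iff.2 fun j hj => hJc j hj⟩
  rw [show z = c * (c⁻¹ * z) by group]
  exact mul_mem_sup (mem_inf.2 ⟨hcZ, mem_inf.2 ⟨mem_sup_right hcJ, hcX⟩⟩)
    (mem_inf.2 ⟨mul_mem (inv_mem hcZ) hz, hc2⟩)

end Cfsg.Agent.ZNComp
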