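import Cfsg.Agent.ZNComp.Transfer

/-!
# Maximal straddling 2-subgroups
-/

set_option autoImplicit false

namespace Cfsg.Agent.ZNComp

open Subgroup
open SfFree (cj Mem jS)

variable {G : Type*} [Group G] [Finite G]

theorem maxOrder_eq {T P : Subgroup G} (hP : Mem T P) :
    Cfsg.maxElemAbelianOrder T = Nat.card P := by
  have hmem := (Thompson.maxEA_subgroup_iff hP.1).2 ⟨hP.2.1, hP.2.2⟩
  have h : (fun A : Subgroup ↥T => Nat.card ↥A) '' Cfsg.maxElementaryAbelianSubgroups 2 ↥T =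
      {Nat.card P} := by
    refine Set.eq_singleton_iff_unique_mem.2 ⟨⟨_, hmem,
      Nat.card_congr (subgroupOfEquivOfLe hP.1).toEquiv⟩, ?_⟩
    rintro _ ⟨A, hA, rfl⟩
    show Nat.card A = _
    rw [Thompson.maxEA_card_eq hA hmem]
    exact Nat.card_congr (subgroupOfEquivOfLe hP.1).toEquiv
  rw [Cfsg.maxElemAbelianOrder, h, csSup_singleton]

/-- A straddling group containing `J(T)`, for maximal `T`. -/
theorem eq_of_max {M T R : Subgroup G} (hT : T ∈ Cfsg.maxStraddlingTwoSubgroups M)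
    (hR : R ∈ Cfsg.straddlingTwoSubgroups M) (hle : jS T ≤ R) :
    jS R = jS T ∧ Nat.card R ≤ Nat.card T := by
  obtain ⟨P, hP⟩ := SfFree.exists_mem T
  obtain ⟨Q, hQ⟩ := SfFree.exists_mem R
  have h1 : Nat.card P ≤ Nat.card Q := hQ.2.2 P ((SfFree.le_jS hP).trans hle) hP.2.1
  obtain ⟨h2, h3⟩ := hT.2 R hR
  rw [maxOrder_eq hP, maxOrder_eq hQ, thompson_eq_jS, thompson_eq_jS] at *
  have heq : Nat.card Q = Nat.card P := le_antisymm h2 h1
  obtain ⟨h4, h5⟩ := h3 heq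
  have hle' : jS T ≤ jS R := iSup₂_le fun A hA => SfFree.le_jS
    ⟨(SfFree.le_jS hA).trans hle, hA.2.1, fun B hB hBe =>
      (hQ.2.2 B hB hBe).trans (heq.le.trans (hA.2.2 P hP.1 hP.2.1))⟩
  have hJ : jS R = jS T := (eq_of_le_of_card_ge hle' h4).symm
  exact ⟨hJ, h5 (by rw [hJ])⟩

variable {S : Sylow 2 G} {M : Subgroup G}

/-- `N(J(T)) ≤ M`. -/
theorem normalizer_jS_le (hMJ : normalizer (jS (S : Subgroup G) : Set G) ≤ M) {T : Subgroup G}
    (hT : T ∈ Cfsg.maxStraddlingTwoSubgroups M) : normalizer (jS T : Set G) ≤ M := by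
  have : Fact (Nat.Prime 2) := ⟨Nat.prime_two⟩
  obtain ⟨⟨hT2, hT1, hTM, -⟩, -⟩ := hT.1, hT.2
  by_contra hno
  set N := normalizer (jS T : Set G) with hN
  have hNloc : Cfsg.IsTwoLocal N :=
    SfFree.isTwoLocal_normalizer (hT2.to_le (SfFree.jS_le T)) (SfFree.jS_ne_bot hT2 hT1)
  have hTN : T ≤ N := SfFree.le_normalizer_jS T
  have hfull : ∀ R : Subgroup G, IsPGroup 2 R → T ≤ R → R ≤ M → R ≤ N → R = T := by
    intro R hR hTR hRM hRN
    have hs : R ∈ Cfsg.straddlingTwoSubgroups M :=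
      ⟨hR, fun e => hT1 (le_bot_iff.1 (e ▸ hTR)), hRM, N, hNloc, hRN, hno⟩
    exact (eq_of_le_of_card_ge hTR (eq_of_max hT hs ((SfFree.jS_le T).trans hTR)).2).symm
  have hSM : (S : Subgroup G) ≤ M := (SfFree.le_normalizer_jS _).trans hMJ
  obtain ⟨R, hR⟩ := (hT2.comap_subtype (K := M)).exists_le_sylow
  obtain ⟨m, hm⟩ := MulAction.exists_smul_eq M (S.subtype hSM) R
  have hRG : (R : Subgroup M).map M.subtype = cj (m : G) (S : Subgroup G) := by
    rw [← hm, Sylow.coe_subgroup_smul, Coprime.conj_smul_eq_map, Sylow.coe_subtype, map_map]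
    conv_rhs => rw [← inf_eq_left.2 hSM, ← subgroupOf_map_subtype, SfFree.cj, map_map]
    rfl
  have hTR : T ≤ (R : Subgroup M).map M.subtype := fun x hx => ⟨⟨x, hTM hx⟩, hR hx, rfl⟩
  rcases eq_or_lt_of_le hTR with e | hlt
  · refine hno ?_
    rw [hN, e, hRG, SfFree.cj, SfFree.jS_map (ι := (MulAut.conj (m : G)).toMonoidHom)
      (MulAut.conj (m : G)).injective, ← map_equiv_normalizer_eq]
    rw [map_le_iff_le_comap]
    exact fun x hx => mul_mem (mul_mem m.2 (hMJ hx)) (inv_mem m.2)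
  · have h1 := SfFree.exists_lt_normalizer_inf (R.2.map M.subtype) hlt
    refine h1.ne (hfull _ ((R.2.map M.subtype).to_le inf_le_left) h1.le
      (inf_le_left.trans (map_subtype_le _)) (inf_le_right.trans ?_)).symm
    exact normalizer_le_of_map (fun g H =>
      (SfFree.jS_map (ι := (MulAut.conj g).toMonoidHom) (MulAut.conj g).injective H).symm) T

/-- The first part of the structure of a local subgroup outside `M`. -/
theorem sylow_facts (hG : Hyp G) (hMJ : normalizer (jS (S : Subgroup G) : Set G) ≤ M)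
    {T : Subgroup G} (hT : T ∈ Cfsg.maxStraddlingTwoSubgroups M) {L : Subgroup G}
    (hL : Cfsg.IsTwoLocal L) (hLM : ¬ L ≤ M) {T₀ : Subgroup G} (hT₀ : Cfsg.IsSylowTwoIn T₀ L)
    (hJT₀ : jS T ≤ T₀) :
    jS T₀ = jS T ∧ T₀ ∈ Cfsg.straddlingTwoSubgroups M ∧ L ∈ Cfsg.jOvergroups T₀ ∧
      Nat.card T₀ ≤ Nat.card T := by
  have : Fact (Nat.Prime 2) := ⟨Nat.prime_two⟩
  have hT2 := hT.1.1
  have hT1 := hT.1.2.1
  have hJ1 : jS T ≠ ⊥ := SfFree.jS_ne_bot hT2 hT1
  have hNM := normalizer_jS_le hMJ hT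
  set P := T₀ ⊓ normalizer (jS T : Set G) with hP
  have hJP : jS T ≤ P := le_inf hJT₀ Subgroup.le_normalizer
  have hPs : P ∈ Cfsg.straddlingTwoSubgroups M :=
    ⟨hT₀.2.1.to_le inf_le_left, fun e => hJ1 (le_bot_iff.1 (e ▸ hJP)), inf_le_right.trans hNM, L,
      hL, inf_le_left.trans hT₀.1, hLM⟩
  obtain ⟨hJeq, hcard⟩ := eq_of_max hT hPs hJP
  have hPT : P = T₀ := by
    refine eq_of_le_of_not_lt inf_le_left fun hlt => ?_
    have h1 := SfFree.exists_lt_normalizer_inf hT₀.2.1 hlt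
    refine h1.not_ge (le_inf inf_le_left (inf_le_right.trans ?_))
    have h2 := normalizer_le_of_map (fun g H =>
      (SfFree.jS_map (ι := (MulAut.conj g).toMonoidHom) (MulAut.conj g).injective H).symm) P
    rwa [hJeq] at h2
  rw [hPT] at hJeq hPs hcard
  have hc := local_charTwo hG hL
  refine ⟨hJeq, hPs, ⟨hT₀, fun hle => ?_, hc⟩, hcard⟩
  rw [thompson_eq_jS, hJeq] at hle
  obtain ⟨S₀, hS₀⟩ := exists_sylow_of_isSylowTwoIn hT₀
  have hRT : Cfsg.pCoreOf 2 L ≤ T₀ := hS₀ ▸ map_mono (Core.pCore_le_sylow S₀)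
  have e : jS (Cfsg.pCoreOf 2 L) = jS T := by
    have hS₀J : jS T = (jS (S₀ : Subgroup L)).map L.subtype := by
      rw [← SfFree.jS_map L.subtype_injective, hS₀, hJeq]
    rw [hS₀J, Cfsg.pCoreOf, SfFree.jS_map L.subtype_injective,
      jS_eq_of_le (Core.pCore_isPGroup (p := 2))]
    rw [hS₀J] at hle
    exact (map_le_map_iff_of_injective L.subtype_injective).1 hle
  refine hLM ((LocalStructure.le_normalizer_pCoreOf (p := 2) L).trans (le_trans ?_ hNM))
  rw [← e]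
  exact normalizer_le_of_map (fun g H =>
    (SfFree.jS_map (ι := (MulAut.conj g).toMonoidHom) (MulAut.conj g).injective H).symm) _

/-- The second part. -/
theorem of_le (hG : Hyp G) (hMJ : normalizer (jS (S : Subgroup G) : Set G) ≤ M) {T : Subgroup G}
    (hT : T ∈ Cfsg.maxStraddlingTwoSubgroups M) {L : Subgroup G} (hL : Cfsg.IsTwoLocal L)
    (hLM : ¬ L ≤ M) (hTL : T ≤ L) :
    L ∈ Cfsg.jOvergroups T ∧ ∃ K : Subgroup G, Cfsg.IsJComponent T K ∧ K ≤ L := by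
  have : Fact (Nat.Prime 2) := ⟨Nat.prime_two⟩
  obtain ⟨S₀, hS₀⟩ := exists_sylow_containing hT.1.1 hTL
  obtain ⟨-, -, hjo, hcard⟩ := sylow_facts hG hMJ hT hL hLM (isSylowTwoIn_map S₀)
    ((SfFree.jS_le T).trans hS₀)
  have he : T = (S₀ : Subgroup L).map L.subtype := eq_of_le_of_card_ge hS₀ hcard
  rw [← he] at hjo
  refine ⟨hjo, ?_⟩
  obtain ⟨h, S₁, hS₁, hJ⟩ := setting_of_overgroup hG hjo
  obtain ⟨K, hK⟩ := exists_comp_of_not_le h (S := S₁) fun hle => hjo.2.1 (by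
    rw [← hJ, SfFree.jS_map L.subtype_injective]
    exact map_mono hle)
  exact ⟨_, isJComponent_of_comp S₁ hJ hK, map_subtype_le _⟩

theorem outside_nonempty (hG : Hyp G) (hMJ : normalizer (jS (S : Subgroup G) : Set G) ≤ M)
    {T : Subgroup G} (hT : T ∈ Cfsg.maxStraddlingTwoSubgroups M) :
    (Cfsg.jComponentsOutside M T).Nonempty := by
  have : Fact (Nat.Prime 2) := ⟨Nat.prime_two⟩
  obtain ⟨hT2, hT1, hTM, L, hL, hTL, hLM⟩ := hT.1
  obtain ⟨hjo, -⟩ := of_le hG hMJ hT hL hLM hTL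
  obtain ⟨h, S₁, hS₁, hJ⟩ := setting_of_overgroup hG hjo
  have hNM := normalizer_jS_le hMJ hT
  have hJT : (jS (S₁ : Subgroup L)).map L.subtype = jS T := by
    rw [← SfFree.jS_map L.subtype_injective, hJ, thompson_eq_jS]
  obtain ⟨K, hK, hKM⟩ : ∃ K : Subgroup L, Comp (jS (S₁ : Subgroup L)) K ∧
      ¬ K ≤ M.subgroupOf L := by
    by_contra! hall
    refine hLM fun x hx => le_of_components h S₁ (M.subgroupOf L) (fun z hz => ?_) (fun z hz => ?_)
      hall (mem_top (⟨x, hx⟩ : L))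
    · exact hTM (SfFree.jS_le T (hJT.le ⟨z, hz, rfl⟩))
    · refine hNM ?_
      rw [← hJT]
      exact le_normalizer_map L.subtype ⟨z, hz, rfl⟩
  have hKc := isJComponent_of_comp S₁ hJ hK
  set K' := K.map L.subtype with hK'
  have hK'L : K' ≤ L := map_subtype_le _
  have hK'M : ¬ K' ≤ M := fun hle => hKM (map_le_iff_le_comap.1 hle)
  refine ⟨K', ⟨hKc, fun R hJR hR => ?_⟩, hK'M, ?_⟩
  · rw [thompson_eq_jS] at hJR ⊢
    rw [thompson_eq_jS]
    exact (sylow_facts hG hMJ hT (IsJComponent.isTwoLocal hKc)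
      (fun hle => hK'M ((le_normalizer.trans (normalizer_le_wOf K')).trans hle)) hR hJR).1
  · obtain ⟨hTsyl, -, hc⟩ := hjo
    have hQT : Cfsg.pCoreOf 2 L ≤ T := hS₁ ▸ map_mono (Core.pCore_le_sylow S₁)
    intro e
    refine pCoreOf_ne_bot hG hc (le_bot_iff.1 (e ▸ LocalStructure.le_pCoreOf_of_normal
      (L := K' ⊔ T) (hQT.trans le_sup_right) ?_ (core_isPGroup L)))
    exact (sup_le hK'L hTsyl.1).trans (LocalStructure.le_normalizer_pCoreOf L)

end Cfsg.Agent.ZNComp
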