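import Cfsg.Agent.ZNComp.Basic
import Cfsg.Agent.S4Free.Offending
import Cfsg.Agent.Thompson.Offender.Basic

/-!
# The four-group of a component

`K` has `O₂(K)` of index 3 and `a` inverts `K / O₂(K)`. When `a` lies in a largest elementary
abelian subgroup, `[Ω₁(Z(O₂(K))), K]` has order at most 4.
-/

set_option autoImplicit false

namespace Cfsg.Agent.ZNComp

open Subgroup
open scoped commutatorElement
open SfFree (cj Mem jS)

variable {G : Type*} [Group G]

/-- `a` acts trivially on `K` modulo `O₂(K)`. -/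
abbrev Triv (K : Subgroup G) : Subgroup G := Offender.stab K (Cfsg.pCoreOf 2 K)

theorem core_le (K : Subgroup G) : Cfsg.pCoreOf 2 K ≤ K := map_subtype_le _

theorem core_isPGroup (K : Subgroup G) : IsPGroup 2 (Cfsg.pCoreOf 2 K) :=
  Core.pCore_isPGroup.map _

theorem pCoreOf_map {G' : Type*} [Group G'] {f : G →* G'} (hf : Function.Injective f)
    (K : Subgroup G) : (Cfsg.pCoreOf 2 K).map f = Cfsg.pCoreOf 2 (K.map f) := by
  rw [Cfsg.pCoreOf, Cfsg.pCoreOf, ← Core.map_pCore (K.equivMapOfInjective f hf), map_map, map_map]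
  rfl

theorem omegaCenterOf_map {G' : Type*} [Group G'] {f : G →* G'} (hf : Function.Injective f)
    (X : Subgroup G) : (Cfsg.omegaCenterOf X).map f = Cfsg.omegaCenterOf (X.map f) := by
  rw [Cfsg.omegaCenterOf, Cfsg.omegaCenterOf, Thompson.omegaOne_map_of_injective hf,
    SfFree.map_inf_centralizer hf]

theorem wOf_map {G' : Type*} [Group G'] {f : G →* G'} (hf : Function.Injective f)
    (K : Subgroup G) : (Cfsg.wOf K).map f = Cfsg.wOf (K.map f) := by
  rw [Cfsg.wOf, Cfsg.wOf, map_commutator, omegaCenterOf_map hf, pCoreOf_map hf]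

theorem normalizer_le_of_map {F : Subgroup G → Subgroup G}
    (hF : ∀ (g : G) (H : Subgroup G), cj g (F H) = F (cj g H)) (H : Subgroup G) :
    normalizer (H : Set G) ≤ normalizer (F H : Set G) := fun g hg => by
  rw [mem_normalizer_iff_map_conj_eq]
  show cj g (F H) = F H
  rw [hF, SfFree.cj_of_mem_normalizer hg]

theorem normalizer_le_core (K : Subgroup G) :
    normalizer (K : Set G) ≤ normalizer (Cfsg.pCoreOf 2 K : Set G) :=
  normalizer_le_of_map (fun g H => pCoreOf_map (MulAut.conj g).injective H) K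

theorem normalizer_le_wOf (K : Subgroup G) :
    normalizer (K : Set G) ≤ normalizer (Cfsg.wOf K : Set G) :=
  normalizer_le_of_map (fun g H => wOf_map (MulAut.conj g).injective H) K

theorem normalizer_le_omegaCenter (K : Subgroup G) :
    normalizer (K : Set G) ≤ normalizer (Cfsg.omegaCenterOf K : Set G) :=
  normalizer_le_of_map (fun g H => omegaCenterOf_map (MulAut.conj g).injective H) K

/-- The facts on `K / O₂(K)` of order 3. -/
theorem core_cosets {K : Subgroup G} (h3 : (Cfsg.pCoreOf 2 K).relIndex K = 3) {x : G} (hx : x ∈ K)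
    (hx0 : x ∉ Cfsg.pCoreOf 2 K) :
    x ^ 3 ∈ Cfsg.pCoreOf 2 K ∧
      ∀ k ∈ K, k ∈ Cfsg.pCoreOf 2 K ∨ x⁻¹ * k ∈ Cfsg.pCoreOf 2 K ∨ x * k ∈ Cfsg.pCoreOf 2 K := by
  set O := Cfsg.pCoreOf 2 K with hO
  have hn : (O.subgroupOf K).Normal :=
    normal_subgroupOf_of_le_normalizer (le_normalizer.trans (normalizer_le_core K))
  have hc : Nat.card (K ⧸ O.subgroupOf K) = 3 := h3
  have h1 : x ^ 3 ∈ O := by
    have := mem_subgroupOf.1 (pow_index_mem (O.subgroupOf K) (⟨x, hx⟩ : K))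
    rw [show (O.subgroupOf K).index = 3 from h3] at this
    exact this
  refine ⟨h1, fun k hk => ?_⟩
  set q : K →* K ⧸ O.subgroupOf K := QuotientGroup.mk' _
  have : Fact (Nat.Prime 3) := ⟨Nat.prime_three⟩
  have hq : q ⟨x, hx⟩ ≠ 1 := fun e =>
    hx0 (mem_subgroupOf.1 ((QuotientGroup.eq_one_iff _).1 e))
  have hz : zpowers (q ⟨x, hx⟩) = ⊤ := zpowers_eq_top_of_prime_card hc hq
  obtain ⟨i, hi⟩ := mem_zpowers_iff.1 (hz ▸ mem_top (q ⟨k, hk⟩) : q ⟨k, hk⟩ ∈ zpowers (q ⟨x, hx⟩))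
  have key : ∀ j : ℤ, q ⟨x, hx⟩ ^ j * q ⟨k, hk⟩ = 1 → x ^ j * k ∈ O := by
    intro j hj
    rw [← map_zpow, ← map_mul] at hj
    have := mem_subgroupOf.1 ((QuotientGroup.eq_one_iff _).1 hj)
    simpa using this
  have h3' : q ⟨x, hx⟩ ^ (3 : ℤ) = 1 := by
    have := pow_card_eq_one' (x := q ⟨x, hx⟩)
    rw [hc] at this
    exact_mod_cast this
  have hmod : ∀ j : ℤ, (3 : ℤ) ∣ i + j → q ⟨x, hx⟩ ^ j * q ⟨k, hk⟩ = 1 := by
    rintro j ⟨m, hm⟩
    rw [← hi, ← zpow_add, add_comm, hm, zpow_mul, h3', one_zpow]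
  rcases (show (3 : ℤ) ∣ i ∨ (3 : ℤ) ∣ i + -1 ∨ (3 : ℤ) ∣ i + 1 by omega) with h | h | h
  · left; simpa using key 0 (hmod 0 (by simpa using h))
  · right; left; simpa using key (-1) (hmod (-1) h)
  · right; right; simpa using key 1 (hmod 1 h)

/-- An element fixing `K` but not acting trivially on `K / O₂(K)` inverts it. -/
theorem inverts {K : Subgroup G} (h3 : (Cfsg.pCoreOf 2 K).relIndex K = 3) {x : G} (hx : x ∈ K)
    (hx0 : x ∉ Cfsg.pCoreOf 2 K) {a : G} (ha : a ∈ normalizer (K : Set G)) (ha' : a ∉ Triv K) :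
    x * (a * x * a⁻¹) ∈ Cfsg.pCoreOf 2 K := by
  set O := Cfsg.pCoreOf 2 K with hO
  have haO : a ∈ normalizer (O : Set G) := normalizer_le_core K ha
  have hKO : K ≤ normalizer (O : Set G) := le_normalizer.trans (normalizer_le_core K)
  have hmem : a * x * a⁻¹ ∈ K := (mem_normalizer_iff.1 ha x).1 hx
  rcases (core_cosets h3 hx hx0).2 _ hmem with h | h | h
  · exact absurd ((mem_normalizer_iff.1 haO x).2 h) hx0
  · refine absurd ⟨haO, fun v hv => ?_⟩ ha'
    have hxa : ⁅x, a⁆ ∈ O := by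
      have h' : a * x⁻¹ * a⁻¹ * x ∈ O := by
        have := inv_mem h
        rwa [mul_inv_rev, inv_inv, mul_inv_rev, mul_inv_rev, inv_inv, ← mul_assoc] at this
      rw [commutatorElement_def, show x * a * x⁻¹ * a⁻¹ = x * (a * x⁻¹ * a⁻¹ * x) * x⁻¹ by group]
      exact (mem_normalizer_iff.1 (hKO hx) _).1 h'
    have hOa : ∀ u ∈ O, ⁅u, a⁆ ∈ O := fun u hu => by
      rw [commutatorElement_def, mul_assoc u, mul_assoc u]
      exact mul_mem hu ((mem_normalizer_iff.1 haO _).1 (inv_mem hu))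
    rcases (core_cosets h3 hx hx0).2 v hv with hv1 | hv1 | hv1
    · exact hOa v hv1
    · obtain ⟨u, hu, rfl⟩ : ∃ u ∈ O, v = x * u := ⟨_, hv1, by group⟩
      rw [show ⁅x * u, a⁆ = x * ⁅u, a⁆ * x⁻¹ * ⁅x, a⁆ by simp only [commutatorElement_def]; group]
      exact mul_mem ((mem_normalizer_iff.1 (hKO hx) _).1 (hOa u hu)) hxa
    · obtain ⟨u, hu, rfl⟩ : ∃ u ∈ O, v = x⁻¹ * u := ⟨_, hv1, by group⟩
      rw [show ⁅x⁻¹ * u, a⁆ = x⁻¹ * (⁅u, a⁆ * ⁅x, a⁆⁻¹) * x by
        simp only [commutatorElement_def]; group]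
      exact (mem_normalizer_iff''.1 (hKO hx) _).1 (mul_mem (hOa u hu) (inv_mem hxa))
  · exact h

section Fixed

variable {U : Subgroup G} {x : G}

/-- If `x ^ 3` centralizes the abelian group `U` of exponent 2, then `[U, x]` has no fixed point. -/
theorem eq_one_of_commute (hU : Cfsg.IsElementaryAbelian 2 U) (hx : x ∈ normalizer (U : Set G))
    (hx3 : x ^ 3 ∈ centralizer (U : Set G)) {u : G} (hu : u ∈ U) (hc : Commute x ⁅u, x⁆) :
    ⁅u, x⁆ = 1 := by
  set c := ⁅u, x⁆ with hcdef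
  have hcU : c ∈ U := by
    rw [hcdef, commutatorElement_def, mul_assoc u, mul_assoc u]
    exact mul_mem hu ((mem_normalizer_iff.1 hx _).1 (inv_mem hu))
  have hci : c⁻¹ = c := inv_eq_of_mul_eq_one_left (SfFree.ea_sq hU hcU)
  have h1 : x * u * x⁻¹ = c * u := by
    have e : x * u * x⁻¹ = c⁻¹ * u := by rw [hcdef, commutatorElement_def]; group
    rwa [hci] at e
  have h2 : ∀ n : ℕ, x ^ n * u * (x ^ n)⁻¹ = c ^ n * u := by
    intro n
    induction n with
    | zero => simp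
    | succ n ih =>
      calc x ^ (n + 1) * u * (x ^ (n + 1))⁻¹ = x * (x ^ n * u * (x ^ n)⁻¹) * x⁻¹ := by
            rw [pow_succ']; group
        _ = x * c ^ n * (x⁻¹ * (x * u * x⁻¹)) := by rw [ih]; group
        _ = c ^ n * x * (x⁻¹ * (c * u)) := by rw [(hc.pow_right n).eq, h1]
        _ = _ := by rw [pow_succ]; group
  have h3 := h2 3
  have hux : u * x ^ 3 = x ^ 3 * u := mem_centralizer_iff.1 hx3 u hu
  rw [← hux, mul_inv_cancel_right, eq_comm, mul_eq_right] at h3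
  calc c = c ^ 3 := by rw [pow_succ, pow_two, SfFree.ea_sq hU hcU, one_mul]
    _ = 1 := h3

end Fixed

/-- The four-group data: `[Ω₁(Z(O₂(K))), K]` and a fixed point free element. -/
theorem wOf_spec {K : Subgroup G} (h3 : (Cfsg.pCoreOf 2 K).relIndex K = 3) {x : G} (hx : x ∈ K)
    (hx0 : x ∉ Cfsg.pCoreOf 2 K) :
    Cfsg.wOf K ≤ Cfsg.omegaCenterOf (Cfsg.pCoreOf 2 K) ∧
      Cfsg.IsElementaryAbelian 2 (Cfsg.wOf K) ∧
      Cfsg.pCoreOf 2 K ≤ centralizer (Cfsg.wOf K : Set G) ∧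
      K ≤ normalizer (Cfsg.wOf K : Set G) ∧
      ∀ w ∈ Cfsg.wOf K, Commute x w → w = 1 := by
  set O := Cfsg.pCoreOf 2 K with hO
  set U := Cfsg.omegaCenterOf O with hU
  have hUe : Cfsg.IsElementaryAbelian 2 U := Thompson.omegaOne_centre_ea 2 O
  have hOU : O ≤ centralizer (U : Set G) :=
    Subgroup.le_centralizer_iff.1 ((Thompson.omegaOne_le 2 _).trans inf_le_right)
  have hKU : K ≤ normalizer (U : Set G) :=
    (le_normalizer.trans (normalizer_le_core K)).trans (normalizer_le_omegaCenter O)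
  have hxU := hKU hx
  let φ : U →* G := MonoidHom.mk' (fun u => ⁅(u : G), x⁆) fun u v => by
    have hv : ⁅(v : G), x⁆ ∈ U := by
      rw [commutatorElement_def, mul_assoc (v : G), mul_assoc (v : G)]
      exact mul_mem v.2 ((mem_normalizer_iff.1 hxU _).1 (inv_mem v.2))
    have hu : ⁅(u : G), x⁆ ∈ U := by
      rw [commutatorElement_def, mul_assoc (u : G), mul_assoc (u : G)]
      exact mul_mem u.2 ((mem_normalizer_iff.1 hxU _).1 (inv_mem u.2))
    have e : ⁅(u : G) * v, x⁆ = u * ⁅(v : G), x⁆ * (u : G)⁻¹ * ⁅(u : G), x⁆ := by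
      simp only [commutatorElement_def]; group
    rw [Subgroup.coe_mul, e, (SfFree.ea_commute hUe u.2 hv).eq, mul_inv_cancel_right,
      (SfFree.ea_commute hUe hv hu).eq]
  have hphiU : φ.range ≤ U := by
    rintro _ ⟨u, rfl⟩
    show ⁅(u : G), x⁆ ∈ U
    rw [commutatorElement_def, mul_assoc (u : G), mul_assoc (u : G)]
    exact mul_mem u.2 ((mem_normalizer_iff.1 hxU _).1 (inv_mem u.2))
  have hxR : x ∈ normalizer (φ.range : Set G) := by
    have : Finite φ.range ∨ True := Or.inr trivial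
    rw [mem_normalizer_iff]
    intro w
    constructor
    · rintro ⟨u, rfl⟩
      exact ⟨⟨_, (mem_normalizer_iff.1 hxU u).1 u.2⟩, by
        show ⁅x * (u : G) * x⁻¹, x⁆ = x * ⁅(u : G), x⁆ * x⁻¹
        simp only [commutatorElement_def]; group⟩
    · rintro ⟨u, hu⟩
      refine ⟨⟨x⁻¹ * u * x, (mem_normalizer_iff''.1 hxU u).1 u.2⟩, ?_⟩
      show ⁅x⁻¹ * (u : G) * x, x⁆ = w
      calc ⁅x⁻¹ * (u : G) * x, x⁆ = x⁻¹ * ⁅(u : G), x⁆ * x := by
            simp only [commutatorElement_def]; group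
        _ = x⁻¹ * (x * w * x⁻¹) * x := by rw [← hu]; rfl
        _ = w := by group
  have hW : Cfsg.wOf K ≤ φ.range := by
    rw [Cfsg.wOf, ← hO, ← hU, commutator_le]
    intro u hu k hk
    have hO1 : ∀ q ∈ O, ⁅u, q⁆ = 1 := fun q hq =>
      commutatorElement_eq_one_iff_commute.2 (mem_centralizer_iff.1 (hOU hq) u hu)
    rcases (core_cosets h3 hx hx0).2 k hk with h | h | h
    · rw [hO1 k h]; exact one_mem _
    · obtain ⟨q, hq, rfl⟩ : ∃ q ∈ O, k = x * q := ⟨_, h, by group⟩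
      rw [show ⁅u, x * q⁆ = ⁅u, x⁆ * (x * ⁅u, q⁆ * x⁻¹) by simp only [commutatorElement_def]; group,
        hO1 q hq, mul_one, mul_inv_cancel, mul_one]
      exact ⟨⟨u, hu⟩, rfl⟩
    · obtain ⟨q, hq, rfl⟩ : ∃ q ∈ O, k = x⁻¹ * q := ⟨_, h, by group⟩
      rw [show ⁅u, x⁻¹ * q⁆ = (x⁻¹ * ⁅u, x⁆⁻¹ * x) * (x⁻¹ * ⁅u, q⁆ * x) by
        simp only [commutatorElement_def]; group, hO1 q hq, mul_one, inv_mul_cancel, mul_one]
      exact (mem_normalizer_iff''.1 hxR _).1 (inv_mem ⟨⟨u, hu⟩, rfl⟩)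
  refine ⟨hW.trans hphiU, Thompson.ea_mono hUe (hW.trans hphiU),
    hOU.trans (centralizer_le (hW.trans hphiU)),
    le_normalizer.trans (normalizer_le_wOf K), fun w hw hc => ?_⟩
  obtain ⟨u, rfl⟩ := hW hw
  exact eq_one_of_commute hUe hxU (hOU (core_cosets h3 hx hx0).1) u.2 hc

variable [Finite G]

/-- A 2-group normalizing a nontrivial abelian 2-group fixes a point. -/
theorem exists_fixed {A R : Subgroup G} (hA : IsPGroup 2 A) (hR : IsPGroup 2 R) (hne : R ≠ ⊥)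
    (hAR : A ≤ normalizer (R : Set G)) : R ⊓ centralizer (A : Set G) ≠ ⊥ := by
  have : Fact (Nat.Prime 2) := ⟨Nat.prime_two⟩
  obtain ⟨M, ⟨hMR, hM, hMA⟩, hmin⟩ := exists_minimal_of_wellFoundedLT
    (fun X : Subgroup G => X ≤ R ∧ X ≠ ⊥ ∧ A ≤ normalizer (X : Set G)) ⟨R, le_rfl, hne, hAR⟩
  have hlt := Coprime.commutator_lt_of_isPGroup hA (hR.to_le hMR) hMA hM
  intro h0
  by_cases hc : ⁅M, A⁆ = ⊥
  · exact hM (le_bot_iff.1 (h0 ▸ le_inf hMR (commutator_eq_bot_iff_le_centralizer.1 hc)))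
  · exact hlt.not_ge (hmin ⟨hlt.le.trans hMR, hc, normalizer_commutator_ge_right M A⟩ hlt.le)

theorem card_le_sq {D : Subgroup G} (hD : Cfsg.IsElementaryAbelian 2 D) {a : G}
    (ha : a ∈ normalizer (D : Set G)) (ha2 : a * a = 1) :
    Nat.card D ≤ Nat.card (D ⊓ centralizer (zpowers a : Set G) : Subgroup G) ^ 2 := by
  rw [← Offender.card_commutator_zpowers (Thompson.ea_iff.1 hD).1 ha, pow_two]
  refine Nat.mul_le_mul (SfFree.card_le_card_of_le ?_) le_rfl
  rw [commutator_le]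
  intro v hv y hy
  obtain ⟨i, rfl⟩ := mem_zpowers_iff.1 hy
  rcases Int.even_or_odd i with ⟨k, rfl⟩ | ⟨k, rfl⟩
  · rw [zpow_add, ← (Commute.refl a).mul_zpow, ha2, one_zpow, commutatorElement_one_right]
    exact one_mem _
  · rw [zpow_add_one, two_mul, zpow_add, ← (Commute.refl a).mul_zpow, ha2, one_zpow, one_mul]
    have hai : a⁻¹ = a := inv_eq_of_mul_eq_one_left ha2
    have hav : a * v⁻¹ * a⁻¹ ∈ D := (mem_normalizer_iff.1 ha _).1 (inv_mem hv)
    refine ⟨?_, Offender.mem_centralizer_zpowers.2 ?_⟩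
    · rw [commutatorElement_def, mul_assoc v, mul_assoc v]
      exact D.mul_mem hv hav
    · have hvi : v⁻¹ = v := inv_eq_of_mul_eq_one_left (SfFree.ea_sq hD hv)
      have h1 : a * v * a⁻¹ ∈ D := (mem_normalizer_iff.1 ha _).1 hv
      calc a * ⁅v, a⁆ = (a * v * a⁻¹) * ((a * a) * v⁻¹) * a⁻¹ := by
            rw [commutatorElement_def]; group
        _ = (a * v * a⁻¹) * v * a⁻¹ := by rw [ha2, one_mul, hvi]
        _ = v * (a * v * a⁻¹) * a⁻¹ := by rw [(SfFree.ea_commute hD h1 hv).eq]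
        _ = ⁅v, a⁆ * a := by rw [commutatorElement_def, hai, hvi]; group

/-- `|A₀| / |C_{A₀}(C)| ≤ |C| / 2` when `A ⊇ A₀` fixes only two points of `C`. -/
theorem card_count {A A₀ C : Subgroup G} (hA : Cfsg.IsElementaryAbelian 2 A) (hA₀ : A₀ ≤ A)
    (hC : Cfsg.IsElementaryAbelian 2 C) (hAC : A ≤ normalizer (C : Set G))
    (hfix : Nat.card (C ⊓ centralizer (A : Set G) : Subgroup G) = 2) :
    Nat.card A₀ * 2 ≤ Nat.card (A₀ ⊓ centralizer (C : Set G) : Subgroup G) * Nat.card C := by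
  have : Fact (Nat.Prime 2) := ⟨Nat.prime_two⟩
  have hAp := Thompson.ea_isPGroup hA
  set F := C ⊓ centralizer (A : Set G) with hF
  obtain ⟨Y, ⟨hYC, hFY, hAY, hY⟩, hmax⟩ := Set.exists_max_image
    {Y : Subgroup G | Y ≤ C ∧ F ≤ Y ∧ A ≤ normalizer (Y : Set G) ∧
      Nat.card A₀ * 2 ≤ Nat.card (A₀ ⊓ centralizer (Y : Set G) : Subgroup G) * Nat.card Y}
    (fun Y => Nat.card Y) (Set.toFinite _) ⟨F, inf_le_left, le_rfl,
      (Subgroup.le_centralizer_iff.1 (inf_le_right : F ≤ centralizer (A : Set G))).trans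
        (centralizer_le_normalizer _), by
      rw [hfix, inf_eq_left.2 (hA₀.trans (Subgroup.le_centralizer_iff.1 inf_le_right))]⟩
  by_cases hCY : C ≤ Y
  · rwa [le_antisymm hYC hCY] at hY
  exfalso
  obtain ⟨R, ⟨hRC, hRY, hAR⟩, hmin⟩ := exists_minimal_of_wellFoundedLT
    (fun X : Subgroup G => X ≤ C ∧ ¬ X ≤ Y ∧ A ≤ normalizer (X : Set G)) ⟨C, le_rfl, hCY, hAC⟩
  obtain ⟨y, hyR, hyY⟩ := SetLike.not_le_iff_exists.1 hRY
  have hRne : R ≠ ⊥ := fun e => hRY (e ▸ bot_le)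
  have hlt := Coprime.commutator_lt_of_isPGroup hAp ((Thompson.ea_isPGroup hC).to_le hRC) hAR hRne
  have hRA : ⁅R, A⁆ ≤ Y := by
    by_contra h
    exact hlt.not_ge (hmin ⟨hlt.le.trans hRC, h, normalizer_commutator_ge_right R A⟩ hlt.le)
  have hyC : y ∈ C := hRC hyR
  set Y' := Y ⊔ zpowers y with hY'
  have hY'C : Y' ≤ C := sup_le hYC (zpowers_le.2 hyC)
  have hcm : ∀ g ∈ A, ⁅y, g⁆ ∈ Y := fun g hg => hRA (commutator_mem_commutator hyR hg)
  have hAY' : A ≤ normalizer (Y' : Set G) := fun g hg => by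
    rw [mem_normalizer_iff_map_conj_eq]
    refine eq_of_le_of_card_ge ?_ (SfFree.card_cj g Y').ge
    show cj g (Y ⊔ zpowers y) ≤ _
    rw [SfFree.cj_sup, SfFree.cj_of_mem_normalizer (hAY hg), sup_le_iff]
    refine ⟨le_sup_left, ?_⟩
    show (zpowers y).map (MulAut.conj g).toMonoidHom ≤ _
    rw [MonoidHom.map_zpowers, zpowers_le]
    show g * y * g⁻¹ ∈ Y'
    have := mul_mem (inv_mem (mem_sup_left (T := zpowers y) (hcm g hg)))
      (mem_sup_right (S := Y) (mem_zpowers y))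
    rwa [show ⁅y, g⁆⁻¹ * y = g * y * g⁻¹ by simp only [commutatorElement_def]; group] at this
  set B := A₀ ⊓ centralizer (Y : Set G) with hB
  have hval : ∀ b ∈ B, ⁅y, b⁆ ∈ F := by
    intro b hb
    refine ⟨hYC (hcm b (hA₀ hb.1)), mem_centralizer_iff.2 fun g hg => ?_⟩
    have hgb : Commute g b := SfFree.ea_commute hA hg (hA₀ hb.1)
    set y₁ := y⁻¹ * (g * y * g⁻¹) with hy₁
    have hy₁Y : y₁ ∈ Y := by
      have h := inv_mem (hcm g hg)
      have hc : y₁ = ⁅y, g⁆⁻¹ := by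
        have h1 : g * y * g⁻¹ ∈ C := (mem_normalizer_iff.1 (hAC hg) y).1 hyC
        rw [hy₁, (SfFree.ea_commute hC (inv_mem hyC) h1).eq]
        simp only [commutatorElement_def]; group
      rwa [hc]
    have hby : Commute y₁ b := mem_centralizer_iff.1 hb.2 y₁ hy₁Y
    have e : g * ⁅y, b⁆ * g⁻¹ = ⁅y, b⁆ := by
      calc g * ⁅y, b⁆ * g⁻¹ = ⁅g * y * g⁻¹, g * b * g⁻¹⁆ := by
            simp only [commutatorElement_def]; group
        _ = y * (y₁ * b * y₁⁻¹) * y⁻¹ * b⁻¹ := by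
            rw [hgb.eq, mul_inv_cancel_right, commutatorElement_def,
              show g * y * g⁻¹ = y * y₁ by rw [hy₁, mul_inv_cancel_left]]
            group
        _ = ⁅y, b⁆ := by rw [hby.eq, mul_inv_cancel_right, commutatorElement_def]
    calc g * ⁅y, b⁆ = (g * ⁅y, b⁆ * g⁻¹) * g := by group
      _ = ⁅y, b⁆ * g := by rw [e]
  have hidx : (B ⊓ centralizer (zpowers y : Set G)).relIndex B ≤ 2 := by
    by_cases hall : ∀ b ∈ B, Commute y b
    · rw [inf_eq_left.2 (fun b hb => Offender.mem_centralizer_zpowers.2 (hall b hb).eq),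
        relIndex_self]
      norm_num
    push Not at hall
    obtain ⟨b₀, hb₀, hnc⟩ := hall
    refine SfFree.relIndex_le_two hb₀ fun b hb => ?_
    by_cases hb' : Commute y b
    · exact Or.inl ⟨hb, Offender.mem_centralizer_zpowers.2 hb'.eq⟩
    refine Or.inr ⟨B.mul_mem (B.inv_mem hb₀) hb, Offender.mem_centralizer_zpowers.2 ?_⟩
    have he : ⁅y, b⁆ = ⁅y, b₀⁆ := by
      by_contra hne
      have h1 : Nat.card ({1, ⁅y, b⁆, ⁅y, b₀⁆} : Set G) ≤ Nat.card F :=
        Nat.card_mono (Set.toFinite _) (by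
          rintro z (rfl | rfl | rfl)
          exacts [one_mem _, hval b hb, hval b₀ hb₀])
      rw [Nat.card_coe_set_eq, Set.ncard_insert_of_notMem (by
          simp only [Set.mem_insert_iff, Set.mem_singleton_iff, not_or]
          exact ⟨fun h => hb' (commutatorElement_eq_one_iff_commute.1 h.symm),
            fun h => hnc (commutatorElement_eq_one_iff_commute.1 h.symm)⟩),
        Set.ncard_pair hne, hfix] at h1
      omega
    have h2 : b * y⁻¹ * b⁻¹ = b₀ * y⁻¹ * b₀⁻¹ := by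
      simpa only [commutatorElement_def, mul_assoc, mul_right_inj] using he
    refine (Commute.inv_left_iff.1 (?_ : Commute y⁻¹ (b₀⁻¹ * b))).eq
    calc y⁻¹ * (b₀⁻¹ * b) = b₀⁻¹ * (b₀ * y⁻¹ * b₀⁻¹) * b := by group
      _ = b₀⁻¹ * b * y⁻¹ := by rw [← h2]; group
  have hY'card : 2 * Nat.card Y ≤ Nat.card Y' :=
    SfFree.two_mul_card_le le_sup_left fun h => hyY (h (mem_sup_right (mem_zpowers y)))
  have hnew : Nat.card A₀ * 2 ≤
      Nat.card (A₀ ⊓ centralizer (Y' : Set G) : Subgroup G) * Nat.card Y' := by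
    have e : B ⊓ centralizer (zpowers y : Set G) ≤ A₀ ⊓ centralizer (Y' : Set G) := by
      refine le_inf (inf_le_left.trans inf_le_left) ?_
      rw [hY', Thompson.centralizer_sup]
      exact le_inf (inf_le_left.trans inf_le_right) inf_le_right
    calc Nat.card A₀ * 2 ≤ Nat.card B * Nat.card Y := hY
      _ ≤ 2 * Nat.card (B ⊓ centralizer (zpowers y : Set G) : Subgroup G) * Nat.card Y :=
          Nat.mul_le_mul (SfFree.card_le_mul_of_relIndex inf_le_left hidx) le_rfl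
      _ = Nat.card (B ⊓ centralizer (zpowers y : Set G) : Subgroup G) * (2 * Nat.card Y) := by ring
      _ ≤ _ := Nat.mul_le_mul (SfFree.card_le_card_of_le e) hY'card
  have := hmax Y' ⟨hY'C, hFY.trans le_sup_left, hAY', hnew⟩
  have hpos : 0 < Nat.card Y := Nat.card_pos
  omega

omit [Finite G] in
/-- `a` and `x a x⁻¹` have no common fixed point on the four-group. -/
theorem fix_inverted {K : Subgroup G} (h3 : (Cfsg.pCoreOf 2 K).relIndex K = 3) {x : G} (hx : x ∈ K)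
    (hx0 : x ∉ Cfsg.pCoreOf 2 K) {a : G} (ha2 : a * a = 1) (haK : a ∈ normalizer (K : Set G))
    (ha' : a ∉ Triv K) :
    ∀ w ∈ Cfsg.wOf K, Commute a w → Commute (x * a * x⁻¹) w → w = 1 := by
  obtain ⟨-, -, hOW, hKW, hfpf⟩ := wOf_spec h3 hx hx0
  have hinv := inverts h3 hx hx0 haK ha'
  set O := Cfsg.pCoreOf 2 K with hO
  set W := Cfsg.wOf K with hW
  intro w hw h1 h2
  refine hfpf w hw ?_
  set q := x * (a * x * a⁻¹) with hq
  have hqw : Commute q w := (mem_centralizer_iff.1 (hOW hinv) w hw).symm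
  have h4 : Commute (a * (x * a * x⁻¹)) w := h1.mul_left h2
  have e : a * (x * a * x⁻¹) = x⁻¹ * q * x⁻¹ := by
    rw [hq, inv_eq_of_mul_eq_one_left ha2]; group
  rw [e] at h4
  have h3w : Commute (x ^ 3) w := (mem_centralizer_iff.1 (hOW (core_cosets h3 hx hx0).1) w hw).symm
  have hxw : x⁻¹ * w * x ∈ W := (mem_normalizer_iff''.1 (hKW hx) w).1 hw
  have hq' : Commute q (x⁻¹ * w * x) := (mem_centralizer_iff.1 (hOW hinv) _ hxw).symm
  have h5 : Commute (x ^ 2) w := by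
    have h6 : x⁻¹ * q * x⁻¹ * w = w * (x⁻¹ * q * x⁻¹) := h4.eq
    show x ^ 2 * w = w * x ^ 2
    calc x ^ 2 * w = x ^ 2 * (w * (x⁻¹ * q * x⁻¹)) * (x⁻¹ * q * x⁻¹)⁻¹ := by group
      _ = x ^ 2 * (x⁻¹ * q * x⁻¹ * w) * (x⁻¹ * q * x⁻¹)⁻¹ := by rw [h6]
      _ = x * (q * (x⁻¹ * w * x)) * q⁻¹ * x := by group
      _ = w * x ^ 2 := by rw [hq'.eq]; simp [pow_two, mul_assoc]
  have := h3w.mul_left h5.inv_left
  rwa [show x ^ 3 * (x ^ 2)⁻¹ = x by group] at this

omit [Finite G] in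
theorem triv_coset {K A : Subgroup G} (h3 : (Cfsg.pCoreOf 2 K).relIndex K = 3)
    (hA : Cfsg.IsElementaryAbelian 2 A) (hAK : A ≤ normalizer (K : Set G)) {a : G} (ha : a ∈ A)
    (ha' : a ∉ Triv K) : ∀ b ∈ A, b ∈ A ⊓ Triv K ∨ a⁻¹ * b ∈ A ⊓ Triv K := by
  obtain ⟨x, hx, hx0⟩ : ∃ x ∈ K, x ∉ Cfsg.pCoreOf 2 K := by
    by_contra! h
    rw [relIndex_eq_one.2 h] at h3
    norm_num at h3
  have ha2 : a * a = 1 := SfFree.ea_sq hA ha
  have hinv := inverts h3 hx hx0 (hAK ha) ha'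
  set O := Cfsg.pCoreOf 2 K with hO
  intro b hb
  by_cases hb0 : b ∈ Triv K
  · exact Or.inl ⟨hb, hb0⟩
  refine Or.inr ⟨A.mul_mem (A.inv_mem ha) hb, ?_⟩
  by_contra hab
  have h1 := inverts h3 hx hx0 (hAK (A.mul_mem (A.inv_mem ha) hb)) hab
  have h2 := inverts h3 hx hx0 (hAK hb) hb0
  have hai : a⁻¹ = a := inv_eq_of_mul_eq_one_left ha2
  -- `x (ab) x (ab)⁻¹`, `x b x b⁻¹`, `x a x a⁻¹` all lie in `O₂(K)`
  have hKO : K ≤ normalizer (O : Set G) := le_normalizer.trans (normalizer_le_core K)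
  have h4 : a * (x * (b * x * b⁻¹)) * a⁻¹ ∈ O :=
    (mem_normalizer_iff.1 (normalizer_le_core K (hAK ha)) _).1 h2
  set y := a * x * a⁻¹ with hy
  set z := a⁻¹ * b * x * (a⁻¹ * b)⁻¹ with hz
  have h5 : y * z ∈ O := by
    rw [hai] at h4
    convert h4 using 1
    rw [show y * z = a * x * (a * a)⁻¹ * (b * x * b⁻¹) * a by rw [hy, hz]; group, ha2]
    group
  have h7 : y * x⁻¹ ∈ O := by
    have := mul_mem h5 (inv_mem h1)
    rwa [show y * z * (x * z)⁻¹ = y * x⁻¹ by group] at this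
  have h8 : x * x ∈ O := by
    have := mul_mem (inv_mem h7) ((mem_normalizer_iff''.1 (hKO hx) _).1 hinv)
    rwa [show (y * x⁻¹)⁻¹ * (x⁻¹ * (x * y) * x) = x * x by group] at this
  have h9 := mul_mem (core_cosets h3 hx hx0).1 (inv_mem h8)
  rw [show x ^ 3 * (x * x)⁻¹ = x by group] at h9
  exact hx0 h9

omit [Finite G] in
theorem triv_commutes {K : Subgroup G} (h3 : (Cfsg.pCoreOf 2 K).relIndex K = 3) {x : G} (hx : x ∈ K)
    (hx0 : x ∉ Cfsg.pCoreOf 2 K) {b : G} (hbK : b ∈ normalizer (K : Set G)) (hbT : b ∈ Triv K) :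
    ∀ w ∈ Cfsg.wOf K, b * (x * w * x⁻¹) * b⁻¹ = x * (b * w * b⁻¹) * x⁻¹ := by
  obtain ⟨-, -, hOW, hKW, -⟩ := wOf_spec h3 hx hx0
  set O := Cfsg.pCoreOf 2 K with hO
  set W := Cfsg.wOf K with hW
  intro w hw
  set q := ⁅b, x⁆ with hqdef
  have hqO : q ∈ O := by
    have := inv_mem (hbT.2 x hx)
    rwa [commutatorElement_inv] at this
  have hbw : b * w * b⁻¹ ∈ W := (mem_normalizer_iff.1 (normalizer_le_wOf K hbK) w).1 hw
  have hxbw : x * (b * w * b⁻¹) * x⁻¹ ∈ W := (mem_normalizer_iff.1 (hKW hx) _).1 hbw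
  have hq : Commute q (x * (b * w * b⁻¹) * x⁻¹) :=
    (mem_centralizer_iff.1 (hOW hqO) _ hxbw).symm
  calc b * (x * w * x⁻¹) * b⁻¹ = q * (x * (b * w * b⁻¹) * x⁻¹) * q⁻¹ := by
        rw [hqdef, commutatorElement_def]; group
    _ = _ := by rw [hq.eq, mul_inv_cancel_right]

/-- The bound `|[Ω₁(Z(O₂(K))), K]| ≤ 4`. -/
theorem card_wOf_le {K A : Subgroup G} (h3 : (Cfsg.pCoreOf 2 K).relIndex K = 3)
    (hA : Cfsg.IsElementaryAbelian 2 A) (hAK : A ≤ normalizer (K : Set G)) (hnt : ¬ A ≤ Triv K)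
    (hmax : ∀ E ≤ K ⊔ A, Cfsg.IsElementaryAbelian 2 E → Nat.card E ≤ Nat.card A) :
    Nat.card (Cfsg.wOf K) ≤ 4 := by
  have hAp := Thompson.ea_isPGroup hA
  obtain ⟨x, hx, hx0⟩ : ∃ x ∈ K, x ∉ Cfsg.pCoreOf 2 K := by
    by_contra! h
    rw [relIndex_eq_one.2 h] at h3
    norm_num at h3
  obtain ⟨a, ha, ha'⟩ := SetLike.not_le_iff_exists.1 hnt
  obtain ⟨hWU, hWe, hOW, hKW, hfpf⟩ := wOf_spec h3 hx hx0
  set O := Cfsg.pCoreOf 2 K with hO
  set W := Cfsg.wOf K with hW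
  by_cases hW1 : W = ⊥
  · rw [hW1, card_bot]; norm_num
  have hWK : W ≤ K :=
    hWU.trans (((Thompson.omegaOne_le 2 _).trans inf_le_left).trans (core_le K))
  have hAW : A ≤ normalizer (W : Set G) := hAK.trans (normalizer_le_wOf K)
  have ha2 : a * a = 1 := SfFree.ea_sq hA ha
  have hinv := inverts h3 hx hx0 (hAK ha) ha'
  have hfixC : ∀ w ∈ W, Commute a w → Commute (x * a * x⁻¹) w → w = 1 :=
    fix_inverted h3 hx hx0 ha2 (hAK ha) ha'
  set A₀ := A ⊓ Triv K with hA₀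
  have hcosA : ∀ b ∈ A, b ∈ A₀ ∨ a⁻¹ * b ∈ A₀ := triv_coset h3 hA hAK ha ha'
  have hA2 : Nat.card A ≤ 2 * Nat.card A₀ :=
    SfFree.card_le_mul_of_relIndex inf_le_left (SfFree.relIndex_le_two ha hcosA)
  have hA₀x : ∀ b ∈ A₀, ∀ w ∈ W, b * (x * w * x⁻¹) * b⁻¹ = x * (b * w * b⁻¹) * x⁻¹ :=
    fun b hb => triv_commutes h3 hx hx0 (hAK hb.1) hb.2
  set C := W ⊓ centralizer (zpowers a : Set G) with hC
  set D := W ⊓ centralizer (A₀ : Set G) with hD
  set F := W ⊓ centralizer (A : Set G) with hF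
  have hDC : D ⊓ centralizer (zpowers a : Set G) = F := by
    refine le_antisymm (fun w hw => ⟨hw.1.1, mem_centralizer_iff.2 fun b hb => ?_⟩)
      (le_inf (inf_le_inf_left _ (centralizer_le inf_le_left))
        (inf_le_right.trans (centralizer_le (zpowers_le.2 ha))))
    have h1 : Commute a w := mem_centralizer_iff.1 hw.2 a (mem_zpowers a)
    rcases hcosA b hb with h | h
    · exact mem_centralizer_iff.1 hw.1.2 b h
    · have h2 : Commute (a⁻¹ * b) w := mem_centralizer_iff.1 hw.1.2 _ h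
      have := h1.mul_left h2
      rw [mul_inv_cancel_left] at this
      exact this.eq
  have hdisj : ∀ P : Subgroup G, P ≤ C → P ⊓ cj x P = ⊥ := by
    intro P hP
    rw [eq_bot_iff]
    rintro w ⟨hw, hw'⟩
    refine Subgroup.mem_bot.2 (hfixC w (hP hw).1 (mem_centralizer_iff.1 (hP hw).2 a (mem_zpowers a)) ?_)
    exact SfFree.commute_conj (mem_centralizer_iff.1 (hP (SfFree.mem_cj.1 hw')).2 a (mem_zpowers a))
  have hsq : ∀ P X : Subgroup G, P ≤ C → P ≤ X → cj x P ≤ X → Nat.card P ^ 2 ≤ Nat.card X := by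
    intro P X hP hPX hPX'
    have := SfFree.card_mul_card_le P (cj x P)
    rw [hdisj P hP, card_bot, mul_one, SfFree.card_cj, ← pow_two] at this
    exact this.trans (SfFree.card_le_card_of_le (sup_le hPX hPX'))
  have hAD : A ≤ normalizer (D : Set G) := Coprime.le_normalizer_inf hAW
    (Coprime.le_normalizer_centralizer ((Thompson.ea_iff.1 hA).1.trans
      ((centralizer_le inf_le_left).trans (centralizer_le_normalizer _))))
  have hxD : cj x D ≤ D := by
    rintro _ ⟨w, hw, rfl⟩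
    refine ⟨(mem_normalizer_iff.1 (hKW hx) w).1 hw.1, mem_centralizer_iff.2 fun b hb => ?_⟩
    have h1 : b * w * b⁻¹ = w := by rw [mem_centralizer_iff.1 hw.2 b hb, mul_inv_cancel_right]
    have h2 := hA₀x b hb w hw.1
    rw [h1] at h2
    simp only [MulEquiv.coe_toMonoidHom, MulAut.conj_apply]
    exact mul_inv_eq_iff_eq_mul.1 h2
  have hF1 : Nat.card D ≤ Nat.card F ^ 2 :=
    hDC ▸ card_le_sq (Thompson.ea_mono hWe inf_le_left) (hAD ha) ha2
  have hFC : F ≤ C := inf_le_inf_left _ (centralizer_le (zpowers_le.2 ha))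
  have hF2 : Nat.card F ^ 2 ≤ Nat.card D :=
    hsq F D hFC (hDC.ge.trans inf_le_left) ((SfFree.cj_mono (hDC.ge.trans inf_le_left)).trans hxD)
  have hE : ∀ P Q : Subgroup G, P ≤ A → Q ≤ W → P ≤ centralizer (Q : Set G) →
      Nat.card P * Nat.card Q ≤ Nat.card A * Nat.card (P ⊓ Q : Subgroup G) := by
    intro P Q hP hQ hPQ
    refine (SfFree.card_mul_card_le P Q).trans (Nat.mul_le_mul (hmax _ ?_ ?_) le_rfl)
    · exact sup_le (hP.trans le_sup_right) ((hQ.trans hWK).trans le_sup_left)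
    · exact Thompson.ea_sup (Thompson.ea_mono hA hP) (Thompson.ea_mono hWe hQ) hPQ
  have hPF : ∀ P Q : Subgroup G, P ≤ A → Q ≤ W → Nat.card (P ⊓ Q : Subgroup G) ≤ Nat.card F :=
    fun P Q hP hQ => SfFree.card_le_card_of_le (le_inf (inf_le_right.trans hQ)
      ((inf_le_left.trans hP).trans (Thompson.ea_iff.1 hA).1))
  have hFpos : 1 < Nat.card F :=
    (one_lt_card_iff_ne_bot _).2 (exists_fixed hAp (Thompson.ea_isPGroup hWe) hW1 hAW)
  have hA₀pos : 0 < Nat.card A₀ := Nat.card_pos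
  have hF2' : Nat.card F = 2 := by
    have h1 := (hE A₀ D inf_le_left inf_le_left (Subgroup.le_centralizer_iff.1 inf_le_right)).trans
      (Nat.mul_le_mul hA2 (hPF A₀ D inf_le_left inf_le_left))
    have h2 : Nat.card F * Nat.card F ≤ 2 * Nat.card F := by
      refine Nat.le_of_mul_le_mul_left (c := Nat.card A₀) ?_ hA₀pos
      calc Nat.card A₀ * (Nat.card F * Nat.card F) ≤ Nat.card A₀ * Nat.card D :=
            Nat.mul_le_mul le_rfl (by rw [← pow_two]; exact hF2)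
        _ ≤ _ := h1
        _ = _ := by ring
    have := Nat.le_of_mul_le_mul_right h2 (by omega)
    omega
  have haC : A ≤ centralizer (zpowers a : Set G) :=
    (Thompson.ea_iff.1 hA).1.trans (centralizer_le (zpowers_le.2 ha))
  have hAC : A ≤ normalizer (C : Set G) := Coprime.le_normalizer_inf hAW
    (Coprime.le_normalizer_centralizer (haC.trans (centralizer_le_normalizer _)))
  have hCF : C ⊓ centralizer (A : Set G) = F :=
    le_antisymm (inf_le_inf_right _ inf_le_left) (le_inf hFC inf_le_right)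
  have hcount := card_count (C := C) hA (inf_le_left : A₀ ≤ A) (Thompson.ea_mono hWe inf_le_left)
    hAC (by rw [hCF, hF2'])
  set A' := A₀ ⊓ centralizer (C : Set G) with hA'
  have hCW : C ⊔ cj x C = W := by
    refine eq_of_le_of_card_ge (sup_le inf_le_left ((SfFree.cj_mono inf_le_left).trans
      (SfFree.cj_of_mem_normalizer (hKW hx)).le)) ?_
    have h1 := SfFree.card_mul_card_le C (cj x C)
    rw [hdisj C le_rfl, card_bot, mul_one, SfFree.card_cj, ← pow_two] at h1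
    exact (card_le_sq hWe (hAW ha) ha2).trans h1
  have hA'W : A' ≤ centralizer (W : Set G) := by
    rw [← hCW, Thompson.centralizer_sup]
    refine le_inf inf_le_right fun b hb => mem_centralizer_iff.2 ?_
    rintro _ ⟨w, hw, rfl⟩
    have h1 : b * w * b⁻¹ = w := by
      rw [← mem_centralizer_iff.1 hb.2 w hw, mul_inv_cancel_right]
    have h2 := hA₀x b hb.1 w hw.1
    rw [h1] at h2
    simp only [MulEquiv.coe_toMonoidHom, MulAut.conj_apply]
    exact (mul_inv_eq_iff_eq_mul.1 h2).symm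
  have hfin : Nat.card W ≤ 2 * Nat.card C := by
    refine Nat.le_of_mul_le_mul_left (c := Nat.card A') ?_ Nat.card_pos
    calc Nat.card A' * Nat.card W ≤ Nat.card A * Nat.card F :=
          (hE A' W (inf_le_left.trans inf_le_left) le_rfl hA'W).trans
            (Nat.mul_le_mul le_rfl (hPF A' W (inf_le_left.trans inf_le_left) le_rfl))
      _ ≤ 2 * Nat.card A₀ * 2 := by rw [hF2']; exact Nat.mul_le_mul hA2 le_rfl
      _ ≤ 2 * (Nat.card A' * Nat.card C) := by rw [mul_assoc]; exact Nat.mul_le_mul le_rfl hcount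
      _ = _ := by ring
  have hC2 := (hsq C W le_rfl inf_le_left ((SfFree.cj_mono inf_le_left).trans
    (SfFree.cj_of_mem_normalizer (hKW hx)).le)).trans hfin
  have hCpos : 0 < Nat.card C := Nat.card_pos
  have : Nat.card C ≤ 2 := Nat.le_of_mul_le_mul_right (by rw [← pow_two]; exact hC2) hCpos
  omega

end Cfsg.Agent.ZNComp
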