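import Cfsg.Agent.ZNComp.Four
import Cfsg.Agent.S4Amalgam.GoldBound

/-!
# Two parabolics over a common 2-group, inside an ambient group
-/

set_option autoImplicit false

namespace Cfsg.Agent.ZNComp

open Subgroup

variable {G : Type*} [Group G] [Finite G]

/-- The numerical data of a parabolic over `T`. -/
structure Para (T P : Subgroup G) : Prop where
  le : T ≤ P
  two : IsPGroup 2 T
  three : T.relIndex P = 3
  core : (Cfsg.pCoreOf 2 P).relIndex T = 2
  charp : P ⊓ centralizer (Cfsg.pCoreOf 2 P : Set G) ≤ Cfsg.pCoreOf 2 P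
  active : ¬ P ≤ centralizer (Cfsg.omegaCenterOf T : Set G)

/-- `O₂(P)` is elementary abelian and small. -/
theorem two_parabolics {T P Q : Subgroup G} (hP : Para T P) (hQ : Para T Q) (hne : ¬ Q ≤ P)
    (hc : ∀ N : Subgroup G, N ≤ T → P ≤ normalizer (N : Set G) → Q ≤ normalizer (N : Set G) →
      N = ⊥) :
    (∀ x ∈ Cfsg.pCoreOf 2 P, x * x = 1) ∧ Nat.card T ≤ 16 ∧
      Nat.card (Cfsg.pCoreOf 2 P) = 2 * Nat.card (Cfsg.omegaCenterOf T) ∧
      Nat.card T = 2 * Nat.card (Cfsg.pCoreOf 2 P) := by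
  have hPQ : P ⊓ Q = T := by
    refine le_antisymm (fun x hx => ?_) (le_inf hP.le hQ.le)
    by_contra hxT
    exact hne (S4Amal.le_of_prime_relIndex hQ.three hQ.le hP.le hx.2 hxT hx.1)
  set X : Subgroup G := P ⊔ Q with hX
  let F : Bool → Subgroup X := fun i => (cond i P Q).subgroupOf X
  have hle : ∀ i, cond i P Q ≤ X := fun i => by
    cases i
    · exact le_sup_right
    · exact le_sup_left
  have hpara : ∀ i, Para T (cond i P Q) := fun i => by cases i <;> assumption
  have hmap : ∀ i, (F i).map X.subtype = cond i P Q := fun i =>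
    Subgroup.map_subgroupOf_eq_of_le (hle i)
  have hgen : F true ⊔ F false = ⊤ := by
    show P.subgroupOf X ⊔ Q.subgroupOf X = ⊤
    rw [← Subgroup.subgroupOf_sup (le_sup_left : P ≤ X) (le_sup_right : Q ≤ X)]
    exact Subgroup.subgroupOf_self _
  have hinj : Function.Injective X.subtype := X.subtype_injective
  have hT : ∀ i, (F i ⊓ F (!i)).map X.subtype = T := fun i => by
    rw [Subgroup.map_inf _ _ _ hinj, hmap, hmap, ← hPQ]
    cases i
    · exact inf_comm _ _
    · rfl
  have hcore : ∀ i, (Cfsg.pCoreOf 2 (F i)).map X.subtype = Cfsg.pCoreOf 2 (cond i P Q) := fun i => by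
    rw [pCoreOf_map hinj, hmap]
  have h1 : ∀ i, F i ⊓ centralizer (Cfsg.pCoreOf 2 (F i) : Set X) ≤ Cfsg.pCoreOf 2 (F i) := by
    intro i x hx
    have h9 : (x : G) ∈ Cfsg.pCoreOf 2 (cond i P Q) := (hpara i).charp ⟨(hmap i).le ⟨x, hx.1, rfl⟩,
      mem_centralizer_iff.2 fun q hq => by
        rw [SetLike.mem_coe, ← hcore] at hq
        obtain ⟨y, hy, rfl⟩ := hq
        exact congrArg Subtype.val (mem_centralizer_iff.1 hx.2 y hy)⟩
    rw [← hcore] at h9
    obtain ⟨y, hy, e⟩ := h9
    obtain rfl : y = x := hinj e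
    exact hy
  have hd : ∀ i, IsPGroup 2 ↥(F i ⊓ F (!i)) ∧ (F i ⊓ F (!i)).relIndex (F i) = 3 ∧
      (Cfsg.pCoreOf 2 (F i)).relIndex (F i ⊓ F (!i)) = 2 := fun i => by
    refine ⟨hP.two.of_equiv ((MulEquiv.subgroupCongr (hT i).symm).trans
      (Subgroup.equivMapOfInjective _ X.subtype hinj).symm), ?_, ?_⟩
    · rw [← relIndex_map_map_of_injective _ _ hinj, hT, hmap]
      exact (hpara i).three
    · rw [← relIndex_map_map_of_injective _ _ hinj, hT, hcore]
      exact (hpara i).core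
  have h3 : ∀ N : Subgroup X, N.Normal → N ≤ F true ⊓ F false → N = ⊥ := fun N hN hle' => by
    have hn : ∀ i, cond i P Q ≤ normalizer (N.map X.subtype : Set G) := fun i =>
      (hmap i).symm.le.trans ((map_mono (le_top.trans (normalizer_eq_top N).ge)).trans
        (le_normalizer_map _))
    exact (map_eq_bot_iff_of_injective _ hinj).1
      (hc _ ((map_mono hle').trans (hT true).le) (hn true) (hn false))
  have h5 : ∀ i, ¬ F i ≤ centralizer (Cfsg.omegaCenterOf (F i ⊓ F (!i)) : Set X) := fun i h => by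
    refine (hpara i).active fun x hx => mem_centralizer_iff.2 fun z hz => ?_
    rw [SetLike.mem_coe, ← hT i, ← omegaCenterOf_map hinj] at hz
    obtain ⟨z, hz, rfl⟩ := hz
    rw [← hmap] at hx
    obtain ⟨x, hx, rfl⟩ := hx
    exact congrArg X.subtype (mem_centralizer_iff.1 (h hx) z hz)
  have hfin : ∀ i, Finite (F i) := fun i => inferInstance
  have A0 := S4Amal.amal F hgen h1
    (fun i => ⟨(hd i).1, (hd i).2.1 ▸ Nat.prime_three, by rw [(hd i).2.1]; norm_num⟩)
    h3 (fun i => (hd i).2.2) h5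
  have A : S4Amal.Amal X (S4Amal.cadj F) := ⟨A0, fun u w h => by
    obtain ⟨i, hi⟩ := S4Amal.relIndex_coset h
    rw [hi, (hd i).2.1]⟩
  have hadj : S4Amal.cadj F (S4Amal.base F true) (S4Amal.base F false) :=
    ⟨1, true, (one_smul _ _).symm, (one_smul _ _).symm⟩
  have hq : S4Amal.Qs X (S4Amal.base F true) = Cfsg.pCoreOf 2 (F true) := by
    rw [S4Amal.Qs, S4Amal.gs_base]
  have hz : S4Amal.ze X (S4Amal.base F true) (S4Amal.base F false) =
      Cfsg.omegaCenterOf (F true ⊓ F (!true)) := by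
    rw [S4Amal.ze, S4Amal.gs_base, S4Amal.gs_base]; rfl
  obtain ⟨hu, hze⟩ := A.card_qs (S4Amal.base F true) hadj
  obtain ⟨-, hle2⟩ := A.card_dv (S4Amal.base F true) hadj
  have hcP : Nat.card (Cfsg.pCoreOf 2 P) = Nat.card (S4Amal.Qs X (S4Amal.base F true)) := by
    rw [hq, ← card_map_of_injective hinj, hcore]; rfl
  have hcZ : Nat.card (Cfsg.omegaCenterOf T) =
      Nat.card (S4Amal.ze X (S4Amal.base F true) (S4Amal.base F false)) := by
    rw [hz, ← card_map_of_injective hinj, omegaCenterOf_map hinj, hT]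
  have hcoreT : Cfsg.pCoreOf 2 P ≤ T :=
    S4Amal.core_le_sylow hP.le hP.two (by rw [hP.three]; norm_num)
  have e := Coprime.card_mul_relIndex_of_le hcoreT
  rw [hP.core] at e
  refine ⟨fun x hx => ?_, by omega, by omega, by omega⟩
  rw [show P = cond true P Q from rfl, ← hcore] at hx
  obtain ⟨y, hy, rfl⟩ := hx
  rw [← hq] at hy
  rw [← map_mul, A.qs_sq (S4Amal.base F true) hadj hy, map_one]

end Cfsg.Agent.ZNComp
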