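import Cfsg.Prelude.Def_JComponents
import Cfsg.Agent.S4Free.Abelian

/-!
# Elementary facts on `J(T)`-components
-/

set_option autoImplicit false

namespace Cfsg.Agent.ZNComp

open Subgroup
open scoped commutatorElement
open SfFree (cj Mem jS)

variable {G : Type*} [Group G]

/-- `K` is generated by its elements of odd order. -/
abbrev OddGen (K : Subgroup G) : Prop :=
  Subgroup.closure {g : G | g ∈ K ∧ Odd (orderOf g)} = K

theorem thompson_eq_jS [Finite G] (U : Subgroup G) : Cfsg.thompsonSubgroupOf 2 U = jS U := by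
  refine le_antisymm (Thompson.thompsonOf_le_iff.2 fun A hA hea hmax => SfFree.le_jS ⟨hA, hea, hmax⟩) ?_
  exact iSup₂_le fun A hA => Thompson.le_thompsonOf hA.1 hA.2.1 hA.2.2

theorem le_normalizer_of_commutator_eq {K J : Subgroup G} (h : ⁅K, J⁆ = K) :
    J ≤ normalizer (K : Set G) := by
  have := normalizer_commutator_ge_right K J
  rwa [h] at this

variable [Finite G]

theorem mem_of_odd {N Y : Subgroup G} (hN : Y ≤ normalizer (N : Set G)) {k : ℕ}
    (hidx : N.relIndex Y ∣ 2 ^ k) {x : G} (hx : x ∈ Y) (ho : Odd (orderOf x)) : x ∈ N := by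
  have : (N.subgroupOf Y).Normal := normal_subgroupOf_of_le_normalizer hN
  have h1 : x ^ N.relIndex Y ∈ N := by
    have := mem_subgroupOf.1 (pow_index_mem (N.subgroupOf Y) (⟨x, hx⟩ : Y))
    exact this
  obtain ⟨j, -, hj⟩ := (Nat.dvd_prime_pow Nat.prime_two).1 hidx
  rw [hj] at h1
  exact zpowers_le.2 h1 (SfFree.self_mem_zpowers_pow
    ((Nat.coprime_two_left.2 ho).pow_left j))

theorem relIndex_sup_dvd {N R : Subgroup G} (hR : R ≤ normalizer (N : Set G)) :
    N.relIndex (N ⊔ R) ∣ Nat.card R := by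
  refine ⟨Nat.card (N ⊓ R : Subgroup G), ?_⟩
  have h := SfFree.card_sup_mul hR
  rw [← Coprime.card_mul_relIndex_of_le (le_sup_left : N ≤ N ⊔ R), mul_assoc] at h
  exact (Nat.eq_of_mul_eq_mul_left Nat.card_pos h).symm

/-- Elements of odd order of `N R` lie in `N` when `R` is a 2-group normalizing `N`. -/
theorem mem_of_odd_sup {N R : Subgroup G} (hR : R ≤ normalizer (N : Set G)) (hR2 : IsPGroup 2 R)
    {x : G} (hx : x ∈ N ⊔ R) (ho : Odd (orderOf x)) : x ∈ N := by
  have : Fact (Nat.Prime 2) := ⟨Nat.prime_two⟩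
  obtain ⟨k, hk⟩ := IsPGroup.iff_card.1 hR2
  exact mem_of_odd (sup_le le_normalizer hR) (hk ▸ relIndex_sup_dvd hR) hx ho

theorem OddGen.le_of_sup {K N R : Subgroup G} (hK : OddGen K) (hR : R ≤ normalizer (N : Set G))
    (hR2 : IsPGroup 2 R) (hle : K ≤ N ⊔ R) : K ≤ N := by
  rw [← hK, closure_le]
  exact fun x hx => mem_of_odd_sup hR hR2 (hle hx.1) hx.2

/-- A group normalized by `K` and `J` and normalizing `J` normalizes `K = [K, J]`. -/
theorem le_normalizer_component {K J Q : Subgroup G} (hK : OddGen K) (hKJ : ⁅K, J⁆ = K)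
    (hJ : IsPGroup 2 J) (hKQ : K ≤ normalizer (Q : Set G)) (hJQ : J ≤ normalizer (Q : Set G))
    (hQJ : Q ≤ normalizer (J : Set G)) : Q ≤ normalizer (K : Set G) := by
  intro q hq
  set R := Q ⊓ J with hR
  have hJK : J ≤ normalizer (K : Set G) := le_normalizer_of_commutator_eq hKJ
  have hRK : R ≤ normalizer (K : Set G) := inf_le_right.trans hJK
  have hle : K ≤ (K ⊔ R).comap (MulAut.conj q).toMonoidHom := by
    conv_lhs => rw [← hKJ]
    rw [commutator_le]
    intro k hk j hj
    rw [mem_comap, MulEquiv.coe_toMonoidHom, map_commutatorElement]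
    set j' := MulAut.conj q j with hj'
    have hj'J : j' ∈ J := (mem_normalizer_iff.1 (hQJ hq) j).1 hj
    set u := k⁻¹ * (q * k * q⁻¹) with hu
    have huQ : u ∈ Q := by
      rw [hu, show k⁻¹ * (q * k * q⁻¹) = (k⁻¹ * q * k) * q⁻¹ by group]
      exact mul_mem ((mem_normalizer_iff''.1 (hKQ hk) q).1 hq) (inv_mem hq)
    have h1 : ⁅u, j'⁆ ∈ R := by
      refine ⟨?_, ?_⟩
      · rw [commutatorElement_def, mul_assoc u, mul_assoc u]
        exact mul_mem huQ ((mem_normalizer_iff.1 (hJQ hj'J) _).1 (inv_mem huQ))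
      · rw [commutatorElement_def]
        exact J.mul_mem ((mem_normalizer_iff.1 (hQJ huQ) _).1 hj'J) (J.inv_mem hj'J)
    have h2 : ⁅k, j'⁆ ∈ K := hKJ.le (commutator_mem_commutator hk hj'J)
    have e : ⁅MulAut.conj q k, j'⁆ = k * ⁅u, j'⁆ * k⁻¹ * ⁅k, j'⁆ := by
      rw [MulAut.conj_apply, show q * k * q⁻¹ = k * u by rw [hu]; group]
      simp only [commutatorElement_def]; group
    rw [e]
    exact mul_mem (mul_mem (mul_mem (mem_sup_left hk) (mem_sup_right h1))
      (inv_mem (mem_sup_left hk))) (mem_sup_left h2)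
  refine QdFree.ZJControl.mem_normalizer_of_conj fun x hx => ?_
  have h : closure {g : G | g ∈ K ∧ Odd (orderOf g)} ≤ K.comap (MulAut.conj q).toMonoidHom := by
    rw [closure_le]
    rintro g ⟨hg, hgo⟩
    refine mem_of_odd_sup hRK (hJ.to_le inf_le_right) (hle hg) ?_
    rw [MulEquiv.coe_toMonoidHom, MulEquiv.orderOf_eq]
    exact hgo
  rw [hK] at h
  exact h hx

end Cfsg.Agent.ZNComp
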