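import Cfsg.Agent.ZNComp.Straddle
import Cfsg.Agent.S4Amalgam.GoldBound
import Cfsg.Agent.ZNComp.Fixed
import Cfsg.Agent.S2945

/-!
# Components inside a common local subgroup
-/

set_option autoImplicit false

namespace Cfsg.Agent.ZNComp

open Subgroup
open scoped commutatorElement
open SfFree (cj Mem jS)

namespace Comp

variable {L : Type*} [Group L] [Finite L] (h : Loc L) {S S' : Sylow 2 L} {K K' : Subgroup L}
include h

/-- Distinct components centralize each other's four-groups. -/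
theorem centralizes_wOf (hK : Comp (jS (S : Subgroup L)) K) (hK' : Comp (jS (S' : Subgroup L)) K')
    (hne : K' ≠ K) : K' ≤ centralizer (Cfsg.wOf K : Set L) := by
  have : Fact (Nat.Prime 2) := ⟨Nat.prime_two⟩
  have hff := ff h
  obtain ⟨P, A, -, -, hA, hKA⟩ := hK.exists_line h
  obtain ⟨P', B, -, -, hB, hKB⟩ := hK'.exists_line h
  have hblk : Offender.blk 2 (imJ L) B ≠ Offender.blk 2 (imJ L) A := fun hblk => hne <| by
    refine hK.eq_of_map_eq h hK' ?_
    rw [hKA, hKB]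
    refine eq_of_le_of_card_ge ?_ (by rw [(line_inverts h hA).1, (line_inverts h hB).1])
    rw [← hA.blk_inf_core hff, ← hB.blk_inf_core hff, hblk]
  intro k hk
  rw [mem_centralizer_iff]
  intro w hw
  have h2 : rep L k ∈ Offender.blk 2 (imJ L) B :=
    mem_sup_left (hKB ▸ mem_map_of_mem _ hk)
  have h3 := mem_centralizer_iff.1 ((hA.blk_le_of_ne hff hB hblk) h2).2 _ (hK.inl_wOf_mem h hKA hw)
  have h4 := mul_inv_eq_iff_eq_mul.2 h3.symm
  rw [Offender.act_conj] at h4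
  have h5 : k * w * k⁻¹ = w := congrArg Subtype.val (SemidirectProduct.inl_injective h4)
  exact (mul_inv_eq_iff_eq_mul.1 h5).symm

end Comp

variable {G : Type*} [Group G] [Finite G]

/-- `J(T)` as used for components. -/
abbrev zJ (T : Subgroup G) : Subgroup G := Cfsg.omegaCenterOf (jS T)

/-- The part of `Ω₁(Z(J(T)))` centralizing a component. -/
abbrev eFix (T K : Subgroup G) : Subgroup G := zJ T ⊓ centralizer (K : Set G)

/-- A component whose local overgroups have the same `J`. -/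
structure Good (T K : Subgroup G) : Prop where
  comp : Cfsg.IsJComponent T K
  syl : ∀ L T₀ : Subgroup G, Cfsg.IsTwoLocal L → jS T ≤ L → K ≤ L → Cfsg.IsSylowTwoIn T₀ L →
    jS T ≤ T₀ → jS T₀ = jS T

omit [Finite G] in
theorem wOf_le_self (K : Subgroup G) : Cfsg.wOf K ≤ K := by
  have h : Cfsg.omegaCenterOf (Cfsg.pCoreOf 2 K) ≤ K :=
    ((Thompson.omegaOne_le 2 _).trans inf_le_left).trans (core_le K)
  refine (commutator_mono h le_rfl).trans (commutator_le.2 fun u hu k hk => ?_)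
  rw [commutatorElement_def]
  exact K.mul_mem (K.mul_mem (K.mul_mem hu hk) (K.inv_mem hu)) (K.inv_mem hk)

theorem wOf_ne_bot {T K : Subgroup G} (hK : Cfsg.IsJComponent T K) : Cfsg.wOf K ≠ ⊥ := fun e => by
  have := hK.2.2.2.2.1
  rw [e, card_bot] at this
  norm_num at this

theorem jS_le_normalizer {T K : Subgroup G} (hK : Cfsg.IsJComponent T K) :
    jS T ≤ normalizer (K : Set G) := by
  rw [← thompson_eq_jS]
  exact IsJComponent.le_normalizer hK

/-- A component normalizes no 2-group containing `J`. -/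
theorem not_le_normalizer {T K R : Subgroup G} (hK : Cfsg.IsJComponent T K) (hR : IsPGroup 2 R)
    (hJ : jS T ≤ R) : ¬ K ≤ normalizer (R : Set G) := fun hle => by
  have h1 : K ≤ R := by
    conv_lhs => rw [← hK.2.1, thompson_eq_jS]
    exact (commutator_mono le_rfl hJ).trans (le_normalizer_iff_commutator_le_right.1 hle)
  have h3 := hK.2.2.1
  rw [relIndex_eq_one.2 ((S4Amal.le_core_of_normal le_rfl le_normalizer (hR.to_le h1)))] at h3
  norm_num at h3

omit [Finite G] in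
theorem isSylowTwoIn_cj {R L : Subgroup G} (h : Cfsg.IsSylowTwoIn R L) (g : G) :
    Cfsg.IsSylowTwoIn (cj g R) (cj g L) := by
  refine ⟨map_mono h.1, h.2.1.map _, ?_⟩
  rw [SfFree.cj, SfFree.cj, relIndex_map_map_of_injective _ _ (MulAut.conj g).injective]
  exact h.2.2

omit [Finite G] in
theorem isTwoLocal_cj {L : Subgroup G} (h : Cfsg.IsTwoLocal L) (g : G) :
    Cfsg.IsTwoLocal (cj g L) := by
  obtain ⟨U, hU, hU1, rfl⟩ := h
  refine ⟨cj g U, hU.map _, fun e => hU1 ((map_eq_bot_iff_of_injective _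
    (MulAut.conj g).injective).1 e), ?_⟩
  exact Subgroup.map_equiv_normalizer_eq U (MulAut.conj g)

theorem jComp_congr {T T' K : Subgroup G} (h : jS T' = jS T) (hK : Cfsg.IsJComponent T K) :
    Cfsg.IsJComponent T' K := by
  unfold Cfsg.IsJComponent at hK ⊢
  rw [thompson_eq_jS T', h, ← thompson_eq_jS T]
  exact hK

theorem jComp_cj {T K : Subgroup G} (hK : Cfsg.IsJComponent T K) (g : G) :
    Cfsg.IsJComponent (cj g T) (cj g K) := by
  obtain ⟨h1, h2, h3, h4, h5, h6⟩ := hK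
  have hinj := (MulAut.conj g).injective
  have hc : Comp (jS T) K := ⟨h1, by rw [← thompson_eq_jS]; exact h2, h3, h5⟩
  have hc' := hc.cj g
  have hJ : cj g (jS T) = jS (cj g T) :=
    (SfFree.jS_map (ι := (MulAut.conj g).toMonoidHom) hinj T).symm
  refine ⟨hc'.odd, ?_, hc'.idx, fun R hR hJR => ?_, hc'.w4, fun w hw => ?_⟩
  · rw [thompson_eq_jS, ← hJ]
    exact hc'.comm
  · rw [thompson_eq_jS] at hJR hR ⊢
    rw [thompson_eq_jS, ← hJ] at *
    have hR' := isSylowTwoIn_cj hR g⁻¹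
    rw [SfFree.cj, SfFree.cj, Subgroup.map_sup] at hR'
    have e1 : ∀ H : Subgroup G, cj g⁻¹ (cj g H) = H := fun H => by
      rw [SfFree.cj_cj, inv_mul_cancel, SfFree.cj_one]
    have h9 : jS (cj g⁻¹ R) = jS T := by
      have := h4 (cj g⁻¹ R) ?_ ?_
      · rwa [thompson_eq_jS] at this
      · have e2 := hR'
        rw [show Subgroup.map (MulAut.conj g⁻¹).toMonoidHom (SfFree.cj g K) = K from e1 K,
          show Subgroup.map (MulAut.conj g⁻¹).toMonoidHom (SfFree.cj g (jS T)) = jS T from e1 _]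
          at e2
        exact e2
      · rw [← e1 (jS T)]
        exact SfFree.cj_mono hJR
    rw [← h9, SfFree.cj, ← SfFree.jS_map (ι := (MulAut.conj g).toMonoidHom) hinj]
    show jS R = jS (cj g (cj g⁻¹ R))
    rw [SfFree.cj_cj, mul_inv_cancel, SfFree.cj_one]
  · rw [← wOf_map hinj] at hw
    obtain ⟨v, hv, rfl⟩ := hw
    rw [← map_mul, h6 v hv, map_one]

theorem good_cj {T K : Subgroup G} (hK : Good T K) {g : G} (hg : g ∈ normalizer (jS T : Set G)) :
    Good T (cj g K) := by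
  have hJ : jS (cj g T) = jS T :=
    (SfFree.jS_map (ι := (MulAut.conj g).toMonoidHom) (MulAut.conj g).injective T).trans
      (SfFree.cj_of_mem_normalizer hg)
  refine ⟨jComp_congr hJ.symm (jComp_cj hK.comp g), fun L T₀ hL hJL hKL hT₀ hJT => ?_⟩
  have e1 : ∀ H : Subgroup G, cj g⁻¹ (cj g H) = H := fun H => by
    rw [SfFree.cj_cj, inv_mul_cancel, SfFree.cj_one]
  have hJi : cj g⁻¹ (jS T) = jS T :=
    SfFree.cj_of_mem_normalizer ((normalizer (jS T : Set G)).inv_mem hg)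
  have h := hK.syl (cj g⁻¹ L) (cj g⁻¹ T₀) (isTwoLocal_cj hL _) (hJi ▸ SfFree.cj_mono hJL)
    (e1 K ▸ SfFree.cj_mono hKL) (isSylowTwoIn_cj hT₀ _) (hJi ▸ SfFree.cj_mono hJT)
  have h2 := SfFree.jS_map (ι := (MulAut.conj g⁻¹).toMonoidHom) (MulAut.conj g⁻¹).injective T₀
  rw [SfFree.cj, h2] at h
  refine map_injective (f := (MulAut.conj g⁻¹).toMonoidHom) (MulAut.conj g⁻¹).injective ?_
  rw [h]
  exact hJi.symm

theorem Good.mem_zero {T K : Subgroup G} (hK : Good T K) : K ∈ Cfsg.jComponentsZero T :=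
  ⟨hK.comp, fun R hJR hR => by
    rw [thompson_eq_jS] at hJR
    rw [thompson_eq_jS, thompson_eq_jS]
    exact hK.syl _ R (IsJComponent.isTwoLocal hK.comp)
      ((jS_le_normalizer hK.comp).trans (normalizer_le_wOf K))
      (le_normalizer.trans (normalizer_le_wOf K)) hR hJR⟩

/-- The local setting at a good component. -/
theorem Good.setting (hG : Hyp G) {T K L : Subgroup G} (hT : IsPGroup 2 T) (hK : Good T K)
    (hL : Cfsg.IsTwoLocal L) (hJ : jS T ≤ L) (hKL : K ≤ L) :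
    ∃ _ : Loc L, ∃ S : Sylow 2 L,
      jS ((S : Subgroup L).map L.subtype) = Cfsg.thompsonSubgroupOf 2 T := by
  obtain ⟨S, hS⟩ := exists_sylow_containing (hT.to_le (SfFree.jS_le T)) hJ
  exact ⟨loc_of hG (local_charTwo hG hL), S, by
    rw [thompson_eq_jS]; exact hK.syl L _ hL hJ hKL (isSylowTwoIn_map S) hS⟩

/-- Two components in one local subgroup. -/
theorem co_pair (hG : Hyp G) {T K K' L : Subgroup G} (hT : IsPGroup 2 T) (hK : Good T K)
    (hK' : Cfsg.IsJComponent T K') (hL : Cfsg.IsTwoLocal L) (hJ : jS T ≤ L) (hKL : K ≤ L)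
    (hKL' : K' ≤ L) :
    K' = K ∨ (Cfsg.wOf K ⊓ Cfsg.wOf K' = ⊥ ∧ K' ≤ centralizer (Cfsg.wOf K : Set G) ∧
      K ≤ centralizer (Cfsg.wOf K' : Set G) ∧ K' ≤ normalizer (K : Set G) ∧
      K ≤ normalizer (K' : Set G)) := by
  by_cases hne : K' = K
  · exact Or.inl hne
  refine Or.inr ?_
  obtain ⟨h, S, hS⟩ := hK.setting hG hT hL hJ hKL
  have hc := comp_of_isJComponent S hS hK.comp hKL
  have hc' := comp_of_isJComponent S hS hK' hKL'
  have hmap : ∀ {H : Subgroup G}, H ≤ L → (H.subgroupOf L).map L.subtype = H := fun hH =>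
    map_subgroupOf_eq_of_le hH
  have hW : ∀ {H : Subgroup G}, H ≤ L → (Cfsg.wOf (H.subgroupOf L)).map L.subtype = Cfsg.wOf H :=
    fun hH => by rw [wOf_map L.subtype_injective, hmap hH]
  have hne' : K'.subgroupOf L ≠ K.subgroupOf L := fun e => hne (by
    rw [← hmap hKL', e, hmap hKL])
  have hdis : ∀ {A B : Subgroup G}, A ≤ L → B ≤ L → Comp (jS (S : Subgroup L)) (A.subgroupOf L) →
      Comp (jS (S : Subgroup L)) (B.subgroupOf L) → B.subgroupOf L ≠ A.subgroupOf L →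
      Cfsg.wOf A ⊓ Cfsg.wOf B = ⊥ := fun {A B} hA hB cA cB hn => by
    rw [← hW hA, ← hW hB, ← Subgroup.map_inf _ _ _ L.subtype_injective,
      map_eq_bot_iff_of_injective _ L.subtype_injective]
    by_contra hm
    exact hn (cA.eq_of_wOf h cB hm)
  have hcen : ∀ {A B : Subgroup G}, A ≤ L → B ≤ L → Comp (jS (S : Subgroup L)) (A.subgroupOf L) →
      Comp (jS (S : Subgroup L)) (B.subgroupOf L) → B.subgroupOf L ≠ A.subgroupOf L →
      B ≤ centralizer (Cfsg.wOf A : Set G) := fun {A B} hA hB cA cB hn b hb => by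
    rw [mem_centralizer_iff]
    intro w hw
    rw [SetLike.mem_coe, ← hW hA] at hw
    obtain ⟨v, hv, rfl⟩ := hw
    exact congrArg Subtype.val (mem_centralizer_iff.1
      (cA.centralizes_wOf h cB hn (mem_subgroupOf.2 hb : (⟨b, hB hb⟩ : L) ∈ _)) v hv)
  have hnor : ∀ {A B : Subgroup G}, A ≤ L → B ≤ L → Comp (jS (S : Subgroup L)) (A.subgroupOf L) →
      Comp (jS (S : Subgroup L)) (B.subgroupOf L) → B.subgroupOf L ≠ A.subgroupOf L →
      B ≤ normalizer (A : Set G) := fun {A B} hA hB cA cB hn b hb => by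
    set b' : L := ⟨b, hB hb⟩
    have hcj := cA.cj b'
    have hJ' : cj b' (jS (S : Subgroup L)) = jS ((b' • S : Sylow 2 L) : Subgroup L) := by
      rw [Sylow.coe_subgroup_smul, Coprime.conj_smul_eq_map,
        SfFree.jS_map (ι := (MulAut.conj b').toMonoidHom) (MulAut.conj b').injective]
    rw [hJ'] at hcj
    have he : cj b' (Cfsg.wOf (A.subgroupOf L)) = Cfsg.wOf (A.subgroupOf L) :=
      SfFree.cj_of_mem_normalizer (centralizer_le_normalizer _
        (cA.centralizes_wOf h cB hn (mem_subgroupOf.2 hb)))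
    have heq := cA.eq_of_wOf h hcj (by
      rw [← wOf_map (f := (MulAut.conj b').toMonoidHom) (MulAut.conj b').injective]
      rw [show (Cfsg.wOf (A.subgroupOf L)).map (MulAut.conj b').toMonoidHom = _ from he, inf_idem]
      intro e0
      have := cA.w4
      rw [e0, card_bot] at this
      norm_num at this)
    have := le_normalizer_map L.subtype (H := A.subgroupOf L)
      ⟨b', mem_normalizer_iff_map_conj_eq.2 heq, rfl⟩
    rwa [hmap hA] at this
  exact ⟨hdis hKL hKL' hc hc' hne', hcen hKL hKL' hc hc' hne', hcen hKL' hKL hc' hc hne'.symm,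
    hnor hKL hKL' hc hc' hne', hnor hKL' hKL hc' hc hne'.symm⟩

theorem zJ_le (T : Subgroup G) : zJ T ≤ jS T := (Thompson.omegaOne_le 2 _).trans inf_le_left

theorem zJ_sq {T : Subgroup G} {x : G} (hx : x ∈ zJ T) : x * x = 1 :=
  SfFree.ea_sq (Thompson.omegaOne_centre_ea 2 (jS T)) hx

theorem zJ_commute {T : Subgroup G} {x y : G} (hx : x ∈ zJ T) (hy : y ∈ zJ T) : Commute x y :=
  SfFree.ea_commute (Thompson.omegaOne_centre_ea 2 (jS T)) hx hy

omit [Finite G] in
theorem eFix_inf_wOf {T K : Subgroup G} (hK : Cfsg.IsJComponent T K) {w : G}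
    (hw : w ∈ Cfsg.wOf K) (he : w ∈ eFix T K) : w = 1 := by
  obtain ⟨x, hx, hx0⟩ := exists_not_mem_core hK.2.2.1
  exact (wOf_spec hK.2.2.1 hx hx0).2.2.2.2 w hw (mem_centralizer_iff.1 he.2 x hx)

/-- The nontrivial element of `Ω₁(Z(J)) ∩ W`. -/
theorem exists_w {T K : Subgroup G} (hT : IsPGroup 2 T) (hK : Cfsg.IsJComponent T K) :
    ∃ w ∈ zJ T, w ∈ Cfsg.wOf K ∧ w ≠ 1 ∧ ∀ v ∈ zJ T, v ∈ Cfsg.wOf K → v = 1 ∨ v = w := by
  have h := (fix_decomp hT hK).1
  rw [thompson_eq_jS] at h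
  obtain ⟨a, b, hab, hset⟩ := Nat.card_eq_two_iff.1 h
  obtain ⟨w, hw, hw1⟩ : ∃ w ∈ zJ T ⊓ Cfsg.wOf K, w ≠ 1 := by
    by_cases ha : (a : G) = 1
    · exact ⟨b, b.2, fun e => hab (Subtype.ext (ha.trans e.symm))⟩
    · exact ⟨a, a.2, ha⟩
  refine ⟨w, hw.1, hw.2, hw1, fun v hv hv' => ?_⟩
  have h1 : ∀ c : ↥(zJ T ⊓ Cfsg.wOf K), c = a ∨ c = b := fun c => by
    have := hset.ge (Set.mem_univ c)
    simpa using this
  rcases h1 ⟨v, hv, hv'⟩ with e1 | e1 <;> rcases h1 ⟨w, hw⟩ with e2 | e2 <;>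
    rcases h1 ⟨1, one_mem _⟩ with e3 | e3
  all_goals first
    | exact Or.inr (congrArg Subtype.val (e1.trans e2.symm))
    | exact Or.inl (congrArg Subtype.val (e1.trans e3.symm))
    | exact absurd (congrArg Subtype.val (e2.trans e3.symm)) hw1

/-- `Ω₁(Z(J))` is `E × ⟨w⟩`. -/
theorem eFix_split {T K : Subgroup G} (hT : IsPGroup 2 T) (hK : Cfsg.IsJComponent T K) {w : G}
    (hw : w ∈ zJ T) (hwW : w ∈ Cfsg.wOf K) (hw1 : w ≠ 1) {z : G} (hz : z ∈ zJ T) :
    z ∈ eFix T K ∨ z * w ∈ eFix T K := by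
  obtain ⟨w', -, -, -, huniq⟩ := exists_w hT hK
  have h := (fix_decomp hT hK).2
  rw [thompson_eq_jS] at h
  have hn : zJ T ⊓ ((K ⊔ jS T) ⊓ centralizer ((K ⊔ jS T : Subgroup G) : Set G)) ≤
      normalizer ((zJ T ⊓ Cfsg.wOf K : Subgroup G) : Set G) := fun a ha =>
    centralizer_le_normalizer _ (mem_centralizer_iff.2 fun b hb => (zJ_commute hb.1 ha.1).eq)
  change z ∈ Cfsg.omegaCenterOf (jS T) at hz
  rw [← h, ← SetLike.mem_coe, coe_mul_of_left_le_normalizer_right _ _ hn] at hz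
  obtain ⟨e, ⟨he, -, hec⟩, v, ⟨hv, hv'⟩, rfl⟩ := hz
  have heE : e ∈ eFix T K := ⟨he, centralizer_le (SetLike.coe_subset_coe.2 le_sup_left) hec⟩
  rcases huniq v hv hv' with e1 | e1
  · left
    rw [e1]
    simpa using heE
  · right
    obtain rfl : v = w := e1.trans ((huniq w hw hwW).resolve_left hw1).symm
    simpa [mul_assoc, zJ_sq hv] using heE

theorem card_zJ {T K : Subgroup G} (hT : IsPGroup 2 T) (hK : Cfsg.IsJComponent T K) :
    Nat.card (zJ T) = 2 * Nat.card (eFix T K) := by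
  obtain ⟨w, hw, hwW, hw1, -⟩ := exists_w hT hK
  have h2 : (eFix T K).relIndex (zJ T) = 2 := by
    refine le_antisymm (S4Amal.relIndex_le_two hw fun c hc => eFix_split hT hK hw hwW hw1 hc) ?_
    have h1 : (eFix T K).relIndex (zJ T) ≠ 1 := fun e =>
      hw1 (eFix_inf_wOf hK hwW (relIndex_eq_one.1 e hw))
    have h0 : (eFix T K).relIndex (zJ T) ≠ 0 := Nat.card_pos.ne'
    omega
  have := Coprime.card_mul_relIndex_of_le (inf_le_left : eFix T K ≤ zJ T)
  rw [h2, mul_comm] at this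
  exact this.symm

/-- A common fixed element gives a common local subgroup. -/
theorem local_of_fix {T K K' : Subgroup G} {e : G} (he : e ∈ eFix T K) (he' : e ∈ eFix T K')
    (he1 : e ≠ 1) :
    ∃ L, Cfsg.IsTwoLocal L ∧ jS T ≤ L ∧ K ≤ L ∧ K' ≤ L ∧
      centralizer ({e} : Set G) ≤ L := by
  have : Fact (Nat.Prime 2) := ⟨Nat.prime_two⟩
  have hC : centralizer ({e} : Set G) ≤ normalizer ((zpowers e : Subgroup G) : Set G) := by
    refine le_trans (le_of_eq ?_) (centralizer_le_normalizer _)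
    rw [zpowers_eq_closure, centralizer_closure]
  have hmem : ∀ {H : Subgroup G}, (∀ x ∈ H, x * e = e * x) → H ≤ centralizer ({e} : Set G) :=
    fun hH x hx => mem_centralizer_singleton_iff.2 (hH x hx)
  refine ⟨_, SfFree.isTwoLocal_normalizer (X := zpowers e) (IsPGroup.of_card (n := 1) ?_)
    (fun h => he1 (zpowers_eq_bot.1 h)), ?_, ?_, ?_, hC⟩
  · rw [Nat.card_zpowers, pow_one, orderOf_eq_prime_iff]
    exact ⟨by rw [pow_two]; exact zJ_sq he.1, he1⟩
  · refine (hmem fun x hx => ?_).trans hC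
    exact mem_centralizer_iff.1 ((Thompson.omegaOne_le 2 _).trans inf_le_right he.1) x hx
  · exact (hmem fun x hx => mem_centralizer_iff.1 he.2 x hx).trans hC
  · exact (hmem fun x hx => mem_centralizer_iff.1 he'.2 x hx).trans hC

/-- Distinct components in a common local subgroup: the line of one is fixed by the other. -/
theorem co_fix (hG : Hyp G) {T K K' L : Subgroup G} (hT : IsPGroup 2 T) (hK : Good T K)
    (hK' : Cfsg.IsJComponent T K') (hL : Cfsg.IsTwoLocal L) (hJ : jS T ≤ L) (hKL : K ≤ L)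
    (hKL' : K' ≤ L) (hne : K' ≠ K) {w : G} (hw : w ∈ zJ T) :
    (w ∈ Cfsg.wOf K' → w ∈ eFix T K) ∧ (w ∈ Cfsg.wOf K → w ∈ eFix T K') := by
  obtain ⟨-, h1, h2, -, -⟩ :=
    (co_pair hG hT hK hK' hL hJ hKL hKL').resolve_left hne
  exact ⟨fun h => ⟨hw, Subgroup.le_centralizer_iff.1 h2 h⟩,
    fun h => ⟨hw, Subgroup.le_centralizer_iff.1 h1 h⟩⟩

/-- Components with the same nontrivial fixed group are equal. -/
theorem eq_of_eFix (hG : Hyp G) {T K K' : Subgroup G} (hT : IsPGroup 2 T) (hK : Good T K)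
    (hK' : Cfsg.IsJComponent T K') (he : eFix T K' = eFix T K) (hne : eFix T K ≠ ⊥) : K' = K := by
  by_contra h
  obtain ⟨e, hee, he1⟩ := Offender.exists_ne_one_of_ne_bot hne
  obtain ⟨L, hL, hJ, hKL, hKL', -⟩ := local_of_fix (K' := K') hee (he ▸ hee) he1
  obtain ⟨w, hw, hwW, hw1, -⟩ := exists_w hT hK'
  exact hw1 (eFix_inf_wOf hK' hwW (he ▸ (co_fix hG hT hK hK' hL hJ hKL hKL' h hw).1 hwW))

/-- Conjugates in a local subgroup are again components. -/
theorem orbit_comp (hG : Hyp G) {T K L : Subgroup G} (hT : IsPGroup 2 T) (hK : Good T K)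
    (hL : Cfsg.IsTwoLocal L) (hJ : jS T ≤ L) (hKL : K ≤ L) {y : G} (hy : y ∈ L) :
    Cfsg.IsJComponent T (cj y K) := by
  have : Fact (Nat.Prime 2) := ⟨Nat.prime_two⟩
  obtain ⟨S, hS⟩ := exists_sylow_containing (hT.to_le (SfFree.jS_le T)) hJ
  set T₀ := (S : Subgroup L).map L.subtype with hT₀
  have hsyl := isSylowTwoIn_map S
  have heq := hK.syl L T₀ hL hJ hKL hsyl hS
  have hjo : L ∈ Cfsg.jOvergroups T₀ := by
    refine ⟨hsyl, fun hle => ?_, local_charTwo hG hL⟩
    rw [thompson_eq_jS, heq] at hle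
    exact not_le_normalizer hK.comp (core_isPGroup L) hle
      (hKL.trans (LocalStructure.le_normalizer_pCoreOf L))
  have hT₀1 : T₀ ≠ ⊥ := fun e => by
    have h1 : jS T ≤ ⊥ := e ▸ hS
    exact not_le_normalizer hK.comp (IsPGroup.of_bot) h1 (by rw [normalizer_eq_top (⊥ : Subgroup G)]; exact le_top)
  have hKz : K ∈ Cfsg.jComponentsZero T₀ := Good.mem_zero ⟨jComp_congr heq hK.comp,
    fun L' R hL' hJ' hK' hR hJR => by
      rw [heq] at hJ' hJR ⊢
      exact hK.syl L' R hL' hJ' hK' hR hJR⟩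
  have hsn := isSubnormal_subgroupOf hG hjo hKz.1 hKL
  have hyK : cj y K ≤ L := by
    refine (SfFree.cj_mono hKL).trans (le_of_eq (SfFree.cj_of_mem_normalizer ?_))
    exact le_normalizer hy
  have hsn' : ((cj y K).subgroupOf L).IsSubnormal := by
    have := hsn.map (f := (MulAut.conj (⟨y, hy⟩ : L)).toMonoidHom) (MulAut.conj _).surjective
    convert this using 1
    refine map_injective L.subtype_injective ?_
    rw [map_subgroupOf_eq_of_le hyK, map_map]
    conv_lhs => rw [← map_subgroupOf_eq_of_le hKL, SfFree.cj, map_map]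
    rfl
  have hJT₀ : Cfsg.thompsonSubgroupOf 2 T₀ ≤ L := (Thompson.thompsonOf_le 2 _).trans hsyl.1
  refine jComp_congr heq.symm (S2945.result hG.char2 hG.solv hG.cZ T₀ hsyl.2.1 hT₀1 L hjo (cj y K)
    hyK (hsn'.comap (inclusion (sup_le hyK hJT₀))) y ?_)
  refine ⟨jComp_cj hKz.1 y, fun R hJR hR => ?_⟩
  have e1 : ∀ H : Subgroup G, cj y⁻¹ (cj y H) = H := fun H => by
    rw [SfFree.cj_cj, inv_mul_cancel, SfFree.cj_one]
  have hN : cj y⁻¹ (normalizer (Cfsg.wOf (cj y K) : Set G)) = normalizer (Cfsg.wOf K : Set G) := by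
    rw [← wOf_map (MulAut.conj y).injective]
    refine (Subgroup.map_equiv_normalizer_eq _ (MulAut.conj y⁻¹)).trans ?_
    rw [show Subgroup.map (MulAut.conj y⁻¹).toMonoidHom
      (Subgroup.map (MulAut.conj y).toMonoidHom (Cfsg.wOf K)) = Cfsg.wOf K from e1 _]
  have hT₀' : jS (T₀.map (MulAut.conj y).toMonoidHom) = cj y (jS T₀) :=
    SfFree.jS_map (MulAut.conj y).injective T₀
  rw [thompson_eq_jS, hT₀'] at hJR
  rw [thompson_eq_jS, thompson_eq_jS, hT₀']
  have := hKz.2 (cj y⁻¹ R) (by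
    rw [thompson_eq_jS, ← e1 (jS T₀)]; exact SfFree.cj_mono hJR) (hN ▸ isSylowTwoIn_cj hR y⁻¹)
  rw [thompson_eq_jS, thompson_eq_jS] at this
  rw [← this, SfFree.cj, ← SfFree.jS_map (ι := (MulAut.conj y).toMonoidHom) (MulAut.conj y).injective]
  show jS R = jS (cj y (cj y⁻¹ R))
  rw [SfFree.cj_cj, mul_inv_cancel, SfFree.cj_one]

/-- A family of pairwise normalizing components lies in a local subgroup invariant under it. -/
theorem local_of_family {T : Subgroup G} (𝒦 : Set (Subgroup G)) {K₀ : Subgroup G} (h0 : K₀ ∈ 𝒦)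
    (hcomp : ∀ K ∈ 𝒦, Cfsg.IsJComponent T K)
    (hn : ∀ K ∈ 𝒦, ∀ K' ∈ 𝒦, K' ≤ normalizer (K : Set G)) :
    ∃ L, Cfsg.IsTwoLocal L ∧ (∀ K ∈ 𝒦, K ≤ L) ∧ jS T ≤ L ∧
      ∀ g : G, (∀ K ∈ 𝒦, cj g K ∈ 𝒦) → g ∈ L := by
  set X : Subgroup G := ⨆ K ∈ 𝒦, K with hX
  have hle : ∀ K ∈ 𝒦, K ≤ X := fun K hK => le_iSup₂ (f := fun K (_ : K ∈ 𝒦) => K) K hK
  have hXn : X ≤ normalizer (K₀ : Set G) := iSup₂_le fun K hK => hn K₀ h0 K hK
  have hcore : Cfsg.pCoreOf 2 K₀ ≤ Cfsg.pCoreOf 2 X :=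
    S4Amal.le_core_of_normal ((core_le K₀).trans (hle K₀ h0))
      (hXn.trans (normalizer_le_core K₀)) (core_isPGroup K₀)
  have hne : Cfsg.pCoreOf 2 X ≠ ⊥ := fun e => by
    obtain ⟨x, hx, hx0⟩ := exists_not_mem_core (hcomp K₀ h0).2.2.1
    refine wOf_ne_bot (hcomp K₀ h0) (le_bot_iff.1 (e ▸ ?_))
    exact ((wOf_spec (hcomp K₀ h0).2.2.1 hx hx0).1.trans
      ((Thompson.omegaOne_le 2 _).trans inf_le_left)).trans hcore
  have hg : ∀ g : G, (∀ K ∈ 𝒦, cj g K ∈ 𝒦) → g ∈ normalizer (Cfsg.pCoreOf 2 X : Set G) := by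
    intro g hg
    refine normalizer_le_core X ?_
    have h1 : cj g X ≤ X := by
      rw [hX, SfFree.cj, Subgroup.map_iSup]
      refine iSup_le fun K => ?_
      rw [Subgroup.map_iSup]
      exact iSup_le fun hK => hle _ (hg K hK)
    exact mem_normalizer_iff_map_conj_eq.2 (eq_of_le_of_card_ge h1 (SfFree.card_cj g X).ge)
  refine ⟨_, SfFree.isTwoLocal_normalizer (core_isPGroup X) hne, fun K hK => (hle K hK).trans
    (le_normalizer.trans (normalizer_le_core X)), fun j hj => hg j fun K hK => ?_, hg⟩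
  rw [SfFree.cj_of_mem_normalizer (jS_le_normalizer (hcomp K hK) hj)]
  exact hK

end Cfsg.Agent.ZNComp
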