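import Cfsg.Agent.ZNComp.Local
import Cfsg.Agent.Coprime.PCoreTools

/-!
# Components inside a local subgroup
-/

set_option autoImplicit false

namespace Cfsg.Agent.ZNComp

open Subgroup
open scoped commutatorElement
open SfFree (cj Mem jS)

/-- A component with respect to `J`. -/
structure Comp {L : Type*} [Group L] (J K : Subgroup L) : Prop where
  odd : OddGen K
  comm : ⁅K, J⁆ = K
  idx : (Cfsg.pCoreOf 2 K).relIndex K = 3
  w4 : Nat.card (Cfsg.wOf K) = 4

variable {L : Type*} [Group L]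

theorem exists_not_mem_core {K : Subgroup L} (h3 : (Cfsg.pCoreOf 2 K).relIndex K = 3) :
    ∃ x ∈ K, x ∉ Cfsg.pCoreOf 2 K := by
  by_contra! h
  rw [relIndex_eq_one.2 h] at h3
  norm_num at h3

theorem le_of_mem {K D : Subgroup L} (h3 : (Cfsg.pCoreOf 2 K).relIndex K = 3)
    (hD : Cfsg.pCoreOf 2 K ≤ D) {x : L} (hxK : x ∈ K) (hx0 : x ∉ Cfsg.pCoreOf 2 K) (hx : x ∈ D) :
    K ≤ D := fun k hk => by
  rcases (core_cosets h3 hxK hx0).2 k hk with e | e | e
  · exact hD e
  · rw [show k = x * (x⁻¹ * k) by group]; exact mul_mem hx (hD e)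
  · rw [show k = x⁻¹ * (x * k) by group]; exact mul_mem (inv_mem hx) (hD e)

theorem isSubnormal_step {A B : Subgroup L} (hB : B.IsSubnormal) (hle : A ≤ B)
    (hn : B ≤ normalizer (A : Set L)) : A.IsSubnormal :=
  IsSubnormal.step _ _ hle hB (normal_subgroupOf_of_le_normalizer hn)

variable [Finite L] (h : Loc L)
include h

/-- `V` and a group `K` normalized by it with nontrivial action. -/
theorem three_le_wOf_inf {K : Subgroup L} (h3 : (Cfsg.pCoreOf 2 K).relIndex K = 3)
    (hOQ : Cfsg.pCoreOf 2 K ≤ Cfsg.pCore 2 L) (hK : ¬ K ≤ cV L)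
    (hVK : vSub L ≤ normalizer (K : Set L)) :
    3 ≤ Nat.card (Cfsg.wOf K ⊓ vSub L : Subgroup L) := by
  have : Fact (Nat.Prime 2) := ⟨Nat.prime_two⟩
  obtain ⟨x, hx, hx0⟩ := exists_not_mem_core h3
  obtain ⟨-, -, -, hKW, hfpf⟩ := wOf_spec h3 hx hx0
  set O := Cfsg.pCoreOf 2 K with hO
  set V := vSub L with hV
  have hVe := vSub_ea h
  have hVn : ∀ g : L, ∀ v ∈ V, g * v * g⁻¹ ∈ V := fun g v hv =>
    (vSub_normal L).conj_mem v hv g
  have hxc : x ∉ cV L := fun hc => hK (le_of_mem h3 (hOQ.trans (core_le_cV h)) hx hx0 hc)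
  obtain ⟨v, hv, hnc⟩ : ∃ v ∈ V, ¬ Commute v x := by
    by_contra! hall
    exact hxc (mem_centralizer_iff.2 hall)
  set u := ⁅v, x⁆ with hu
  have huV : u ∈ V := by
    rw [hu, commutatorElement_def, mul_assoc v, mul_assoc v]
    exact mul_mem hv (hVn x _ (inv_mem hv))
  have huK : u ∈ K := by
    rw [hu, commutatorElement_def]
    exact mul_mem ((mem_normalizer_iff.1 (hVK hv) x).1 hx) (inv_mem hx)
  have huO : u ∈ O := by
    refine LocalStructure.le_pCoreOf_of_normal (L := K) (N := K ⊓ Cfsg.pCore 2 L) inf_le_left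
      (Coprime.le_normalizer_inf le_normalizer
        (by rw [normalizer_eq_top]; exact le_top))
      (Core.pCore_isPGroup.to_le inf_le_right) ⟨huK, ((vSub_le_core h) huV).1⟩
  have huU : u ∈ Cfsg.omegaCenterOf O := Thompson.mem_omegaOne
    ⟨huO, centralizer_le hOQ ((vSub_le_core h) huV).2⟩ (hVe.2 u huV)
  have hwW : ⁅u, x⁆ ∈ Cfsg.wOf K := commutator_mem_commutator huU hx
  have hwV : ⁅u, x⁆ ∈ V := by
    rw [commutatorElement_def, mul_assoc u, mul_assoc u]
    exact mul_mem huV (hVn x _ (inv_mem huV))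
  have hw1 : ⁅u, x⁆ ≠ 1 := fun e => by
    refine hnc (commutatorElement_eq_one_iff_commute.1 (eq_one_of_commute hVe ?_ ?_ hv ?_))
    · rw [normalizer_eq_top]; exact mem_top _
    · exact core_le_cV h (hOQ (core_cosets h3 hx hx0).1)
    · exact (commutatorElement_eq_one_iff_commute.1 e).symm
  set w := ⁅u, x⁆ with hw
  set w' := x * w * x⁻¹ with hw'
  have hne : w' ≠ w := fun e => hw1 (hfpf w hwW (mul_inv_eq_iff_eq_mul.1 e))
  have hw'1 : w' ≠ 1 := fun e => hw1 (conj_eq_one_iff.1 e)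
  have h1 : Nat.card ({1, w, w'} : Set L) ≤ Nat.card (Cfsg.wOf K ⊓ V : Subgroup L) :=
    Nat.card_mono (Set.toFinite _) (by
      rintro z (rfl | rfl | rfl)
      exacts [one_mem _, ⟨hwW, hwV⟩, ⟨(mem_normalizer_iff.1 (hKW hx) w).1 hwW, hVn x w hwV⟩])
  rwa [Nat.card_coe_set_eq, Set.ncard_insert_of_notMem (by
      simp only [Set.mem_insert_iff, Set.mem_singleton_iff, not_or]
      exact ⟨hw1.symm, hw'1.symm⟩),
    Set.ncard_pair hne.symm] at h1

namespace Comp

variable {S : Sylow 2 L} {K : Subgroup L} (hK : Comp (jS (S : Subgroup L)) K)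
include hK

theorem core_le_normalizer : Cfsg.pCore 2 L ≤ normalizer (K : Set L) := by
  have : Fact (Nat.Prime 2) := ⟨Nat.prime_two⟩
  refine le_normalizer_component hK.odd hK.comm (S.2.to_le (SfFree.jS_le _)) ?_ ?_ ?_
  · rw [normalizer_eq_top]; exact le_top
  · rw [normalizer_eq_top]; exact le_top
  · exact (Core.pCore_le_sylow S).trans (SfFree.le_normalizer_jS _)

theorem le_stab : K ≤ Offender.stab (cV L) (Cfsg.pCore 2 L) := by
  conv_lhs => rw [← hK.comm]
  rw [commutator_le]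
  exact fun k _ j hj => commutator_mem_stab h (S.2.to_le (SfFree.jS_le _)) hj

theorem map_le_core : K.map (rep L) ≤ Offender.core 2 (imJ L) := by
  have hle : K ≤ jT L := by
    have := jT_normal (L := L)
    conv_lhs => rw [← hK.comm]
    exact (commutator_mono le_rfl (jS_le_jT S)).trans (commutator_le_right K (jT L))
  rw [map_le_iff_le_comap]
  calc K = Subgroup.closure {g : L | g ∈ K ∧ Odd (orderOf g)} := hK.odd.symm
    _ ≤ _ := (closure_le _).2 fun g hg => map_mem_core h (hle hg.1) hg.2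

theorem pCore_le : Cfsg.pCoreOf 2 K ≤ Cfsg.pCore 2 L := by
  have : Fact (Nat.Prime 2) := ⟨Nat.prime_two⟩
  refine le_core_of_cV h (core_isPGroup K) fun o ho => act_mem_iff.1 (Subgroup.mem_bot.1 ?_)
  rw [← Offender.FF.inf_core_eq_bot (H := imJ L) (p := 2) ((core_isPGroup K).map (rep L))]
  exact ⟨mem_map_of_mem _ ho, hK.map_le_core h (mem_map_of_mem _ (core_le K ho))⟩

theorem not_le_cV : ¬ K ≤ cV L := by
  intro hle
  have hKQ : K ≤ Cfsg.pCore 2 L := by
    conv_lhs => rw [← hK.comm]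
    rw [commutator_le]
    exact fun k hk j hj => commutator_mem h (S.2.to_le (SfFree.jS_le _)) (hle hk) hj
  obtain ⟨x, hx, hx0⟩ := exists_not_mem_core hK.idx
  exact hx0 (LocalStructure.le_pCoreOf_of_normal (L := K) (N := K) le_rfl le_normalizer
    (Core.pCore_isPGroup.to_le hKQ) hx)

theorem vSub_le_normalizer : vSub L ≤ normalizer (K : Set L) :=
  ((vSub_le_core h).trans inf_le_left).trans (hK.core_le_normalizer h)

theorem wOf_le_vSub : Cfsg.wOf K ≤ vSub L := by
  have : Fact (Nat.Prime 2) := ⟨Nat.prime_two⟩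
  have h1 := three_le_wOf_inf h hK.idx (hK.pCore_le h) (hK.not_le_cV h) (hK.vSub_le_normalizer h)
  have h2 := card_dvd_of_le (inf_le_left : Cfsg.wOf K ⊓ vSub L ≤ Cfsg.wOf K)
  rw [hK.w4] at h2
  have h3 : Nat.card (Cfsg.wOf K ⊓ vSub L : Subgroup L) = 4 := by
    have := Nat.le_of_dvd (by norm_num) h2
    interval_cases Nat.card (Cfsg.wOf K ⊓ vSub L : Subgroup L) <;> omega
  exact inf_eq_left.1 (eq_of_le_of_card_ge inf_le_left (by rw [h3, hK.w4]))

theorem card_map : Nat.card (K.map (rep L)) = 3 := by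
  have hne : Nat.card (K.map (rep L)) ≠ 1 := fun e => hK.not_le_cV h fun k hk =>
    act_mem_iff.1 (Subgroup.mem_bot.1 ((eq_bot_of_card_eq _ e) ▸ mem_map_of_mem _ hk))
  have hd : Nat.card (K.map (rep L)) ∣ 3 := by
    rw [← Subgroup.relIndex_ker, ← hK.idx]
    refine relIndex_dvd_of_le_left K fun o ho => ?_
    rw [Offender.act_ker]
    exact core_le_cV h (hK.pCore_le h ho)
  exact ((Nat.dvd_prime Nat.prime_three).1 hd).resolve_left hne

/-- The line attached to a component. -/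
theorem exists_line : ∃ P A, Mem (S : Subgroup L) P ∧ A ≤ P.map (rep L) ∧
    Offender.IsLine 2 (embV L) (imJ L) A ∧
    K.map (rep L) = ⁅Offender.core 2 (imJ L), A⁆ := by
  have : Fact (Nat.Prime 2) := ⟨Nat.prime_two⟩
  have : Fact (Nat.Prime 3) := ⟨Nat.prime_three⟩
  set Kb := K.map (rep L) with hKb
  have h3 := hK.card_map h
  have hJn : ∀ P, Mem (S : Subgroup L) P → P ≤ normalizer (K : Set L) := fun P hP =>
    (SfFree.le_jS hP).trans (le_normalizer_of_commutator_eq hK.comm)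
  by_contra! hall
  have hc : jS (S : Subgroup L) ≤ (centralizer (Kb : Set _)).comap (rep L) := by
    refine iSup₂_le fun P hP => map_le_iff_le_comap.1 (lines_span h hP fun A hAP hA => ?_)
    by_contra hnc
    obtain ⟨a, ha, hnc⟩ := SetLike.not_le_iff_exists.1 hnc
    rw [mem_centralizer_iff] at hnc
    push Not at hnc
    obtain ⟨k, hk, hnc⟩ := hnc
    have haK : a ∈ normalizer (Kb : Set _) :=
      le_normalizer_map (rep L) (map_mono (hJn P hP) (hAP ha))
    have hmem : ⁅k, a⁆ ∈ Kb := by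
      rw [commutatorElement_def, mul_assoc k, mul_assoc k]
      exact mul_mem hk ((mem_normalizer_iff.1 haK _).1 (inv_mem hk))
    have hne : ⁅k, a⁆ ≠ 1 := fun e => hnc (commutatorElement_eq_one_iff_mul_comm.1 e)
    refine hall P A hP hAP hA (eq_of_le_of_card_ge ?_ (by rw [(line_inverts h hA).1, h3]))
    refine (Offender.zpowers_eq_of_card h3 hmem hne).ge.trans (zpowers_le.2 ?_)
    exact commutator_mem_commutator (hK.map_le_core h hk) ha
  refine hK.not_le_cV h fun k hk => act_mem_iff.1 (Subgroup.mem_bot.1 ?_)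
  have hz : ⁅Kb, (jS (S : Subgroup L)).map (rep L)⁆ = ⊥ :=
    commutator_eq_bot_iff_le_centralizer.2
      (Subgroup.le_centralizer_iff.1 (map_le_iff_le_comap.2 hc))
  rw [hKb, ← map_commutator, hK.comm] at hz
  exact hz ▸ mem_map_of_mem _ hk

/-- The elements of `W` are commutators with an element of the image. -/
theorem inl_wOf_mem {A : Subgroup (Offender.Hol (vSub L))}
    (hA : K.map (rep L) = ⁅Offender.core 2 (imJ L), A⁆) {w : L} (hw : w ∈ Cfsg.wOf K) :
    (SemidirectProduct.inl ⟨w, hK.wOf_le_vSub h hw⟩ : Offender.Hol (vSub L)) ∈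
      ⁅embV L, Offender.blk 2 (imJ L) A⁆ := by
  obtain ⟨x, hx, hx0⟩ := exists_not_mem_core hK.idx
  obtain ⟨-, hWe, hOW, hKW, hfpf⟩ := wOf_spec hK.idx hx hx0
  set W := Cfsg.wOf K with hW
  have hmem : ∀ u ∈ W, ⁅u, x⁆ ∈ W := fun u hu => by
    rw [commutatorElement_def, mul_assoc u, mul_assoc u]
    exact mul_mem hu ((mem_normalizer_iff.1 (hKW hx) _).1 (inv_mem hu))
  let φ : W → W := fun u => ⟨⁅(u : L), x⁆, hmem u u.2⟩
  have hinj : Function.Injective φ := by
    rintro ⟨a, ha⟩ ⟨b, hb⟩ hab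
    have e : ⁅a, x⁆ = ⁅b, x⁆ := congrArg Subtype.val hab
    refine Subtype.ext (inv_mul_eq_one.1 (hfpf (a⁻¹ * b) (mul_mem (inv_mem ha) hb) ?_))
    have e1 : x * (a⁻¹ * b) * x⁻¹ = a⁻¹ * b := by
      calc x * (a⁻¹ * b) * x⁻¹ = a⁻¹ * ⁅a, x⁆ * ⁅b, x⁆⁻¹ * b := by
            simp only [commutatorElement_def]; group
        _ = _ := by rw [e]; group
    exact mul_inv_eq_iff_eq_mul.1 e1
  obtain ⟨⟨u, hu⟩, hu'⟩ := (Finite.injective_iff_surjective.1 hinj) ⟨w, hw⟩
  have e : ⁅u, x⁆ = w := congrArg Subtype.val hu'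
  have huV : u ∈ vSub L := hK.wOf_le_vSub h hu
  have key : (SemidirectProduct.inl ⟨w, hK.wOf_le_vSub h hw⟩ : Offender.Hol (vSub L)) =
      ⁅(SemidirectProduct.inl (⟨u, huV⟩ : vSub L) : Offender.Hol (vSub L)), rep L x⁆ := by
    set v : Offender.Hol (vSub L) := SemidirectProduct.inl (⟨u, huV⟩ : vSub L) with hv
    rw [commutatorElement_def, mul_assoc v, mul_assoc v, hv, ← map_inv SemidirectProduct.inl]
    rw [Offender.act_conj, ← map_mul]
    congr 1
    refine Subtype.ext ?_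
    show w = u * (x * u⁻¹ * x⁻¹)
    rw [← e, commutatorElement_def]; group
  rw [key]
  refine commutator_mem_commutator (Offender.inl_mem_emb.2 huV) (mem_sup_left ?_)
  rw [← hA]
  exact mem_map_of_mem _ hx

omit hK in
/-- Components with the same image are equal. -/
theorem le_of_map_eq {S' : Sylow 2 L} {K' : Subgroup L} (hK : Comp (jS (S : Subgroup L)) K)
    (hK' : Comp (jS (S' : Subgroup L)) K') (he : K'.map (rep L) = K.map (rep L)) : K' ≤ K := by
  have : Fact (Nat.Prime 2) := ⟨Nat.prime_two⟩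
  have hff := ff h
  set Q := Cfsg.pCore 2 L with hQ
  obtain ⟨P, A, hP, hAP, hA, hKA⟩ := hK.exists_line h
  obtain ⟨P', B, hP', hBP, hB, hKB⟩ := hK'.exists_line h
  set R := ⁅Offender.core 2 (imJ L), A⁆ with hR
  have hRB : ⁅Offender.core 2 (imJ L), B⁆ = R := by rw [← hKB, he, hKA]
  obtain ⟨hR3, hinv⟩ := line_inverts h hA
  obtain ⟨-, hinvB⟩ := line_inverts h hB
  obtain ⟨α, hα1, hαA⟩ := Offender.exists_gen hA.card_eq
  obtain ⟨β, hβ1, hβB⟩ := Offender.exists_gen hB.card_eq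
  have hαm : α ∈ A := hαA ▸ mem_zpowers α
  have hβm : β ∈ B := hβB ▸ mem_zpowers β
  obtain ⟨a, ha, haα⟩ := hAP hαm
  obtain ⟨b, hb, hbβ⟩ := hBP hβm
  have ha2 : a * a = 1 := SfFree.ea_sq hP.2.1 ha
  have hb2 : b * b = 1 := SfFree.ea_sq hP'.2.1 hb
  have hBblk : B ≤ Offender.blk 2 (imJ L) A := by
    refine (hA.mem_or_centralizes hff hB).resolve_right fun hc => ?_
    have hcR : B ≤ centralizer (R : Set _) := hc.1.trans
      (centralizer_le (le_sup_left : R ≤ Offender.blk 2 (imJ L) A))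
    obtain ⟨r, hr, hr1⟩ := Offender.exists_ne_one_of_ne_bot (K := R) (fun e => by
      have h' : Nat.card R = 1 := by rw [e, card_bot]
      exact absurd (h'.symm.trans hR3) (by norm_num))
    have h1 := hinvB β hβm hβ1 r (hRB.symm ▸ hr)
    rw [← mem_centralizer_iff.1 (hcR hβm) r hr, mul_inv_cancel_right] at h1
    have h2 : r ^ 2 = 1 := by rw [pow_two]; exact mul_eq_one_iff_eq_inv.2 h1
    have h3 : orderOf r ∣ 3 := by
      rw [← hR3]; exact Subgroup.orderOf_dvd_natCard R hr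
    exact hr1 (orderOf_eq_one_iff.1 (Nat.eq_one_of_dvd_coprimes (by norm_num) h3
      (orderOf_dvd_of_pow_eq_one h2)))
  -- an element of `K` conjugating `a` to `b` modulo `cV`
  have hβ' : β ∈ R ⊔ A := hBblk hβm
  rw [← SetLike.mem_coe, coe_mul_of_right_le_normalizer_left _ _
    (normalizer_commutator_ge_right _ _)] at hβ'
  obtain ⟨r, hr, α', hα', he'⟩ := hβ'
  change r * α' = β at he'
  have hα'eq : α' = α := by
    by_contra hne
    have : α' = 1 := by
      rw [← hαA] at hα'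
      obtain ⟨i, rfl⟩ := mem_zpowers_iff.1 hα'
      have hα2 : α * α = 1 := by rw [← pow_two]; exact (Thompson.ea_iff.1 hA.ea).2 α hαm
      rcases Int.even_or_odd i with ⟨n, rfl⟩ | ⟨n, rfl⟩
      · rw [zpow_add, ← (Commute.refl α).mul_zpow, hα2, one_zpow]
      · exact absurd (by rw [zpow_add_one, two_mul, zpow_add, ← (Commute.refl α).mul_zpow, hα2,
          one_zpow, one_mul]) hne
    rw [this, mul_one] at he'
    subst he'
    refine hβ1 (Subgroup.mem_bot.1 ?_)
    rw [← Offender.FF.inf_core_eq_bot (H := imJ L) (p := 2) (Thompson.ea_isPGroup hB.ea)]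
    exact ⟨hβm, Offender.IsLine.commutator_core_le hA.le hr⟩
  rw [hα'eq] at he'
  obtain ⟨k, hk, hkr⟩ := hKA.ge hr
  obtain ⟨t, ht, htt⟩ : ∃ t ∈ K, rep L t * α * (rep L t)⁻¹ = β := by
    refine ⟨k * k, mul_mem hk hk, ?_⟩
    rw [map_mul, hkr, ← he']
    have h3 : r * r * r = 1 := by
      have : r ^ 3 = 1 := orderOf_dvd_iff_pow_eq_one.1 (hR3 ▸ Subgroup.orderOf_dvd_natCard R hr)
      rwa [pow_succ, pow_two] at this
    have hα2 : α * α = 1 := by rw [← pow_two]; exact (Thompson.ea_iff.1 hA.ea).2 α hαm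
    have h4 : α * (r * r)⁻¹ = r * r * α := by
      have := hinv α hαm hα1 (r * r) (mul_mem hr hr)
      calc α * (r * r)⁻¹ = α * (α * (r * r) * α⁻¹) := by rw [this]
        _ = α * α * (r * r) * α⁻¹ := by group
        _ = _ := by rw [hα2, one_mul, inv_eq_of_mul_eq_one_left hα2]
    calc r * r * α * (r * r)⁻¹ = r * r * (α * (r * r)⁻¹) := by group
      _ = (r * r * r) * r * α := by rw [h4]; group
      _ = r * α := by rw [h3, one_mul]
  set a' := t * a * t⁻¹ with ha'
  set c := a'⁻¹ * b with hc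
  have hcV : c ∈ cV L := act_mem_iff.1 (by
    rw [hc, ha', map_mul, map_inv, map_mul, map_mul, map_inv, haα, htt, hbβ, inv_mul_cancel])
  have ha'2 : a' * a' = 1 := by rw [ha', show t * a * t⁻¹ * (t * a * t⁻¹) = t * (a * a) * t⁻¹ by group, ha2]; group
  have ha'p : IsPGroup 2 (zpowers a') := IsPGroup.of_card (n := 1) (p := 2) (G := zpowers a') ?_
  swap
  · rw [Nat.card_zpowers, pow_one]
    refine orderOf_eq_prime (by rw [pow_two]; exact ha'2) fun e => hα1 ?_
    rw [ha', conj_eq_one_iff] at e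
    rw [← haα, e, map_one]
  have hcQ : c ∈ Q := by
    refine mem_core_of_sq h hcV ?_
    have h1 := commutator_mem h ha'p hcV (mem_zpowers a')
    have hb' : b = a' * c := by rw [hc]; group
    rw [hb'] at hb2
    have hci : c⁻¹ = a' * c * a' := inv_eq_of_mul_eq_one_left (by rw [mul_assoc (a' * c)]; exact hb2)
    have e : ⁅c, a'⁆ = c * c := by
      rw [commutatorElement_def, hci]
      calc c * a' * (a' * c * a') * a'⁻¹ = c * (a' * a') * c := by group
        _ = c * c := by rw [ha'2, mul_one]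
    exact e ▸ h1
  have hQn : Q ≤ normalizer (K : Set L) := hK.core_le_normalizer h
  have hJK : P ≤ normalizer (K : Set L) :=
    (SfFree.le_jS hP).trans (le_normalizer_of_commutator_eq hK.comm)
  have hbN : b ∈ normalizer ((K ⊔ Q : Subgroup L) : Set L) := by
    rw [show b = a' * c by rw [hc]; group]
    refine mul_mem (QdFree.ZJControl.mem_normalizer_of_conj fun z hz => ?_)
      (le_normalizer (mem_sup_right hcQ))
    have hn : a' ∈ normalizer (K : Set L) :=
      mul_mem (mul_mem (le_normalizer ht) (hJK ha)) (inv_mem (le_normalizer ht))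
    rw [← SetLike.mem_coe, coe_mul_of_right_le_normalizer_left _ _ hQn] at hz
    obtain ⟨u, hu, q, hq, rfl⟩ := hz
    rw [show a' * (u * q) * a'⁻¹ = (a' * u * a'⁻¹) * (a' * q * a'⁻¹) by group]
    exact mul_mem_sup ((mem_normalizer_iff.1 hn u).1 hu)
      ((inferInstance : Q.Normal).conj_mem q hq a')
  obtain ⟨x, hx, hx0⟩ := exists_not_mem_core hK'.idx
  have hbK' : b ∈ normalizer (K' : Set L) :=
    (SfFree.le_jS hP').trans (le_normalizer_of_commutator_eq hK'.comm) hb
  set y := ⁅x, b⁆ with hy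
  have hyK' : y ∈ K' := by
    rw [hy, commutatorElement_def, mul_assoc x, mul_assoc x]
    exact mul_mem hx ((mem_normalizer_iff.1 hbK' _).1 (inv_mem hx))
  have hxR : rep L x ∈ R := hKA ▸ he ▸ mem_map_of_mem _ hx
  have hy0 : y ∉ Cfsg.pCoreOf 2 K' := fun hy' => by
    have h1 : rep L y = 1 := act_mem_iff.2 (core_le_cV h (hK'.pCore_le h hy'))
    rw [hy, map_commutatorElement, hbβ, commutatorElement_eq_one_iff_mul_comm] at h1
    have h2 := hinvB β hβm hβ1 _ (hRB.symm ▸ hxR)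
    rw [← h1, mul_inv_cancel_right] at h2
    refine hx0 ?_
    by_contra hx0'
    refine hK'.not_le_cV h (le_of_mem hK'.idx ((hK'.pCore_le h).trans (core_le_cV h)) hx hx0 ?_)
    refine act_mem_iff.1 ?_
    have e2 : rep L x ^ 2 = 1 := by rw [pow_two]; exact mul_eq_one_iff_eq_inv.2 h2
    have e3 : orderOf (rep L x) ∣ 3 := hR3 ▸ Subgroup.orderOf_dvd_natCard R hxR
    exact orderOf_eq_one_iff.1 (Nat.eq_one_of_dvd_coprimes (by norm_num) e3
      (orderOf_dvd_of_pow_eq_one e2))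
  have hyKQ : y ∈ K ⊔ Q := by
    obtain ⟨k₀, hk₀, hk₀x⟩ := hKA.ge hxR
    have hd : k₀⁻¹ * x ∈ cV L := act_mem_iff.1 (by rw [map_mul, map_inv, hk₀x, inv_mul_cancel])
    rw [hy, show ⁅x, b⁆ = k₀ * ⁅k₀⁻¹ * x, b⁆ * k₀⁻¹ * ⁅k₀, b⁆ by
      simp only [commutatorElement_def]; group]
    refine mul_mem (mul_mem (mul_mem (mem_sup_left hk₀) (mem_sup_right
      (commutator_mem h (Thompson.ea_isPGroup hP'.2.1) hd hb))) (inv_mem (mem_sup_left hk₀))) ?_
    rw [commutatorElement_def, mul_assoc k₀, mul_assoc k₀]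
    exact mul_mem (mem_sup_left hk₀) ((mem_normalizer_iff.1 hbN _).1 (inv_mem (mem_sup_left hk₀)))
  exact hK'.odd.le_of_sup hQn Core.pCore_isPGroup
    (le_of_mem hK'.idx ((hK'.pCore_le h).trans le_sup_right) hyK' hy0 hyKQ)

omit hK in
theorem eq_of_map_eq {S' : Sylow 2 L} {K' : Subgroup L} (hK : Comp (jS (S : Subgroup L)) K)
    (hK' : Comp (jS (S' : Subgroup L)) K') (he : K'.map (rep L) = K.map (rep L)) : K' = K :=
  le_antisymm (hK.le_of_map_eq h hK' he) (hK'.le_of_map_eq h hK he.symm)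

omit hK in
/-- Components whose four-groups meet are equal. -/
theorem eq_of_wOf {S' : Sylow 2 L} {K' : Subgroup L} (hK : Comp (jS (S : Subgroup L)) K)
    (hK' : Comp (jS (S' : Subgroup L)) K') (hne : Cfsg.wOf K ⊓ Cfsg.wOf K' ≠ ⊥) : K' = K := by
  have : Fact (Nat.Prime 2) := ⟨Nat.prime_two⟩
  have hff := ff h
  obtain ⟨P, A, -, -, hA, hKA⟩ := hK.exists_line h
  obtain ⟨P', B, -, -, hB, hKB⟩ := hK'.exists_line h
  refine hK.eq_of_map_eq h hK' ?_
  rw [hKA, hKB]
  by_cases hblk : Offender.blk 2 (imJ L) B = Offender.blk 2 (imJ L) A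
  · refine eq_of_le_of_card_ge ?_ (by rw [(line_inverts h hA).1, (line_inverts h hB).1])
    rw [← hA.blk_inf_core hff, ← hB.blk_inf_core hff, hblk]
  exfalso
  obtain ⟨w, ⟨hw, hw'⟩, hw1⟩ := Offender.exists_ne_one_of_ne_bot hne
  have h1 := hK.inl_wOf_mem h hKA hw
  have h2 := hK'.inl_wOf_mem h hKB hw'
  have h3 : Offender.blk 2 (imJ L) A ≤
      centralizer ((⁅embV L, Offender.blk 2 (imJ L) B⁆ : Subgroup _) : Set _) :=
    (hB.blk_le_of_ne hff hA (Ne.symm hblk)).trans inf_le_right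
  have h4 : (SemidirectProduct.inl ⟨w, hK.wOf_le_vSub h hw⟩ : Offender.Hol (vSub L)) ∈
      ⁅embV L, Offender.blk 2 (imJ L) A⁆ ⊓
        (embV L ⊓ centralizer (Offender.blk 2 (imJ L) A : Set _)) :=
    ⟨h1, Offender.inl_mem_emb.2 (hK.wOf_le_vSub h hw), Subgroup.le_centralizer_iff.1 h3 h2⟩
  rw [hA.blk_commutator_inf hff, Subgroup.mem_bot] at h4
  exact hw1 (congrArg Subtype.val (SemidirectProduct.inl_injective
    (h4.trans (map_one SemidirectProduct.inl).symm)))

/-- A component is subnormal. -/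
theorem isSubnormal : K.IsSubnormal := by
  have : Fact (Nat.Prime 2) := ⟨Nat.prime_two⟩
  have hQn := hK.core_le_normalizer h
  obtain ⟨P, A, -, -, hA, hKA⟩ := hK.exists_line h
  set E := (Offender.core 2 (imJ L)).comap (rep L) with hE
  have hEn : E.IsSubnormal := by
    refine Subgroup.Normal.isSubnormal ?_
    refine ⟨fun x hx g => ?_⟩
    rw [mem_comap, map_mul, map_mul, map_inv]
    have hHn : (rep L).range ≤ normalizer (imJ L : Set _) := by
      rintro _ ⟨y, rfl⟩
      have hj := jT_normal (L := L)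
      exact le_normalizer_map (rep L) ⟨y, by rw [normalizer_eq_top]; exact mem_top _, rfl⟩
    exact (mem_normalizer_iff.1 (Coprime.le_normalizer_map_of_characteristic hHn
      (Cfsg.pPrimeCore 2 (imJ L)) inferInstance ⟨g, rfl⟩) _).1 hx
  have hKC : (K.map (rep L)).comap (rep L) = K ⊔ cV L := by
    rw [comap_map_eq, Offender.act_ker]
  have hKCsn : (K ⊔ cV L).IsSubnormal := by
    rw [← hKC]
    refine isSubnormal_step hEn (comap_mono (hK.map_le_core h)) ?_
    refine le_trans (comap_mono ?_) (le_normalizer_comap _)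
    rw [hKA]
    exact normalizer_commutator_ge_left _ _
  have hKQsn : (K ⊔ Cfsg.pCore 2 L).IsSubnormal := by
    refine isSubnormal_step hKCsn (sup_le_sup_left (core_le_cV h) _)
      (sup_le (le_sup_left.trans le_normalizer) fun c hc => ?_)
    refine QdFree.ZJControl.mem_normalizer_of_conj fun z hz => ?_
    rw [← SetLike.mem_coe, coe_mul_of_right_le_normalizer_left _ _ hQn] at hz
    obtain ⟨u, hu, q, hq, rfl⟩ := hz
    rw [show c * (u * q) * c⁻¹ = ⁅c, u⁆ * u * (c * q * c⁻¹) by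
      simp only [commutatorElement_def]; group]
    exact mul_mem (mul_mem (mem_sup_right ((hK.le_stab h hu).2 c hc)) (mem_sup_left hu))
      (mem_sup_right ((inferInstance : (Cfsg.pCore 2 L).Normal).conj_mem q hq c))
  exact isSubnormal_step hKQsn le_sup_left (sup_le le_normalizer hQn)

end Comp

end Cfsg.Agent.ZNComp
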