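import Cfsg.Agent.ZNComp.Comp

/-!
# Existence and generation
-/

set_option autoImplicit false

namespace Cfsg.Agent.ZNComp

open Subgroup
open scoped commutatorElement
open SfFree (cj Mem jS)

variable {L : Type*} [Group L] [Finite L] (h : Loc L)
include h

theorem exists_comp {S : Sylow 2 L} {P : Subgroup L} (hP : Mem (S : Subgroup L) P)
    {A : Subgroup (Offender.Hol (vSub L))} (hA : Offender.IsLine 2 (embV L) (imJ L) A)
    (hAP : A ≤ P.map (rep L)) :
    ∃ K, Comp (jS (S : Subgroup L)) K ∧ K.map (rep L) = ⁅Offender.core 2 (imJ L), A⁆ := by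
  have : Fact (Nat.Prime 2) := ⟨Nat.prime_two⟩
  have : Fact (Nat.Prime 3) := ⟨Nat.prime_three⟩
  have hff := ff h
  set Q := Cfsg.pCore 2 L with hQ
  have hQn : ∀ g : L, ∀ q ∈ Q, g * q * g⁻¹ ∈ Q := fun g q hq =>
    (inferInstance : Q.Normal).conj_mem q hq g
  obtain ⟨hR3, hinv⟩ := line_inverts h hA
  set R := ⁅Offender.core 2 (imJ L), A⁆ with hR
  obtain ⟨α, hα1, hαA⟩ := Offender.exists_gen hA.card_eq
  have hαm : α ∈ A := hαA ▸ mem_zpowers α
  obtain ⟨a, ha, haα⟩ := hAP hαm
  have ha2 : a * a = 1 := SfFree.ea_sq hP.2.1 ha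
  have haJ : a ∈ jS (S : Subgroup L) := SfFree.le_jS hP ha
  have hP2 := Thompson.ea_isPGroup hP.2.1
  obtain ⟨r, hr, hr1⟩ := Offender.exists_ne_one_of_ne_bot (K := R) (fun e => by
    have h' : Nat.card R = 1 := by rw [e, card_bot]
    exact absurd (h'.symm.trans hR3) (by norm_num))
  have hr3 : r ^ 3 = 1 := orderOf_dvd_iff_pow_eq_one.1 (hR3 ▸ Subgroup.orderOf_dvd_natCard R hr)
  have hsq : ∀ s ∈ R, s * s = 1 → s = 1 := fun s hs e => orderOf_eq_one_iff.1
    (Nat.eq_one_of_dvd_coprimes (by norm_num) (hR3 ▸ Subgroup.orderOf_dvd_natCard R hs)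
      (orderOf_dvd_of_pow_eq_one (n := 2) (by rw [pow_two]; exact e)))
  obtain ⟨k₀, hk₀⟩ : ∃ k₀ : L, rep L k₀ = r := by
    obtain ⟨k, -, hk⟩ := Offender.FF.core_le (Offender.IsLine.commutator_core_le hA.le hr)
    exact ⟨k, hk⟩
  set y := ⁅k₀, a⁆ with hy
  have hσy : rep L y = r * r := by
    rw [hy, map_commutatorElement, hk₀, haα, commutatorElement_def, mul_assoc r, mul_assoc r,
      hinv α hαm hα1 r⁻¹ (inv_mem hr), inv_inv]
  have hσy1 : rep L y ≠ 1 := fun e => hr1 (hsq r hr (hσy ▸ e))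
  have hyR : rep L y ∈ R := hσy ▸ mul_mem hr hr
  have hy' : a * y * a⁻¹ = y⁻¹ := by
    rw [hy, commutatorElement_def, inv_eq_of_mul_eq_one_left ha2]
    calc a * (k₀ * a * k₀⁻¹ * a) * a = a * k₀ * a * k₀⁻¹ * (a * a) := by group
      _ = (k₀ * a⁻¹ * k₀⁻¹ * a⁻¹)⁻¹ := by rw [ha2]; group
      _ = _ := by rw [inv_eq_of_mul_eq_one_left ha2]
  have hyst : y ∈ Offender.stab (cV L) Q := commutator_mem_stab h hP2 ha
  have hy3 : y ^ 3 ∈ Q := by
    have hc : y ^ 3 ∈ cV L := act_mem_iff.1 (by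
      rw [map_pow, hσy, ← pow_two, ← pow_mul, mul_comm, pow_mul, hr3, one_pow])
    refine mem_core_of_sq h hc ?_
    have h1 := commutator_mem h hP2 hc ha
    have e : ⁅y ^ 3, a⁆ = y ^ 3 * y ^ 3 := by
      rw [commutatorElement_def, mul_assoc (y ^ 3), mul_assoc (y ^ 3)]
      congr 1
      rw [← inv_pow, ← conj_pow, show a * y⁻¹ * a⁻¹ = (a * y * a⁻¹)⁻¹ by group, hy', inv_inv]
    exact e ▸ h1
  have hyQ : y ∉ Q := fun e => hσy1 (act_mem_iff.2 (core_le_cV h e))
  set π := QuotientGroup.mk' Q with hπ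
  have hπ1 : ∀ z : L, π z = 1 ↔ z ∈ Q := fun z => QuotientGroup.eq_one_iff z
  have hπy : orderOf (π y) = 3 :=
    orderOf_eq_prime (by rw [← map_pow, hπ1]; exact hy3) fun e => hyQ ((hπ1 y).1 e)
  set K₀ := zpowers y ⊔ Q with hK₀
  have hmap₀ : K₀.map π = zpowers (π y) := by
    rw [hK₀, Subgroup.map_sup, MonoidHom.map_zpowers,
      (Subgroup.map_eq_bot_iff Q).2 (QuotientGroup.ker_mk' Q).ge, sup_bot_eq]
  set K := Subgroup.closure {g : L | g ∈ K₀ ∧ Odd (orderOf g)} with hKdef
  have hKK₀ : K ≤ K₀ := (closure_le _).2 fun g hg => hg.1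
  have hodd : OddGen K := le_antisymm ((closure_le _).2 fun g hg => hg.1)
    (closure_mono fun g hg => ⟨subset_closure hg, hg.2⟩)
  obtain ⟨i, m, hm, him⟩ := Nat.exists_eq_two_pow_mul_odd (orderOf_pos y).ne'
  set y' := y ^ 2 ^ i with hy'def
  have hy'K : y' ∈ K := subset_closure ⟨pow_mem (mem_sup_left (mem_zpowers y)) _, by
    rw [hy'def, orderOf_pow_of_dvd (pow_ne_zero _ two_ne_zero) (him ▸ dvd_mul_right _ _), him,
      Nat.mul_div_cancel_left _ (pow_pos two_pos i)]
    exact hm⟩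
  have hπy' : zpowers (π y) ≤ K.map π := by
    refine (zpowers_le.2 ?_).trans (zpowers_le.2 (mem_map_of_mem π hy'K))
    rw [hy'def, map_pow]
    exact SfFree.self_mem_zpowers_pow (by rw [hπy]; exact Nat.Coprime.pow_left _ (by norm_num))
  have hmap : K.map π = zpowers (π y) := le_antisymm (hmap₀ ▸ map_mono hKK₀) hπy'
  set O := Cfsg.pCoreOf 2 K with hO
  have hOQ : O ≤ Q := fun o ho => (hπ1 o).1 <| by
    have h1 : π o ∈ zpowers (π y) := hmap ▸ mem_map_of_mem π (core_le K ho)
    have h2 : orderOf (π o) ∣ 3 := by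
      have := Subgroup.orderOf_dvd_natCard _ h1
      rwa [Nat.card_zpowers, hπy] at this
    obtain ⟨j, hj⟩ := core_isPGroup K ⟨o, ho⟩
    have hj' : o ^ 2 ^ j = 1 := congrArg Subtype.val hj
    exact orderOf_eq_one_iff.1 (Nat.eq_one_of_dvd_coprimes ((show Nat.Coprime 3 2 by norm_num).pow_right j)
      h2 (orderOf_dvd_of_pow_eq_one (by rw [← map_pow, hj', map_one])))
  have hOeq : O = Q ⊓ K := le_antisymm (le_inf hOQ (core_le K))
    (LocalStructure.le_pCoreOf_of_normal inf_le_right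
      (Coprime.le_normalizer_inf (by rw [normalizer_eq_top]; exact le_top) le_normalizer)
      (Core.pCore_isPGroup.to_le inf_le_left))
  have h3 : O.relIndex K = 3 := by
    rw [hOeq, inf_relIndex_right, ← QuotientGroup.ker_mk' Q, relIndex_ker, ← hπ, hmap,
      Nat.card_zpowers, hπy]
  -- normalizers of `K₀` normalize `K`
  have hN₀ : normalizer (K₀ : Set L) ≤ normalizer (K : Set L) := fun g hg => by
    refine QdFree.ZJControl.mem_normalizer_of_conj fun z hz => ?_
    have hle : K ≤ K.comap (MulAut.conj g).toMonoidHom := by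
      conv_lhs => rw [hKdef]
      rw [closure_le]
      rintro v ⟨hv, hvo⟩
      exact subset_closure ⟨(mem_normalizer_iff.1 hg v).1 hv,
        by rw [MulEquiv.coe_toMonoidHom, MulEquiv.orderOf_eq]; exact hvo⟩
    exact hle hz
  have hQN : Q ≤ normalizer (K₀ : Set L) := le_sup_right.trans le_normalizer
  have hcrit : ∀ g : L, g * y * g⁻¹ ∈ K₀ → g ∈ normalizer (K₀ : Set L) := by
    intro g hg
    refine QdFree.ZJControl.mem_normalizer_of_conj fun z hz => ?_
    have hle : K₀ ≤ K₀.comap (MulAut.conj g).toMonoidHom :=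
      sup_le (zpowers_le.2 hg) fun q hq => mem_sup_right (hQn g q hq)
    exact hle hz
  have haN : a ∈ normalizer (K₀ : Set L) :=
    hcrit a (hy' ▸ inv_mem (mem_sup_left (mem_zpowers y)))
  have hJN : jS (S : Subgroup L) ≤ normalizer (K₀ : Set L) := by
    refine iSup₂_le fun P' hP' p hp => ?_
    have hsub : P'.map (rep L) ≤
        ((S : Subgroup L) ⊓ normalizer (K₀ : Set L)).map (rep L) := by
      refine lines_span h hP' fun B hBP hB => ?_
      obtain ⟨β, -, hβB⟩ := Offender.exists_gen hB.card_eq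
      have hβm : β ∈ B := hβB ▸ mem_zpowers β
      obtain ⟨b, hb, hbβ⟩ := hBP hβm
      rw [← hβB, zpowers_le, ← hbβ]
      refine mem_map_of_mem _ ⟨hP'.1 hb, ?_⟩
      rcases line_eq_or_centralizes h (S.2.map (rep L)) hA hB (hAP.trans (map_mono hP.1))
          (hBP.trans (map_mono hP'.1)) with e | hc
      · have hβα : β ∈ zpowers α := hαA.symm ▸ (e ▸ hβm)
        obtain ⟨n, hn⟩ := mem_zpowers_iff.1 hβα
        have hd : (a ^ n)⁻¹ * b ∈ Q := sylow_inf_cV h S ⟨(S : Subgroup L).mul_mem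
          (inv_mem (zpow_mem (hP.1 ha) n)) (hP'.1 hb), act_mem_iff.1 (by
            rw [map_mul, map_inv, map_zpow, haα, hn, hbβ, inv_mul_cancel])⟩
        rw [show b = a ^ n * ((a ^ n)⁻¹ * b) by group]
        exact mul_mem (zpow_mem haN n) (hQN hd)
      · refine hcrit b ?_
        have hβc : ∀ z ∈ Offender.blk 2 (imJ L) A, Commute z β := fun z hz =>
          mem_centralizer_iff.1 (hc hβm) z hz
        set c := y⁻¹ * (b * y * b⁻¹) with hcdef
        have hcV : c ∈ cV L := act_mem_iff.1 (by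
          rw [hcdef, map_mul, map_mul, map_mul, map_inv, map_inv, hbβ,
            ← (hβc _ (mem_sup_left hyR)).eq, mul_inv_cancel_right, inv_mul_cancel])
        have hd : a⁻¹ * (b * a * b⁻¹) ∈ Q := sylow_inf_cV h S ⟨(S : Subgroup L).mul_mem
          (inv_mem (hP.1 ha)) (mul_mem (mul_mem (hP'.1 hb) (hP.1 ha)) (inv_mem (hP'.1 hb))),
          act_mem_iff.1 (by
            rw [map_mul, map_mul, map_mul, map_inv, map_inv, hbβ, haα,
              ← (hβc _ (mem_sup_right hαm)).eq, mul_inv_cancel_right, inv_mul_cancel])⟩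
        have hcy : Commute (π c) (π y) := by
          rw [← commutatorElement_eq_one_iff_commute, ← map_commutatorElement, hπ1]
          exact hyst.2 c hcV
        have hca : Commute (π c) (π a) := by
          rw [← commutatorElement_eq_one_iff_commute, ← map_commutatorElement, hπ1]
          exact commutator_mem h hP2 hcV ha
        have e1 : π b * π a * (π b)⁻¹ = π a := by
          have h1 := (hπ1 _).2 hd
          rw [map_mul, map_mul, map_mul, map_inv, map_inv, inv_mul_eq_one] at h1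
          exact h1.symm
        have e2 : π b * π y * (π b)⁻¹ = π y * π c := by
          rw [hcdef, map_mul, map_mul, map_mul, map_inv, map_inv]; group
        have e0 : π a * π y * (π a)⁻¹ = (π y)⁻¹ := by rw [← map_inv, ← map_mul, ← map_mul, hy', map_inv]
        have e3 : π c * π c = 1 := by
          have h1 : π a * (π y * π c) * (π a)⁻¹ = (π y * π c)⁻¹ :=
            calc π a * (π y * π c) * (π a)⁻¹
                = (π b * π a * (π b)⁻¹) * (π b * π y * (π b)⁻¹) * (π b * π a * (π b)⁻¹)⁻¹ := by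
                  rw [e1, e2]
              _ = π b * (π a * π y * (π a)⁻¹) * (π b)⁻¹ := by group
              _ = (π b * π y * (π b)⁻¹)⁻¹ := by rw [e0]; group
              _ = _ := by rw [e2]
          have h2 : π a * (π y * π c) * (π a)⁻¹ = (π y)⁻¹ * π c :=
            calc π a * (π y * π c) * (π a)⁻¹ = π a * π y * (π c * (π a)⁻¹) := by group
              _ = π a * π y * (π a)⁻¹ * π c := by rw [hca.inv_right.eq]; group
              _ = _ := by rw [e0]
          rw [h2, mul_inv_rev, hcy.inv_left.inv_right.eq] at h1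
          exact mul_eq_one_iff_eq_inv.2 (mul_left_cancel h1)
        have hcQ : c ∈ Q := mem_core_of_sq h hcV ((hπ1 _).1 (by rw [map_mul, e3]))
        rw [show b * y * b⁻¹ = y * c by rw [hcdef]; group]
        exact mul_mem (mem_sup_left (mem_zpowers y)) (mem_sup_right hcQ)
    obtain ⟨n, ⟨hnS, hnN⟩, hnp⟩ := hsub (mem_map_of_mem _ hp)
    have hd : n⁻¹ * p ∈ Q := sylow_inf_cV h S
      ⟨(S : Subgroup L).mul_mem (inv_mem hnS) (hP'.1 hp), act_mem_iff.1 (by
        rw [map_mul, map_inv, hnp, inv_mul_cancel])⟩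
    rw [show p = n * (n⁻¹ * p) by group]
    exact mul_mem hnN (hQN hd)
  have hJK := hJN.trans hN₀
  have hQK := hQN.trans hN₀
  -- the image
  have hσK : K.map (rep L) = R := by
    have hy'R : rep L y' ≠ 1 := fun e => hσy1 <| by
      have h2 : orderOf (rep L y) ∣ 2 ^ i := orderOf_dvd_of_pow_eq_one (by rw [← map_pow]; exact e)
      exact orderOf_eq_one_iff.1 (Nat.eq_one_of_dvd_coprimes (Nat.Coprime.pow_right i (by norm_num))
        (hR3 ▸ Subgroup.orderOf_dvd_natCard R hyR) h2)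
    refine le_antisymm ((map_mono hKK₀).trans ?_) ?_
    · rw [hK₀, Subgroup.map_sup, MonoidHom.map_zpowers]
      refine sup_le (zpowers_le.2 hyR) ?_
      rw [(Subgroup.map_eq_bot_iff Q).2 (by rw [Offender.act_ker]; exact core_le_cV h)]
      exact bot_le
    · have hy'm : rep L y' ∈ R := by rw [hy'def, map_pow]; exact pow_mem hyR _
      rw [← Offender.zpowers_eq_of_card hR3 hy'm hy'R, zpowers_le]
      exact mem_map_of_mem _ hy'K
  have hy'1 : rep L y' ≠ 1 ∧ rep L y' ∈ R := by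
    refine ⟨fun e => ?_, hσK ▸ mem_map_of_mem _ hy'K⟩
    have h1 : Nat.card (K.map (rep L)) = 3 := by rw [hσK]; exact hR3
    have h2 : K.map (rep L) = ⊥ := by
      rw [Subgroup.map_eq_bot_iff, Offender.act_ker]
      intro z hz
      have hz' : π z ∈ zpowers (π y') := by
        rw [show zpowers (π y') = zpowers (π y) from le_antisymm
          (zpowers_le.2 (hmap ▸ mem_map_of_mem π hy'K)) (zpowers_le.2 (by
            rw [hy'def, map_pow]
            exact SfFree.self_mem_zpowers_pow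
              (by rw [hπy]; exact Nat.Coprime.pow_left _ (by norm_num))))]
        exact hmap ▸ mem_map_of_mem π hz
      obtain ⟨n, hn⟩ := mem_zpowers_iff.1 hz'
      have hq : (y' ^ n)⁻¹ * z ∈ Q := (hπ1 _).1 (by
        rw [map_mul, map_inv, map_zpow, hn, inv_mul_cancel])
      rw [show z = y' ^ n * ((y' ^ n)⁻¹ * z) by group]
      exact mul_mem (zpow_mem (act_mem_iff.1 e) n) (core_le_cV h hq)
    rw [h2, card_bot] at h1
    norm_num at h1
  have hd : ⁅y', a⁆ ∉ O := fun e => by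
    have h1 : rep L ⁅y', a⁆ = 1 := act_mem_iff.2 (core_le_cV h (hOQ e))
    rw [map_commutatorElement, haα, commutatorElement_def, mul_assoc (rep L y'),
      mul_assoc (rep L y'), hinv α hαm hα1 _ (inv_mem hy'1.2), inv_inv] at h1
    exact hy'1.1 (hsq _ hy'1.2 h1)
  have hcomm : ⁅K, jS (S : Subgroup L)⁆ = K := by
    set D := ⁅K, jS (S : Subgroup L)⁆ with hD
    have hDK : D ≤ K := le_normalizer_iff_commutator_le_left.1 hJK
    refine le_antisymm hDK (hodd.le_of_sup (N := D) (R := O)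
      ((core_le K).trans (normalizer_commutator_ge_left _ _)) (core_isPGroup K) ?_)
    exact le_of_mem h3 le_sup_right (hDK (commutator_mem_commutator hy'K haJ)) hd
      (mem_sup_left (commutator_mem_commutator hy'K haJ))
  have hVK : vSub L ≤ normalizer (K : Set L) := ((vSub_le_core h).trans inf_le_left).trans hQK
  have hncV : ¬ K ≤ cV L := fun e => hy'1.1 (act_mem_iff.2 (e hy'K))
  have h4 : Nat.card (Cfsg.wOf K) ≤ 4 := card_wOf_le h3 hP.2.1 ((SfFree.le_jS hP).trans hJK)
    (fun e => hd ((e ha).2 y' hy'K)) fun E _ hE => (mem_max hP).2 E hE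
  have h4' := (three_le_wOf_inf h h3 hOQ hncV hVK).trans (SfFree.card_le_card_of_le inf_le_left)
  obtain ⟨x, hx, hx0⟩ := exists_not_mem_core h3
  obtain ⟨n, hn⟩ := IsPGroup.iff_card.1 (Thompson.ea_isPGroup (wOf_spec h3 hx hx0).2.1)
  refine ⟨K, ⟨hodd, hcomm, h3, ?_⟩, hσK⟩
  rw [hn] at h4 h4' ⊢
  have : n < 3 := by
    by_contra! hn3
    have := Nat.pow_le_pow_right (show 1 ≤ 2 by norm_num) hn3
    omega
  interval_cases n <;> omega

/-- There is a component when `J(S)` is not in `O₂`. -/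
theorem exists_comp_of_not_le {S : Sylow 2 L}
    (hJ : ¬ jS (S : Subgroup L) ≤ Cfsg.pCore 2 L) : ∃ K, Comp (jS (S : Subgroup L)) K := by
  by_contra! hno
  refine hJ (le_core_of_cV h (S.2.to_le (SfFree.jS_le _)) (iSup₂_le fun P hP p hp => ?_))
  refine act_mem_iff.1 (Subgroup.mem_bot.1 (lines_span h hP (K := ⊥) (fun A hAP hA => ?_)
    (mem_map_of_mem _ hp)))
  obtain ⟨K, hK, -⟩ := exists_comp h hP hA hAP
  exact absurd hK (hno K)

/-- The components, `J(S)` and its normalizer generate. -/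
theorem le_of_components (S : Sylow 2 L) (M : Subgroup L) (hJ : jS (S : Subgroup L) ≤ M)
    (hN : normalizer (jS (S : Subgroup L) : Set L) ≤ M)
    (hK : ∀ K, Comp (jS (S : Subgroup L)) K → K ≤ M) : (⊤ : Subgroup L) ≤ M := by
  have : Fact (Nat.Prime 2) := ⟨Nat.prime_two⟩
  have hff := ff h
  have hjT := jT_normal (L := L)
  set J := jS (S : Subgroup L) with hJdef
  set Nb : Subgroup (Offender.Hol (vSub L)) :=
    ⨆ A : {A : Subgroup (Offender.Hol (vSub L)) // Offender.IsLine 2 (embV L) (imJ L) A ∧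
      ∃ P, Mem (S : Subgroup L) P ∧ A ≤ P.map (rep L)},
      Offender.blk 2 (imJ L) (A : Subgroup (Offender.Hol (vSub L))) with hNb
  have hNbM : Nb ≤ M.map (rep L) := by
    refine iSup_le fun A => sup_le ?_ ?_
    · obtain ⟨P, hP, hAP⟩ := A.2.2
      obtain ⟨K, hK', he⟩ := exists_comp h hP A.2.1 hAP
      exact he ▸ map_mono (hK K hK')
    · obtain ⟨P, hP, hAP⟩ := A.2.2
      exact hAP.trans (map_mono ((SfFree.le_jS hP).trans hJ))
  have hHNb : ∀ g ∈ jT L, ∀ z ∈ Nb, rep L g * z * (rep L g)⁻¹ ∈ Nb := by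
    intro g hg z hz
    have h1 : Nb ≤ Nb.comap (MulAut.conj (rep L g)).toMonoidHom := by
      rw [hNb]
      refine iSup_le fun A => fun u hu => ?_
      exact le_iSup (fun A : {A : Subgroup (Offender.Hol (vSub L)) //
        Offender.IsLine 2 (embV L) (imJ L) A ∧ ∃ P, Mem (S : Subgroup L) P ∧ A ≤ P.map (rep L)} =>
        Offender.blk 2 (imJ L) (A : Subgroup (Offender.Hol (vSub L)))) A
        ((mem_normalizer_iff.1 (A.2.1.le_normalizer_blk hff (mem_map_of_mem _ hg)) u).1 hu)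
    exact h1 hz
  set D := jT L ⊓ Nb.comap (rep L) with hD
  have hcVM : cV L ≤ M := (cV_le_normalizer_jS h S).trans hN
  have hDM : D ≤ M := by
    refine inf_le_right.trans ((comap_mono hNbM).trans ?_)
    rw [comap_map_eq, Offender.act_ker]
    exact sup_le le_rfl hcVM
  have hJD : J ≤ D := le_inf (jS_le_jT S) (map_le_iff_le_comap.1 (by
    rw [hJdef, jS, Subgroup.map_iSup]
    refine iSup_le fun P => ?_
    rw [Subgroup.map_iSup]
    refine iSup_le fun hP => lines_span h hP fun A hAP hA => ?_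
    exact le_trans le_sup_right (le_iSup (fun A : {A : Subgroup (Offender.Hol (vSub L)) //
        Offender.IsLine 2 (embV L) (imJ L) A ∧ ∃ P, Mem (S : Subgroup L) P ∧ A ≤ P.map (rep L)} =>
        Offender.blk 2 (imJ L) (A : Subgroup (Offender.Hol (vSub L)))) ⟨A, hA, P, hP, hAP⟩)))
  obtain ⟨T, hT⟩ := (((S.2.to_le (SfFree.jS_le _)) : IsPGroup 2 J).comap_subtype
    (K := jT L)).exists_le_sylow
  have hTJ : jS ((T : Subgroup (jT L)).map (jT L).subtype) = J := by
    refine jS_eq_of_le (T.2.map _) fun z hz => ?_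
    exact ⟨⟨z, jS_le_jT S hz⟩, hT hz, rfl⟩
  have hfr : ∀ g : L, ∃ m ∈ jT L, ∃ n ∈ normalizer (J : Set L), g = m * n := by
    intro g
    have h1 : g ∈ jT L ⊔ normalizer (((T : Subgroup (jT L)).map (jT L).subtype : Subgroup L) : Set L) := by
      rw [sup_comm, T.normalizer_sup_eq_top]; exact mem_top _
    rw [← SetLike.mem_coe, Subgroup.normal_mul] at h1
    obtain ⟨m, hm, n, hn, rfl⟩ := h1
    refine ⟨m, hm, n, ?_, rfl⟩
    rw [← hTJ]
    exact cj_normalizer_jS hn
  have hjTM : jT L ≤ D := by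
    refine Thompson.thompsonOf_le_iff.2 fun P _ hPe hPmax => ?_
    obtain ⟨S', hS'⟩ := (Thompson.ea_isPGroup hPe).exists_le_sylow
    obtain ⟨g, hg⟩ := MulAction.exists_smul_eq L S S'
    have h1 : P ≤ jS (S' : Subgroup L) := SfFree.le_jS ⟨hS', hPe, fun B _ hB => hPmax B le_top hB⟩
    rw [← hg, Sylow.coe_subgroup_smul, Coprime.conj_smul_eq_map,
      SfFree.jS_map (ι := (MulAut.conj g).toMonoidHom) (MulAut.conj g).injective] at h1
    refine h1.trans ?_
    obtain ⟨m, hm, n, hn, rfl⟩ := hfr g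
    rw [map_le_iff_le_comap]
    intro z hz
    have hnz : n * z * n⁻¹ ∈ D := hJD ((mem_normalizer_iff.1 hn z).1 hz)
    show (m * n) * z * (m * n)⁻¹ ∈ D
    rw [show (m * n) * z * (m * n)⁻¹ = m * (n * z * n⁻¹) * m⁻¹ by group]
    refine mem_inf.2 ⟨mul_mem (mul_mem hm hnz.1) (inv_mem hm), ?_⟩
    rw [mem_comap, map_mul, map_mul, map_inv]
    exact hHNb m hm _ hnz.2
  intro g _
  obtain ⟨m, hm, n, hn, rfl⟩ := hfr g
  exact mul_mem (hDM (hjTM hm)) (hN hn)

end Cfsg.Agent.ZNComp
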