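import Cfsg.Agent.ZNComp.Weak

/-!
# When all components share 2-local subgroups
-/

set_option autoImplicit false

namespace Cfsg.Agent.ZNComp

open Subgroup
open scoped commutatorElement
open SfFree (cj Mem jS)

variable {G : Type*} [Group G] [Finite G]

/-- Two components lie in a common 2-local subgroup. -/
def Share (T K K' : Subgroup G) : Prop :=
  ∃ L : Subgroup G, Cfsg.IsTwoLocal L ∧ jS T ≤ L ∧ K ≤ L ∧ K' ≤ L

/-- The subgroup generated by the four-groups of all components. -/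
def vAll (T : Subgroup G) : Subgroup G :=
  ⨆ (K : Subgroup G) (_ : Cfsg.IsJComponent T K), Cfsg.wOf K

theorem wOf_le_vAll {T K : Subgroup G} (hK : Cfsg.IsJComponent T K) : Cfsg.wOf K ≤ vAll T :=
  le_iSup₂ (f := fun K (_ : Cfsg.IsJComponent T K) => Cfsg.wOf K) K hK

/-- The standing hypotheses: `T = S` and all components share. -/
structure FCtx (S : Sylow 2 G) : Prop where
  hyp : Hyp G
  hO : Cfsg.pCore 2 G = ⊥
  share : ∀ K K', Cfsg.IsJComponent (S : Subgroup G) K → Cfsg.IsJComponent (S : Subgroup G) K' →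
    Share (S : Subgroup G) K K'
  exist : ∃ K, Cfsg.IsJComponent (S : Subgroup G) K

namespace FCtx

variable {S : Sylow 2 G} (c : FCtx S)
include c

theorem pair {K K' : Subgroup G} (hK : Cfsg.IsJComponent (S : Subgroup G) K)
    (hK' : Cfsg.IsJComponent (S : Subgroup G) K') :
    K' = K ∨ (Cfsg.wOf K ⊓ Cfsg.wOf K' = ⊥ ∧ K' ≤ centralizer (Cfsg.wOf K : Set G) ∧
      K ≤ centralizer (Cfsg.wOf K' : Set G) ∧ K' ≤ normalizer (K : Set G) ∧
      K ≤ normalizer (K' : Set G)) := by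
  obtain ⟨L, hL, hJ, h1, h2⟩ := c.share K K' hK hK'
  exact co_pair c.hyp S.2 (good_full hK) hK' hL hJ h1 h2

/-- There is a 2-local subgroup containing every 2-local overgroup of `J(S)`. -/
theorem exists_top : ∃ L' : Subgroup G, Cfsg.IsTwoLocal L' ∧
    normalizer (jS (S : Subgroup G) : Set G) ≤ L' ∧
    (∀ K, Cfsg.IsJComponent (S : Subgroup G) K → K ≤ L') ∧
    ∀ L, Cfsg.IsTwoLocal L → jS (S : Subgroup G) ≤ L → L ≤ L' := by
  obtain ⟨K₀, hK₀⟩ := c.exist
  obtain ⟨L', hL', hK, hJ, hmem⟩ := local_of_family {K | Cfsg.IsJComponent (S : Subgroup G) K} hK₀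
    (fun _ h => h) fun A hA B hB => by
      rcases c.pair hA hB with rfl | h
      · exact le_normalizer
      · exact h.2.2.2.1
  have hN : normalizer (jS (S : Subgroup G) : Set G) ≤ L' := fun g hg =>
    hmem g fun K hK => (good_cj (good_full hK) hg).comp
  refine ⟨L', hL', hN, hK, fun L hL hJL => ?_⟩
  obtain ⟨S₀, hS₀⟩ := exists_sylow_containing (S.2.to_le (SfFree.jS_le _)) hJL
  have heq := jS_eq_of_sylow (S := S) (S₀.2.map L.subtype) hS₀
  intro x hx
  have hJ' : (jS (S₀ : Subgroup L)).map L.subtype = jS (S : Subgroup G) := by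
    rw [← SfFree.jS_map L.subtype_injective, heq]
  refine le_of_components (loc_of c.hyp (local_charTwo c.hyp hL)) S₀ (L'.subgroupOf L)
    (fun z hz => hJ (hJ'.le ⟨z, hz, rfl⟩)) (fun z hz => hN ?_) (fun K hKc => ?_)
    (mem_top (⟨x, hx⟩ : L))
  · rw [← hJ']
    exact le_normalizer_map L.subtype ⟨z, hz, rfl⟩
  · exact map_le_iff_le_comap.1
      (hK _ (isJComponent_of_comp S₀ (by rw [heq, thompson_eq_jS]) hKc))

theorem vAll_ea : Cfsg.IsElementaryAbelian 2 (vAll (S : Subgroup G)) := by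
  have hcomm : ∀ {A B : Subgroup G}, Cfsg.IsJComponent (S : Subgroup G) A →
      Cfsg.IsJComponent (S : Subgroup G) B →
      Cfsg.wOf B ≤ centralizer (Cfsg.wOf A : Set G) := fun {A B} hA hB => by
    rcases c.pair hA hB with rfl | h
    · obtain ⟨x, hx, hx0⟩ := exists_not_mem_core hA.2.2.1
      exact (Thompson.ea_iff.1 (wOf_spec hA.2.2.1 hx hx0).2.1).1
    · exact (wOf_le_self B).trans h.2.1
  have hab : vAll (S : Subgroup G) ≤ centralizer (vAll (S : Subgroup G) : Set G) :=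
    iSup₂_le fun B hB => Subgroup.le_centralizer_iff.1 (iSup₂_le fun A hA => hcomm hB hA)
  refine Thompson.ea_iff.2 ⟨hab, fun a ha => ?_⟩
  let Q : Subgroup G :=
    { carrier := {x | x ∈ vAll (S : Subgroup G) ∧ x * x = 1}
      one_mem' := ⟨one_mem _, one_mul 1⟩
      mul_mem' := fun {x y} hx hy => ⟨mul_mem hx.1 hy.1, by
        rw [Commute.mul_mul_mul_comm (mem_centralizer_iff.1 (hab hx.1) y hy.1), hx.2, hy.2,
          one_mul]⟩
      inv_mem' := fun {x} hx => by
        rw [inv_eq_of_mul_eq_one_left hx.2]; exact hx }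
  have hle : vAll (S : Subgroup G) ≤ Q :=
    iSup₂_le fun K hK w hw => ⟨wOf_le_vAll hK hw, hK.2.2.2.2.2 w hw⟩
  rw [pow_two]
  exact (hle ha).2

omit c in
/-- A component moves each element of its four-group into `Ω₁(Z(J))`. -/
theorem wOf_conj_zJ {T K : Subgroup G} (hT : IsPGroup 2 T) (hK : Cfsg.IsJComponent T K) {u : G}
    (hu : u ∈ Cfsg.wOf K) : ∃ k ∈ K, k * u * k⁻¹ ∈ zJ T := by
  by_cases hu1 : u = 1
  · exact ⟨1, K.one_mem, by rw [hu1]; simp⟩
  obtain ⟨w, hw, hwW, hw1, -⟩ := exists_w hT hK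
  obtain ⟨x, hx, hx0⟩ := exists_not_mem_core hK.2.2.1
  obtain ⟨-, -, hcore, hnorm, hfix⟩ := wOf_spec hK.2.2.1 hx hx0
  have hx3 := (core_cosets hK.2.2.1 hx hx0).1
  have h3 : x ^ 3 * u = u * x ^ 3 := (mem_centralizer_iff.1 (hcore hx3) u hu).symm
  set a := x * u * x⁻¹ with had
  set b := x⁻¹ * u * x with hbd
  have haW : a ∈ Cfsg.wOf K := (mem_normalizer_iff.1 (hnorm hx) u).1 hu
  have hbW : b ∈ Cfsg.wOf K := (mem_normalizer_iff''.1 (hnorm hx) u).1 hu
  have ha1 : a ≠ 1 := fun e => hu1 (by simpa [had] using e)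
  have hb1 : b ≠ 1 := fun e => hu1 (by simpa [hbd, mul_assoc, inv_mul_eq_one] using e)
  have hua : u ≠ a := fun e => hu1 (hfix u hu (mul_inv_eq_iff_eq_mul.1 e.symm))
  have hub : u ≠ b := fun e => hu1 (hfix u hu (by
    have := e.symm
    rw [hbd, mul_assoc, inv_mul_eq_iff_eq_mul] at this
    exact this.symm))
  have hab : a ≠ b := fun e => hu1 (hfix u hu (by
    have e2 : x ^ 2 * u = u * x ^ 2 := by
      calc x ^ 2 * u = x * (x * u * x⁻¹) * x := by rw [pow_two]; group
        _ = x * (x⁻¹ * u * x) * x := by rw [← had, e]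
        _ = u * x ^ 2 := by rw [pow_two]; group
    have h4 : Commute (x ^ 3 * (x ^ 2)⁻¹) u :=
      (show Commute (x ^ 3) u from h3).mul_left (show Commute (x ^ 2) u from e2).inv_left
    rwa [show x ^ 3 * (x ^ 2)⁻¹ = x by group] at h4))
  by_contra! hno
  have h1 := hno 1 K.one_mem
  have h2 := hno x hx
  have h4 := hno x⁻¹ (K.inv_mem hx)
  have h5 : ({1, u, a, b, w} : Set G).ncard ≤ (Cfsg.wOf K : Set G).ncard :=
    Set.ncard_le_ncard (by
      rintro _ (rfl | rfl | rfl | rfl | rfl)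
      exacts [one_mem _, hu, haW, hbW, hwW]) (Set.toFinite _)
  rw [show (Cfsg.wOf K : Set G).ncard = 4 from
    (Nat.card_coe_set_eq _).symm.trans hK.2.2.2.2.1] at h5
  have hn : ({1, u, a, b, w} : Set G).ncard = 5 := by
    have wu : w ≠ u := fun e => h1 (by simpa using e ▸ hw)
    have wa : w ≠ a := fun e => h2 (by rw [← had, ← e]; exact hw)
    have wb : w ≠ b := fun e => h4 (by rw [inv_inv, ← hbd, ← e]; exact hw)
    rw [Set.ncard_insert_of_notMem, Set.ncard_insert_of_notMem, Set.ncard_insert_of_notMem,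
      Set.ncard_insert_of_notMem, Set.ncard_singleton]
    all_goals simp only [Set.mem_insert_iff, Set.mem_singleton_iff]
    all_goals first
      | exact fun h => wb h.symm
      | exact fun h => h.elim hab (fun h => wa h.symm)
      | exact fun h => h.elim hua (fun h => h.elim hub (fun h => wu h.symm))
      | exact fun h => h.elim (fun e => hu1 e.symm)
          (fun h => h.elim (fun e => ha1 e.symm)
            (fun h => h.elim (fun e => hb1 e.symm) (fun e => hw1 e.symm)))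
  omega

/-- Every element of `V` is conjugate in the join of the components to one of `Ω₁(Z(J))`. -/
theorem exists_conj (s : Finset (Subgroup G))
    (hs : ∀ K ∈ s, Cfsg.IsJComponent (S : Subgroup G) K) :
    ∀ v ∈ s.sup Cfsg.wOf, ∃ l ∈ s.sup id, l * v * l⁻¹ ∈ zJ (S : Subgroup G) := by
  classical
  induction s using Finset.induction with
  | empty =>
    intro v hv
    rw [Finset.sup_empty, Subgroup.mem_bot] at hv
    exact ⟨1, one_mem _, by rw [hv]; simp⟩
  | insert K s hKs ih =>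
    intro v hv
    have hK := hs K (Finset.mem_insert_self K s)
    have hs' : ∀ B ∈ s, Cfsg.IsJComponent (S : Subgroup G) B := fun B hB =>
      hs B (Finset.mem_insert_of_mem hB)
    rw [Finset.sup_insert] at hv ⊢
    have hpair : ∀ B ∈ s, B ≤ centralizer (Cfsg.wOf K : Set G) ∧
        K ≤ centralizer (Cfsg.wOf B : Set G) := fun B hB =>
      (c.pair hK (hs' B hB)).elim (fun e => absurd (e ▸ hB) hKs) fun h => ⟨h.2.1, h.2.2.1⟩
    have hKc : s.sup Cfsg.wOf ≤ centralizer (K : Set G) :=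
      Finset.sup_le fun B hB => Subgroup.le_centralizer_iff.1 (hpair B hB).2
    have hWc : s.sup id ≤ centralizer (Cfsg.wOf K : Set G) := Finset.sup_le fun B hB => (hpair B hB).1
    rw [← SetLike.mem_coe, coe_mul_of_left_le_normalizer_right _ _
      (((wOf_le_self K).trans (Subgroup.le_centralizer_iff.1 hKc)).trans
        (centralizer_le_normalizer _))] at hv
    obtain ⟨u, hu, v', hv', rfl⟩ := hv
    obtain ⟨k, hk, hku⟩ := wOf_conj_zJ S.2 hK hu
    obtain ⟨l, hl, hlv⟩ := ih hs' v' hv'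
    refine ⟨l * k, mul_mem (mem_sup_right hl) (mem_sup_left hk), ?_⟩
    have hku' : k * u * k⁻¹ ∈ Cfsg.wOf K := (mem_normalizer_iff.1
      (normalizer_le_wOf K (le_normalizer hk)) u).1 hu
    have e1 : k * v' * k⁻¹ = v' :=
      mul_inv_eq_iff_eq_mul.2 (mem_centralizer_iff.1 (hKc hv') k hk)
    have e2 : l * (k * u * k⁻¹) * l⁻¹ = k * u * k⁻¹ :=
      mul_inv_eq_iff_eq_mul.2 (mem_centralizer_iff.1 (hWc hl) _ hku').symm
    rw [show l * k * (u * v') * (l * k)⁻¹ =
      l * (k * u * k⁻¹) * l⁻¹ * (l * (k * v' * k⁻¹) * l⁻¹) by group, e1, e2]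
    exact mul_mem hku hlv

theorem exists_conj' {v : G} (hv : v ∈ vAll (S : Subgroup G)) {L' : Subgroup G}
    (hL' : ∀ K, Cfsg.IsJComponent (S : Subgroup G) K → K ≤ L') :
    ∃ l ∈ L', l * v * l⁻¹ ∈ zJ (S : Subgroup G) := by
  classical
  set s : Finset (Subgroup G) :=
    (Set.toFinite {K | Cfsg.IsJComponent (S : Subgroup G) K}).toFinset
  have hs : ∀ K, K ∈ s ↔ Cfsg.IsJComponent (S : Subgroup G) K := fun K => Set.Finite.mem_toFinset _
  have hV : vAll (S : Subgroup G) ≤ s.sup Cfsg.wOf :=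
    iSup₂_le fun K hK => Finset.le_sup (f := Cfsg.wOf) ((hs K).2 hK)
  obtain ⟨l, hl, h⟩ := c.exists_conj s (fun K hK => (hs K).1 hK) v (hV hv)
  exact ⟨l, (Finset.sup_le fun K hK => hL' K ((hs K).1 hK) : s.sup id ≤ L') hl, h⟩

omit c in
theorem exists_local_centralizer {z : G} (hz : z ∈ zJ (S : Subgroup G)) (hz1 : z ≠ 1) :
    ∃ L, Cfsg.IsTwoLocal L ∧ jS (S : Subgroup G) ≤ L ∧ centralizer ({z} : Set G) ≤ L := by
  have : Fact (Nat.Prime 2) := ⟨Nat.prime_two⟩
  have hC : centralizer ({z} : Set G) ≤ normalizer ((zpowers z : Subgroup G) : Set G) := by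
    refine le_trans (le_of_eq ?_) (centralizer_le_normalizer _)
    rw [zpowers_eq_closure, centralizer_closure]
  refine ⟨_, SfFree.isTwoLocal_normalizer (X := zpowers z) (IsPGroup.of_card (n := 1) ?_)
    (fun h => hz1 (zpowers_eq_bot.1 h)), fun j hj => hC (mem_centralizer_singleton_iff.2 ?_), hC⟩
  · rw [Nat.card_zpowers, pow_one, orderOf_eq_prime_iff]
    exact ⟨by rw [pow_two]; exact zJ_sq hz, hz1⟩
  · exact mem_centralizer_iff.1 ((Thompson.omegaOne_le 2 _).trans inf_le_right hz) j hj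

/-- The data of the universal overgroup `L'`. -/
theorem vAll_facts {L' : Subgroup G} (hloc : Cfsg.IsTwoLocal L')
    (hN : normalizer (jS (S : Subgroup G) : Set G) ≤ L')
    (hK : ∀ K, Cfsg.IsJComponent (S : Subgroup G) K → K ≤ L')
    (hL : ∀ L, Cfsg.IsTwoLocal L → jS (S : Subgroup G) ≤ L → L ≤ L') :
    L' ≤ normalizer (vAll (S : Subgroup G) : Set G) ∧ vAll (S : Subgroup G) ≤ (S : Subgroup G) ∧
      (∀ v ∈ vAll (S : Subgroup G), v ≠ 1 → centralizer ({v} : Set G) ≤ L') ∧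
      ∀ k ∉ L', vAll (S : Subgroup G) ⊓ cj k (vAll (S : Subgroup G)) = ⊥ := by
  have : Fact (Nat.Prime 2) := ⟨Nat.prime_two⟩
  have hSL : (S : Subgroup G) ≤ L' := (SfFree.le_normalizer_jS _).trans hN
  have hJL : jS (S : Subgroup G) ≤ L' := (SfFree.jS_le _).trans hSL
  have hnorm : L' ≤ normalizer (vAll (S : Subgroup G) : Set G) := by
    intro y hy
    refine mem_normalizer_iff_map_conj_eq.2 (eq_of_le_of_card_ge ?_ (SfFree.card_cj y _).ge)
    rw [vAll, Subgroup.map_iSup]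
    refine iSup_le fun K => ?_
    rw [Subgroup.map_iSup]
    refine iSup_le fun hKc => ?_
    rw [wOf_map (MulAut.conj y).injective]
    exact wOf_le_vAll (orbit_comp c.hyp S.2 (good_full hKc) hloc hJL (hK K hKc) hy)
  have hVL : vAll (S : Subgroup G) ≤ L' :=
    iSup₂_le fun K hKc => (wOf_le_self K).trans (hK K hKc)
  have hidx : ¬ 2 ∣ (S : Subgroup G).relIndex L' := fun h =>
    S.not_dvd_index (h.trans (relIndex_dvd_index_of_le hSL))
  have hVS : vAll (S : Subgroup G) ≤ (S : Subgroup G) :=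
    (S4Amal.le_core_of_normal hVL hnorm (Thompson.ea_isPGroup c.vAll_ea)).trans
      (S4Amal.core_le_sylow hSL S.2 hidx)
  have hcent : ∀ v ∈ vAll (S : Subgroup G), v ≠ 1 → centralizer ({v} : Set G) ≤ L' ∧
      ∃ l ∈ L', cj l (jS (S : Subgroup G)) ≤ centralizer ({v} : Set G) := by
    intro v hv hv1
    obtain ⟨l, hl, hlv⟩ := c.exists_conj' hv hK
    have hne : l * v * l⁻¹ ≠ 1 := fun e => hv1 (by simpa using e)
    obtain ⟨L, hLl, hJ, hC⟩ := exists_local_centralizer hlv hne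
    refine ⟨fun x hx => ?_, l⁻¹, L'.inv_mem hl, ?_⟩
    · have h1 : l * x * l⁻¹ ∈ L' := hL L hLl hJ (hC (mem_centralizer_singleton_iff.2 (by
        have := mem_centralizer_singleton_iff.1 hx
        calc l * x * l⁻¹ * (l * v * l⁻¹) = l * (x * v) * l⁻¹ := by group
          _ = l * (v * x) * l⁻¹ := by rw [this]
          _ = _ := by group)))
      have := L'.mul_mem (L'.mul_mem (L'.inv_mem hl) h1) hl
      rwa [show l⁻¹ * (l * x * l⁻¹) * l = x by group] at this
    · rintro _ ⟨j, hj, rfl⟩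
      refine mem_centralizer_singleton_iff.2 ?_
      have := mem_centralizer_iff.1 ((Thompson.omegaOne_le 2 _).trans inf_le_right hlv) j hj
      show l⁻¹ * j * l⁻¹⁻¹ * v = v * (l⁻¹ * j * l⁻¹⁻¹)
      calc l⁻¹ * j * l⁻¹⁻¹ * v = l⁻¹ * (j * (l * v * l⁻¹)) * l := by group
        _ = l⁻¹ * ((l * v * l⁻¹) * j) * l := by rw [this]
        _ = _ := by group
  refine ⟨hnorm, hVS, fun v hv hv1 => (hcent v hv hv1).1, fun k hk => ?_⟩
  by_contra hne
  obtain ⟨v, ⟨hv, hvk⟩, hv1⟩ := Offender.exists_ne_one_of_ne_bot hne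
  obtain ⟨v₀, hv₀, rfl⟩ := hvk
  obtain ⟨-, l, hl, hlJ⟩ := hcent v₀ hv₀ (fun e => hv1 (by rw [e, map_one]))
  refine hk ((L'.mul_mem_cancel_right hl).1 (mem_of_cj_le hSL hN ?_))
  refine le_trans ?_ (hcent _ hv hv1).1
  rw [← SfFree.cj_cj]
  refine (SfFree.cj_mono hlJ).trans ?_
  rintro _ ⟨x, hx, rfl⟩
  refine mem_centralizer_singleton_iff.2 ?_
  show (MulAut.conj k) x * (MulAut.conj k) v₀ = (MulAut.conj k) v₀ * (MulAut.conj k) x
  rw [← map_mul, ← map_mul, mem_centralizer_singleton_iff.1 hx]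

end FCtx

end Cfsg.Agent.ZNComp
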