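import Cfsg.Agent.ZNComp.NoCoMain

/-!
# The structure when the maximal straddling group is Sylow
-/

set_option autoImplicit false

namespace Cfsg.Agent.ZNComp

open Subgroup
open scoped commutatorElement
open SfFree (cj Mem jS)

variable {G : Type*} [Group G] [Finite G]

theorem share_self {T K : Subgroup G} (hK : Cfsg.IsJComponent T K) : Share T K K :=
  ⟨_, IsJComponent.isTwoLocal hK, (jS_le_normalizer hK).trans (normalizer_le_wOf K),
    le_normalizer.trans (normalizer_le_wOf K), le_normalizer.trans (normalizer_le_wOf K)⟩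

theorem share_of_core {T K K' : Subgroup G}
    (h : Cfsg.pCoreOf 2 ((K ⊔ T) ⊔ (K' ⊔ T)) ≠ ⊥) : Share T K K' := by
  have hle := LocalStructure.le_normalizer_pCoreOf (p := 2) ((K ⊔ T) ⊔ (K' ⊔ T))
  exact ⟨_, SfFree.isTwoLocal_normalizer (core_isPGroup _) h,
    (SfFree.jS_le T).trans ((le_sup_right.trans le_sup_left).trans hle),
    (le_sup_left.trans le_sup_left).trans hle, (le_sup_left.trans le_sup_right).trans hle⟩

/-- The standing hypotheses, with `T = S`. -/
structure TCtx (S : Sylow 2 G) (M : Subgroup G) : Prop where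
  hyp : Hyp G
  hO : Cfsg.pCore 2 G = ⊥
  hMJ : normalizer (jS (S : Subgroup G) : Set G) ≤ M
  max : (S : Subgroup G) ∈ Cfsg.maxStraddlingTwoSubgroups M

namespace TCtx

variable {S : Sylow 2 G} {M : Subgroup G} (c : TCtx S M)
include c

theorem exists_local_comp : ∃ K L, Cfsg.IsJComponent (S : Subgroup G) K ∧ Cfsg.IsTwoLocal L ∧
    (S : Subgroup G) ≤ L ∧ K ≤ L := by
  obtain ⟨K, ⟨hK, -⟩, -, hne⟩ := outside_nonempty c.hyp c.hMJ c.max
  exact ⟨K, _, hK, SfFree.isTwoLocal_normalizer (core_isPGroup _) hne,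
    le_sup_right.trans (LocalStructure.le_normalizer_pCoreOf (p := 2) (K ⊔ (S : Subgroup G))),
    le_sup_left.trans (LocalStructure.le_normalizer_pCoreOf (p := 2) (K ⊔ (S : Subgroup G)))⟩

theorem exists_pair_comp : ∃ K K', Cfsg.IsJComponent (S : Subgroup G) K ∧
    Cfsg.IsJComponent (S : Subgroup G) K' ∧ ¬ Share (S : Subgroup G) K K' ∧ K ≠ K' := by
  obtain ⟨K₀, -, hK₀, -⟩ := c.exists_local_comp
  obtain ⟨K, K', hK, hK', hns⟩ := exists_not_share c.hyp c.hO hK₀
  exact ⟨K, K', hK, hK', hns, fun e => hns (e ▸ share_self hK)⟩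

theorem card_zJ_le : Nat.card (zJ (S : Subgroup G)) ≤ 4 := by
  by_contra hlt
  obtain ⟨A, B, hA, hB, hns, -⟩ := c.exists_pair_comp
  obtain ⟨e, he, he'⟩ : ∃ e, e ∈ eFix (S : Subgroup G) A ⊓ eFix (S : Subgroup G) B ∧ e ≠ 1 := by
    refine Offender.exists_ne_one_of_ne_bot fun e0 => hlt ?_
    have a1 := card_zJ S.2 hA
    have b1 := card_zJ S.2 hB
    have h1 := Coprime.card_mul_relIndex_of_le
      (inf_le_left : eFix (S : Subgroup G) A ≤ zJ (S : Subgroup G))
    have h2 := Coprime.card_mul_relIndex_of_le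
      (inf_le_left : eFix (S : Subgroup G) B ≤ zJ (S : Subgroup G))
    rw [a1, mul_comm 2] at h1
    rw [b1, mul_comm 2] at h2
    have i1 := Nat.eq_of_mul_eq_mul_left Nat.card_pos h1
    have i2 := Nat.eq_of_mul_eq_mul_left Nat.card_pos h2
    have := relIndex_inf_le (H := eFix (S : Subgroup G) A) (K := eFix (S : Subgroup G) B)
      (L := zJ (S : Subgroup G))
    rw [e0, relIndex_bot_left, i1, i2] at this
    omega
  obtain ⟨L', hL', hJ, hAL, hBL, -⟩ := local_of_fix he.1 he.2 he'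
  exact hns ⟨L', hL', hJ, hAL, hBL⟩

/-- The fixed group is generated by any of its nontrivial elements. -/
theorem eFix_eq {K : Subgroup G} (hK : Cfsg.IsJComponent (S : Subgroup G) K) {e : G}
    (he : e ∈ eFix (S : Subgroup G) K) (he1 : e ≠ 1) : eFix (S : Subgroup G) K = zpowers e := by
  refine (eq_of_le_of_card_ge (zpowers_le.2 he) ?_).symm
  have h4 := c.card_zJ_le
  rw [card_zJ S.2 hK] at h4
  rw [Nat.card_zpowers, orderOf_eq_prime (by rw [pow_two]; exact zJ_sq he.1) he1]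
  omega

theorem eq_of_mem {K K' : Subgroup G} (hK : Cfsg.IsJComponent (S : Subgroup G) K)
    (hK' : Cfsg.IsJComponent (S : Subgroup G) K') {e : G} (he : e ∈ eFix (S : Subgroup G) K)
    (he' : e ∈ eFix (S : Subgroup G) K') (he1 : e ≠ 1) : K' = K :=
  eq_of_eFix c.hyp S.2 (good_full hK) hK' (by rw [c.eFix_eq hK he he1, c.eFix_eq hK' he' he1])
    fun e0 => he1 (by rw [e0, Subgroup.mem_bot] at he; exact he)

theorem exists_z : ∃ z ∈ Cfsg.omegaCenterOf (S : Subgroup G), z ≠ 1 :=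
  Offender.exists_ne_one_of_ne_bot (SfFree.omZ_ne_bot S.2 c.max.1.2.1)

theorem not_le_centralizer {K : Subgroup G} (hK : Cfsg.IsJComponent (S : Subgroup G) K) :
    ¬ K ≤ centralizer (Cfsg.omegaCenterOf (S : Subgroup G) : Set G) := fun h =>
  not_le_normalizer hK S.2 (SfFree.jS_le _) (h.trans (c.hyp.cZ S))

theorem omega_eq : Cfsg.omegaCenterOf (S : Subgroup G) = zJ (S : Subgroup G) := by
  refine le_antisymm (omega_le_zJ _) fun v hv => ?_
  by_contra hvO
  obtain ⟨z, hz, hz1⟩ := c.exists_z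
  have hzJ := omega_le_zJ (S : Subgroup G) hz
  obtain ⟨A, B, hA, hB, hns, -⟩ := c.exists_pair_comp
  obtain ⟨K, L, hK, hL, hSL, hKL⟩ := c.exists_local_comp
  have h2 : ∀ u ∈ Cfsg.omegaCenterOf (S : Subgroup G), u = 1 ∨ u = z := by
    intro u hu
    by_contra! h
    refine hvO ((eq_of_le_of_card_ge (omega_le_zJ (S : Subgroup G)) ?_).ge hv)
    have h3 : ({1, z, u} : Set G).ncard ≤ (Cfsg.omegaCenterOf (S : Subgroup G) : Set G).ncard :=
      Set.ncard_le_ncard (by
        rintro _ (rfl | rfl | rfl)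
        exacts [one_mem _, hz, hu]) (Set.toFinite _)
    rw [Set.ncard_eq_three.2 ⟨1, z, u, hz1.symm, h.1.symm, h.2.symm, rfl⟩,
      ← Nat.card_coe_set_eq] at h3
    have h4 : 3 ≤ Nat.card (Cfsg.omegaCenterOf (S : Subgroup G)) := h3
    obtain ⟨n, hn⟩ := IsPGroup.iff_card.1
      (Thompson.ea_isPGroup (Thompson.omegaOne_centre_ea 2 (S : Subgroup G)))
    have h5 : Nat.card (Cfsg.omegaCenterOf (S : Subgroup G)) = 2 ^ n := hn
    have := c.card_zJ_le
    rcases n with _ | _ | n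
    · omega
    · omega
    · have : 4 ≤ 2 ^ (n + 2) := by
        rw [pow_add]; exact Nat.le_mul_of_pos_left 4 (Nat.two_pow_pos n)
      omega
  have hzE : ∀ {C : Subgroup G}, Cfsg.IsJComponent (S : Subgroup G) C →
      z ∉ eFix (S : Subgroup G) C := fun {C} hC hzC => c.not_le_centralizer hC fun k hk =>
    mem_centralizer_iff.2 fun u hu => by
      rcases h2 u hu with rfl | rfl
      · rw [one_mul, mul_one]
      · exact (mem_centralizer_iff.1 hzC.2 k hk).symm
  have hzJ4 : Nat.card (zJ (S : Subgroup G)) = 4 := by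
    have h3 : ({1, z, v} : Set G).ncard ≤ (zJ (S : Subgroup G) : Set G).ncard :=
      Set.ncard_le_ncard (by
        rintro _ (rfl | rfl | rfl)
        exacts [one_mem _, hzJ, hv]) (Set.toFinite _)
    rw [Set.ncard_eq_three.2 ⟨1, z, v, hz1.symm, fun e => hvO (e ▸ one_mem _),
      fun e => hvO (e ▸ hz), rfl⟩, ← Nat.card_coe_set_eq] at h3
    have h4 : 3 ≤ Nat.card (zJ (S : Subgroup G)) := h3
    have := card_zJ S.2 hK
    have := c.card_zJ_le
    omega
  have hE : ∀ {C : Subgroup G}, Cfsg.IsJComponent (S : Subgroup G) C →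
      ∃ e ∈ eFix (S : Subgroup G) C, e ≠ 1 := fun {C} hC => by
    refine Offender.exists_ne_one_of_ne_bot fun e0 => ?_
    have := card_zJ S.2 hC
    rw [e0, card_bot] at this
    omega
  obtain ⟨e, he, he1⟩ := hE hK
  have hez : e ≠ z := fun h => hzE hK (h ▸ he)
  have hlines := four_elems hzJ4 hzJ he.1 hz1 he1 hez (fun h => hez (by
    rw [eq_inv_of_mul_eq_one_left h, inv_eq_of_mul_eq_one_left (omega_sq hz)]))
  obtain ⟨s, hs, hse⟩ : ∃ s ∈ (S : Subgroup G), ¬ Commute s e := by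
    by_contra! h
    exact (h2 e (mem_omega (SfFree.jS_le _ (zJ_le _ he.1)) (zJ_sq he.1) h)).elim he1 hez
  set K' := cj s K with hK'd
  have hsN : s ∈ normalizer (jS (S : Subgroup G) : Set G) := SfFree.le_normalizer_jS _ hs
  have hK' : Cfsg.IsJComponent (S : Subgroup G) K' := (good_cj (good_full hK) hsN).comp
  have he' : s * e * s⁻¹ ∈ eFix (S : Subgroup G) K' := by
    refine ⟨(mem_normalizer_iff.1 (normalizer_le_omegaCenter _ hsN) e).1 he.1,
      mem_centralizer_iff.2 fun k hk => ?_⟩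
    obtain ⟨k, hk', rfl⟩ := hk
    show (MulAut.conj s) k * (MulAut.conj s) e = (MulAut.conj s) e * (MulAut.conj s) k
    rw [← map_mul, ← map_mul, mem_centralizer_iff.1 he.2 k hk']
  have hse' : s * e * s⁻¹ = e * z := by
    rcases hlines _ he'.1 with h | h | h | h
    · exact absurd (by simpa using h) he1
    · exfalso
      refine hez ?_
      calc e = s⁻¹ * (s * e * s⁻¹) * s := by group
        _ = z := by rw [h, mul_assoc, ← (omega_commute hz hs).eq, inv_mul_cancel_left]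
    · exact absurd (mul_inv_eq_iff_eq_mul.1 h) hse
    · exact h
  have hall : ∀ {C : Subgroup G}, Cfsg.IsJComponent (S : Subgroup G) C → C = K ∨ C = K' := by
    intro C hC
    obtain ⟨u, hu, hu1⟩ := hE hC
    rcases hlines u hu.1 with h | h | h | h
    · exact absurd h hu1
    · exact absurd (h ▸ hu) (hzE hC)
    · exact Or.inl (c.eq_of_mem hK hC he (h ▸ hu) he1)
    · refine Or.inr (c.eq_of_mem hK' hC he' ?_ (fun e0 => he1 (by simpa using e0)))
      rw [hse', ← h]; exact hu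
  have hboth : ∀ {C : Subgroup G}, C = K ∨ C = K' → C ≤ L := by
    rintro C (rfl | rfl)
    · exact hKL
    · exact (SfFree.cj_mono hKL).trans
        (SfFree.cj_of_mem_normalizer (le_normalizer (hSL hs))).le
  exact hns ⟨L, hL, (SfFree.jS_le _).trans hSL, hboth (hall hA), hboth (hall hB)⟩

theorem sylow_commute {v s : G} (hv : v ∈ zJ (S : Subgroup G)) (hs : s ∈ (S : Subgroup G)) :
    Commute s v :=
  omega_commute (c.omega_eq.ge hv) hs

/-- A 2-local subgroup containing `J(S)` and a component normalizes it. -/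
theorem rigid {K L : Subgroup G} (hK : Cfsg.IsJComponent (S : Subgroup G) K)
    (hL : Cfsg.IsTwoLocal L) (hJ : jS (S : Subgroup G) ≤ L) (hKL : K ≤ L) :
    L ≤ normalizer (K : Set G) := by
  have : Fact (Nat.Prime 2) := ⟨Nat.prime_two⟩
  have horb : ∀ y ∈ L, Cfsg.IsJComponent (S : Subgroup G) (cj y K) ∧ cj y K ≤ L := fun y hy =>
    ⟨orbit_comp c.hyp S.2 (good_full hK) hL hJ hKL hy,
      (SfFree.cj_mono hKL).trans (SfFree.cj_of_mem_normalizer (le_normalizer hy)).le⟩
  intro y hy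
  by_contra hyK
  obtain ⟨hK', hK'L⟩ := horb y hy
  have hne : cj y K ≠ K := fun e => hyK (mem_normalizer_iff_map_conj_eq.2 e)
  obtain ⟨w, hw, hwW, hw1, -⟩ := exists_w S.2 hK
  obtain ⟨w', hw', hwW', hw1', -⟩ := exists_w S.2 hK'
  have hwE' := (co_fix c.hyp S.2 (good_full hK) hK' hL hJ hKL hK'L hne hw).2 hwW
  have heK := (co_fix c.hyp S.2 (good_full hK) hK' hL hJ hKL hK'L hne hw').1 hwW'
  obtain ⟨S₀, hS₀⟩ := exists_sylow_containing (S.2.to_le (SfFree.jS_le _)) hJ
  set T₀ := (S₀ : Subgroup L).map L.subtype with hT₀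
  have hT₀J : jS T₀ = jS (S : Subgroup G) := jS_eq_of_sylow (S₀.2.map _) hS₀
  obtain ⟨n, hn, hnS⟩ := exists_cj_ge (SfFree.le_normalizer_jS (S : Subgroup G)) (S₀.2.map L.subtype)
    (hT₀J ▸ SfFree.le_normalizer_jS T₀)
  have hfix : T₀ ≤ L ⊓ normalizer (K : Set G) := by
    refine fun t ht => ⟨map_subtype_le _ ht, ?_⟩
    obtain ⟨s, hs, rfl⟩ := hnS ht
    set t := (MulAut.conj n).toMonoidHom s
    have hte : Commute t w' := by
      have hn' : n⁻¹ * w' * n ∈ zJ (S : Subgroup G) :=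
        (mem_normalizer_iff''.1 (normalizer_le_omegaCenter _ hn) w').1 hw'
      have := (c.sylow_commute hn' hs).eq
      show n * s * n⁻¹ * w' = w' * (n * s * n⁻¹)
      calc n * s * n⁻¹ * w' = n * (s * (n⁻¹ * w' * n)) * n⁻¹ := by group
        _ = n * ((n⁻¹ * w' * n) * s) * n⁻¹ := by rw [this]
        _ = _ := by group
    obtain ⟨hKt, -⟩ := horb t (map_subtype_le _ ht)
    refine mem_normalizer_iff_map_conj_eq.2 (c.eq_of_mem hK hKt heK ⟨hw', ?_⟩ hw1')
    refine mem_centralizer_iff.2 fun k hk => ?_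
    obtain ⟨k, hk', rfl⟩ := hk
    show (MulAut.conj t) k * w' = w' * (MulAut.conj t) k
    rw [MulAut.conj_apply]
    calc t * k * t⁻¹ * w' = t * k * (t⁻¹ * w' * t) * t⁻¹ := by group
      _ = t * (k * w') * t⁻¹ := by rw [mul_assoc t⁻¹, ← hte.eq, inv_mul_cancel_left, ← mul_assoc]
      _ = t * (w' * k) * t⁻¹ := by rw [mem_centralizer_iff.1 heK.2 k hk']
      _ = w' * (t * k * t⁻¹) := by rw [← mul_assoc t, hte.eq]; group
  have h2 : (L ⊓ normalizer (K : Set G)).relIndex L ≤ 2 := by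
    refine SfFree.relIndex_le_two hy fun b hb => ?_
    by_cases hbK : cj b K = K
    · exact Or.inl ⟨hb, mem_normalizer_iff_map_conj_eq.2 hbK⟩
    refine Or.inr ⟨L.mul_mem (L.inv_mem hy) hb, mem_normalizer_iff_map_conj_eq.2 ?_⟩
    obtain ⟨hKb, hKbL⟩ := horb b hb
    have hwEb := (co_fix c.hyp S.2 (good_full hK) hKb hL hJ hKL hKbL hbK hw).2 hwW
    show cj (y⁻¹ * b) K = K
    rw [← SfFree.cj_cj, c.eq_of_mem hK' hKb hwE' hwEb hw1, SfFree.cj_cj, inv_mul_cancel,
      SfFree.cj_one]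
  have hodd : Odd ((L ⊓ normalizer (K : Set G)).relIndex L) := by
    have h := (isSylowTwoIn_map S₀).2.2
    rw [← relIndex_mul_relIndex _ _ _ hfix inf_le_left] at h
    exact (Nat.odd_mul.1 h).2
  have h1 : (L ⊓ normalizer (K : Set G)).relIndex L = 1 := by
    rcases hodd with ⟨m, hm⟩
    omega
  exact hyK (relIndex_eq_one.1 h1 hy).2

theorem share_eq {K K' : Subgroup G} (hK : Cfsg.IsJComponent (S : Subgroup G) K)
    (hK' : Cfsg.IsJComponent (S : Subgroup G) K') (h : Share (S : Subgroup G) K K')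
    (h2 : Nat.card (zJ (S : Subgroup G)) = 2) : K' = K := by
  by_contra hne
  obtain ⟨L, hL, hJ, hKL, hK'L⟩ := h
  obtain ⟨w, hw, hwW, hw1, -⟩ := exists_w S.2 hK
  have hwE' := (co_fix c.hyp S.2 (good_full hK) hK' hL hJ hKL hK'L hne hw).2 hwW
  have h1 := card_zJ S.2 hK'
  have h3 : 2 ≤ Nat.card (eFix (S : Subgroup G) K') :=
    Finite.one_lt_card_iff_nontrivial.2 ((Subgroup.nontrivial_iff_ne_bot _).2 fun e =>
      hw1 (by rw [e, Subgroup.mem_bot] at hwE'; exact hwE'))
  omega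

theorem normalizer_local {K : Subgroup G} (hK : Cfsg.IsJComponent (S : Subgroup G) K) :
    Cfsg.IsTwoLocal (normalizer (K : Set G)) := by
  rw [normalizer_eq c.hyp S.2 (good_full hK).mem_zero]
  exact IsJComponent.isTwoLocal hK

theorem std {K : Subgroup G} (hK : Cfsg.IsJComponent (S : Subgroup G) K)
    (hSK : (S : Subgroup G) ≤ normalizer (K : Set G)) : Std (S : Subgroup G) K := by
  have : Fact (Nat.Prime 2) := ⟨Nat.prime_two⟩
  refine ⟨hK, hSK, c.normalizer_local hK, ⟨⟨hSK, S.2, ?_⟩, fun h => ?_, local_charTwo c.hyp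
    (c.normalizer_local hK)⟩, fun L hL hJ hKL => c.rigid hK hL hJ hKL, c.not_le_centralizer hK⟩
  · exact Nat.odd_iff.2 (Nat.two_dvd_ne_zero.1 fun h =>
      S.not_dvd_index (h.trans (relIndex_dvd_index_of_le hSK)))
  · rw [thompson_eq_jS] at h
    exact not_le_normalizer hK (core_isPGroup _) h
      (le_normalizer.trans (LocalStructure.le_normalizer_pCoreOf _))

theorem exists_std : ∃ K, Std (S : Subgroup G) K := by
  obtain ⟨K, L, hK, hL, hSL, hKL⟩ := c.exists_local_comp
  exact ⟨K, c.std hK (hSL.trans (c.rigid hK hL ((SfFree.jS_le _).trans hSL) hKL))⟩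

/-- Every component is normalized by `S`. -/
theorem sylow_le_normalizer {K : Subgroup G} (hK : Cfsg.IsJComponent (S : Subgroup G) K) :
    (S : Subgroup G) ≤ normalizer (K : Set G) := by
  have : Fact (Nat.Prime 2) := ⟨Nat.prime_two⟩
  by_cases hE : eFix (S : Subgroup G) K = ⊥
  swap
  · obtain ⟨e, he, he1⟩ := Offender.exists_ne_one_of_ne_bot hE
    obtain ⟨L, hL, hJ, hKL, -, hC⟩ := local_of_fix he he he1
    exact fun s hs => c.rigid hK hL hJ hKL
      (hC (mem_centralizer_singleton_iff.2 (c.sylow_commute he.1 hs).eq))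
  have h2 : Nat.card (zJ (S : Subgroup G)) = 2 := by rw [card_zJ S.2 hK, hE, card_bot]
  obtain ⟨z, hz, hz1⟩ := c.exists_z
  have hzJ := omega_le_zJ (S : Subgroup G) hz
  have honly : ∀ v ∈ zJ (S : Subgroup G), v = 1 ∨ v = z := by
    intro v hv
    by_contra! h
    have h3 : ({1, z, v} : Set G).ncard ≤ (zJ (S : Subgroup G) : Set G).ncard :=
      Set.ncard_le_ncard (by
        rintro _ (rfl | rfl | rfl)
        exacts [one_mem _, hzJ, hv]) (Set.toFinite _)
    rw [Set.ncard_eq_three.2 ⟨1, z, v, hz1.symm, h.1.symm, h.2.symm, rfl⟩,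
      show (zJ (S : Subgroup G) : Set G).ncard = 2 from (Nat.card_coe_set_eq _).symm.trans h2] at h3
    omega
  have hNJ : normalizer (jS (S : Subgroup G) : Set G) ≤ normalizer ((S : Subgroup G) : Set G) := by
    refine fun n hn => c.hyp.cZ S (mem_centralizer_iff.2 fun v hv => ?_)
    rcases honly v (omega_le_zJ _ hv) with rfl | rfl
    · rw [one_mul, mul_one]
    · refine (mul_inv_eq_iff_eq_mul.1 ?_).symm
      exact (honly _ ((mem_normalizer_iff.1 (normalizer_le_omegaCenter _ hn) _).1 hzJ)).resolve_left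
        (fun e => hz1 (by simpa using e))
  by_contra hSK
  set R := (S : Subgroup G) ⊓ normalizer (K : Set G) with hR
  have hR2 : IsPGroup 2 R := S.2.to_le inf_le_left
  have hJR : jS (S : Subgroup G) ≤ R := le_inf (SfFree.jS_le _) (jS_le_normalizer hK)
  have hjR : jS R = jS (S : Subgroup G) := jS_eq_of_sylow hR2 hJR
  have hRsyl : Cfsg.IsSylowTwoIn R (normalizer (K : Set G)) := by
    obtain ⟨S₀, hS₀⟩ := exists_sylow_containing hR2 (inf_le_right : R ≤ normalizer (K : Set G))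
    have hJ₀ := jS_eq_of_sylow (S := S) (S₀.2.map (normalizer (K : Set G)).subtype) (hJR.trans hS₀)
    have hle : (S₀ : Subgroup (normalizer (K : Set G))).map (normalizer (K : Set G)).subtype ≤
        (S : Subgroup G) := le_sylow_of_le_normalizer (S₀.2.map _)
      ((SfFree.le_normalizer_jS _).trans (hJ₀ ▸ hNJ))
    have := isSylowTwoIn_map S₀
    rwa [← le_antisymm hS₀ (le_inf hle (map_subtype_le _))] at this
  obtain ⟨g, ⟨hg, hgN⟩, hgR⟩ := SetLike.exists_of_lt (SfFree.exists_lt_normalizer_inf S.2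
    (lt_of_le_of_ne (inf_le_left : R ≤ (S : Subgroup G)) fun e => hSK (e ▸ inf_le_right)))
  have hgK : g ∉ normalizer (K : Set G) := fun h => hgR ⟨hg, h⟩
  set K' := cj g K with hK'd
  have hK' : Cfsg.IsJComponent (S : Subgroup G) K' :=
    (good_cj (good_full hK) (SfFree.le_normalizer_jS _ hg)).comp
  have hne : K' ≠ K := fun e => hgK (mem_normalizer_iff_map_conj_eq.2 e)
  have hzR : z ∈ Cfsg.omegaCenterOf R :=
    mem_omega (hJR (zJ_le _ hzJ)) (omega_sq hz) fun t ht => omega_commute hz ht.1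
  have hstd : ∀ {C : Subgroup G}, Cfsg.IsJComponent (S : Subgroup G) C →
      Cfsg.IsSylowTwoIn R (normalizer (C : Set G)) → Std R C := fun {C} hC hs => by
    refine ⟨jComp_congr hjR hC, hs.1, c.normalizer_local hC, ⟨hs, fun h => ?_,
      local_charTwo c.hyp (c.normalizer_local hC)⟩, fun L hL hJ hCL => c.rigid hC hL (hjR ▸ hJ) hCL,
      fun h => c.not_le_centralizer hC (h.trans ?_)⟩
    · rw [thompson_eq_jS, hjR] at h
      exact not_le_normalizer hC (core_isPGroup _) h
        (le_normalizer.trans (LocalStructure.le_normalizer_pCoreOf _))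
    · refine centralizer_le fun v hv => ?_
      rcases honly v (omega_le_zJ _ hv) with rfl | rfl
      exacts [one_mem _, hzR]
  have hs1 : Std R K := hstd hK hRsyl
  have hs2 : Std R K' := hstd hK' (by
    have := isSylowTwoIn_cj hRsyl g
    rwa [SfFree.cj_of_mem_normalizer hgN, show cj g (normalizer (K : Set G)) =
      normalizer (K' : Set G) from Subgroup.map_equiv_normalizer_eq K (MulAut.conj g)] at this)
  have hbot : Cfsg.pCoreOf 2 ((K ⊔ R) ⊔ (K' ⊔ R)) = ⊥ := by
    by_contra hb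
    obtain ⟨L, hL, hJ, h1, h2'⟩ := share_of_core hb
    exact hne (c.share_eq hK hK' ⟨L, hL, hjR ▸ hJ, h1, h2'⟩ h2)
  obtain ⟨hpara, -, -⟩ := hs1.para c.hyp
  obtain ⟨-, h16, hA2, hRA⟩ := hs1.pair c.hyp hs2 hbot
  have hAea := hs1.core_ea c.hyp hs2 hbot
  have hAc := hs1.charp c.hyp
  set A := Cfsg.pCoreOf 2 (K ⊔ R) with hA
  have hAR : A ≤ R := S4Amal.core_le_sylow le_sup_right hR2 (by rw [hpara.three]; norm_num)
  have hRN : R ≤ normalizer (A : Set G) :=
    le_sup_right.trans (LocalStructure.le_normalizer_pCoreOf _)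
  have hΩ : Nat.card (Cfsg.omegaCenterOf R) = 2 := by
    refine le_antisymm ?_ (Finite.one_lt_card_iff_nontrivial.2 ((Subgroup.nontrivial_iff_ne_bot _).2
      fun e => hz1 (by rw [e, Subgroup.mem_bot] at hzR; exact hzR)))
    rw [← h2]
    refine SfFree.card_le_card_of_le ((omega_le_zJ R).trans (le_of_eq ?_))
    show Cfsg.omegaCenterOf (jS R) = Cfsg.omegaCenterOf (jS (S : Subgroup G))
    rw [hjR]
  have hA4 : Nat.card A = 4 := by omega
  have hnc : ¬ R ≤ centralizer (A : Set G) := fun h => by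
    have := hpara.core
    rw [relIndex_eq_one.2 (h.trans hAc)] at this
    norm_num at this
  set A' := cj g A with hA'd
  have hA'R : A' ≤ R := (SfFree.cj_mono hAR).trans (SfFree.cj_of_mem_normalizer hgN).le
  have hA'ne : ¬ A' ≤ A := fun hle => by
    have hgA : g ∈ normalizer (A : Set G) :=
      mem_normalizer_iff_map_conj_eq.2 (eq_of_le_of_card_ge hle (SfFree.card_cj g A).ge)
    have hloc := SfFree.isTwoLocal_normalizer (core_isPGroup (K ⊔ R)) (hs1.core_ne_bot c.hyp)
    exact hgK (c.rigid hK hloc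
      (hJR.trans hRN) (le_sup_left.trans (LocalStructure.le_normalizer_pCoreOf _)) hgA)
  obtain ⟨y, hy, hyA⟩ := SetLike.not_le_iff_exists.1 hA'ne
  obtain ⟨K₁, h₁⟩ := c.exists_std
  set W₁ := Cfsg.wOf K₁ with hW₁
  have hW₁S : W₁ ≤ (S : Subgroup G) := by
    obtain ⟨x, hx, hx0⟩ := exists_not_mem_core h₁.comp.2.2.1
    refine (((wOf_spec h₁.comp.2.2.1 hx hx0).1.trans (omega_le _)).trans
      (S4Amal.le_core_of_normal ((core_le K₁).trans le_sup_left)
        ((sup_le le_normalizer h₁.norm).trans (normalizer_le_core K₁)) (core_isPGroup K₁))).trans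
      (S4Amal.core_le_sylow le_sup_right S.2 (by rw [(h₁.para c.hyp).1.three]; norm_num))
  have hW₁ea : Cfsg.IsElementaryAbelian 2 W₁ := by
    obtain ⟨x, hx, hx0⟩ := exists_not_mem_core h₁.comp.2.2.1
    exact (wOf_spec h₁.comp.2.2.1 hx hx0).2.1
  obtain ⟨P, hP⟩ := SfFree.exists_mem (S : Subgroup G)
  have hP4 : Nat.card P ≤ 4 := by
    have h := SfFree.two_mul_card_le ((SfFree.le_jS hP).trans hJR) fun hRP => hnc
      ((hRP.trans (Thompson.ea_iff.1 hP.2.1).1).trans (centralizer_le (hAR.trans hRP)))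
    omega
  have hW₁4 : Nat.card W₁ = 4 := h₁.comp.2.2.2.2.1
  have hWR : W₁ ≤ R := (SfFree.le_jS ⟨hW₁S, hW₁ea, fun B hB hBe =>
    (hP.2.2 B hB hBe).trans (hP4.trans hW₁4.ge)⟩).trans hJR
  have hgW : cj g W₁ = W₁ := SfFree.cj_of_mem_normalizer (normalizer_le_wOf K₁ (h₁.norm hg))
  have hA'ea : Cfsg.IsElementaryAbelian 2 A' := SfFree.ea_cj hAea
  have hyc : y ∉ centralizer (A : Set G) := fun h => hyA (hAc h)
  have dich := fun {X : Subgroup G} (hX : Cfsg.IsElementaryAbelian 2 X) (hXR : X ≤ R)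
      (hc : Nat.card A ≤ Nat.card X) =>
    ea_dichotomy hAea hRN hpara.core (hA'R hy) (SfFree.ea_sq hA'ea hy) hyc hX hXR hc
  rcases dich hW₁ea hWR (hA4.le.trans hW₁4.ge) with h | h
  · have e : W₁ = A := eq_of_le_of_card_ge h (hA4.le.trans hW₁4.ge)
    exact hA'ne (by rw [hA'd, ← e, hgW])
  · have e : A' = W₁ :=
      ((dich hA'ea hA'R (SfFree.card_cj g A).ge).resolve_left hA'ne).trans h.symm
    refine hA'ne (le_of_eq ?_)
    refine map_injective (f := (MulAut.conj g).toMonoidHom) (MulAut.conj g).injective ?_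
    show cj g A' = A'
    rw [e, hgW]

theorem exists_pair : ∃ K K', Std (S : Subgroup G) K ∧ Std (S : Subgroup G) K' ∧ K ≠ K' ∧
    Cfsg.pCoreOf 2 ((K ⊔ (S : Subgroup G)) ⊔ (K' ⊔ (S : Subgroup G))) = ⊥ := by
  obtain ⟨K, K', hK, hK', hns, hne⟩ := c.exists_pair_comp
  refine ⟨K, K', c.std hK (c.sylow_le_normalizer hK), c.std hK' (c.sylow_le_normalizer hK'), hne, ?_⟩
  by_contra h
  exact hns (share_of_core h)

end TCtx

end Cfsg.Agent.ZNComp
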