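import Cfsg.Agent.ZNComp.Four
import Cfsg.Agent.Thompson.Offender.Action
import Cfsg.Agent.Fusion.SolvablePSolvable
import Cfsg.Agent.LocalStructure.CharP

/-!
# A solvable group of characteristic 2 with `C(Ω₁Z(S)) ≤ N(S)`

`V` is the join of the `Ω₁(Z(S))`, `cV` its centralizer and `rep` the action on `V`.
-/

set_option autoImplicit false

namespace Cfsg.Agent.ZNComp

open Subgroup
open scoped commutatorElement
open SfFree (cj Mem jS)

/-- The hypotheses on a local subgroup. -/
structure Loc (L : Type*) [Group L] : Prop where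
  solv : Group.IsSolvable L
  cQ : centralizer (Cfsg.pCore 2 L : Set L) ≤ Cfsg.pCore 2 L
  cZ : ∀ S : Sylow 2 L,
    centralizer (Cfsg.omegaCenterOf (S : Subgroup L) : Set L) ≤ normalizer ((S : Subgroup L) : Set L)

/-- The join of the `Ω₁(Z(S))`. -/
abbrev vSub (L : Type*) [Group L] : Subgroup L :=
  ⨆ S : Sylow 2 L, Cfsg.omegaCenterOf (S : Subgroup L)

instance vSub_normal (L : Type*) [Group L] [Finite L] : (vSub L).Normal := by
  have : Fact (Nat.Prime 2) := ⟨Nat.prime_two⟩
  have : (vSub L).Characteristic := Offender.omegaClosure_characteristic (p := 2) L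
  infer_instance

/-- The centralizer of `V`. -/
abbrev cV (L : Type*) [Group L] : Subgroup L := centralizer (vSub L : Set L)

/-- The action on `V`. -/
abbrev rep (L : Type*) [Group L] [Finite L] : L →* Offender.Hol (vSub L) := Offender.act (vSub L)

/-- `J` of the whole group. -/
abbrev jT (L : Type*) [Group L] : Subgroup L := Cfsg.thompsonSubgroupOf 2 (⊤ : Subgroup L)

/-- The image of `J(L)`. -/
abbrev imJ (L : Type*) [Group L] [Finite L] : Subgroup (Offender.Hol (vSub L)) := (jT L).map (rep L)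

/-- `V` inside the holomorph. -/
abbrev embV (L : Type*) [Group L] : Subgroup (Offender.Hol (vSub L)) :=
  Offender.emb (vSub L) (vSub L)

variable {L : Type*} [Group L] [Finite L] (h : Loc L)

theorem cj_normalizer_jS {S : Subgroup L} :
    normalizer (S : Set L) ≤ normalizer (jS S : Set L) :=
  normalizer_le_of_map (fun g H => (SfFree.jS_map (ι := (MulAut.conj g).toMonoidHom)
    (MulAut.conj g).injective H).symm) S

theorem isPGroup_mem {R : Subgroup L} (hR : IsPGroup 2 R) :
    ∃ S : Sylow 2 L, R ≤ (S : Subgroup L) := by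
  have : Fact (Nat.Prime 2) := ⟨Nat.prime_two⟩
  exact hR.exists_le_sylow

/-- A member of a Sylow subgroup is a largest elementary abelian subgroup of `L`. -/
theorem mem_max {S : Sylow 2 L} {P : Subgroup L} (hP : Mem (S : Subgroup L) P) :
    P ∈ Cfsg.maxElementaryAbelianSubgroups 2 L := by
  have : Fact (Nat.Prime 2) := ⟨Nat.prime_two⟩
  exact Thompson.maxEA_of_sylow S hP.1 hP.2.1 hP.2.2

theorem jS_le_jT (S : Sylow 2 L) : jS (S : Subgroup L) ≤ jT L :=
  iSup₂_le fun _ hP => Thompson.le_thompsonOf le_top hP.2.1 fun E _ hE => (mem_max hP).2 E hE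

theorem jT_normal : (jT L).Normal := by
  have := Thompson.thompson_characteristic 2 (⊤ : Subgroup L)
  have : (⊤ : Subgroup L).Normal := inferInstance
  exact ConjAct.normal_of_characteristic_of_normal

/-- A 2-group containing `J(S)` has the same `J`. -/
theorem jS_eq_of_le {S : Sylow 2 L} {R : Subgroup L} (hR : IsPGroup 2 R)
    (hle : jS (S : Subgroup L) ≤ R) : jS R = jS (S : Subgroup L) := by
  have : Fact (Nat.Prime 2) := ⟨Nat.prime_two⟩
  obtain ⟨T, hT⟩ := hR.exists_le_sylow
  have h1 : ∀ P, Mem (S : Subgroup L) P → Mem R P := fun P hP =>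
    ⟨(SfFree.le_jS hP).trans hle, hP.2.1, fun B _ hB => (mem_max hP).2 B hB⟩
  obtain ⟨P₀, hP₀⟩ := SfFree.exists_mem (S : Subgroup L)
  have h2 : ∀ P, Mem R P → Mem (T : Subgroup L) P := fun P hP =>
    ⟨hP.1.trans hT, hP.2.1, fun B _ hB => ((mem_max hP₀).2 B hB).trans
      (hP.2.2 P₀ (h1 P₀ hP₀).1 hP₀.2.1)⟩
  have hSR : jS (S : Subgroup L) ≤ jS R := iSup₂_le fun P hP => SfFree.le_jS (h1 P hP)
  have hRT : jS R ≤ jS (T : Subgroup L) := iSup₂_le fun P hP => SfFree.le_jS (h2 P hP)
  obtain ⟨g, hg⟩ := MulAction.exists_smul_eq L S T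
  have hc : Nat.card (jS (T : Subgroup L)) = Nat.card (jS (S : Subgroup L)) := by
    rw [← hg, Sylow.coe_subgroup_smul, Coprime.conj_smul_eq_map,
      SfFree.jS_map (ι := (MulAut.conj g).toMonoidHom) (MulAut.conj g).injective,
      card_map_of_injective (MulAut.conj g).injective]
  exact (eq_of_le_of_card_ge hSR ((SfFree.card_le_card_of_le hRT).trans hc.le)).symm

theorem act_mem_iff {g : L} : rep L g = 1 ↔ g ∈ cV L := by
  show g ∈ (rep L).ker ↔ _
  rw [Offender.act_ker]

theorem cV_normal : (cV L).Normal := by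
  rw [cV, ← Offender.act_ker (V := vSub L)]
  infer_instance

include h

theorem pSolvable_top : Cfsg.IsPSolvable 2 ↥(⊤ : Subgroup L) := by
  have : Fact (Nat.Prime 2) := ⟨Nat.prime_two⟩
  have := h.solv
  exact Fusion.isPSolvable_of_isSolvable _

theorem vSub_ea : Cfsg.IsElementaryAbelian 2 (vSub L) := by
  have : Fact (Nat.Prime 2) := ⟨Nat.prime_two⟩
  exact (S0601.result h.cQ).2.1

theorem vSub_le_core : vSub L ≤ Cfsg.pCore 2 L ⊓ centralizer (Cfsg.pCore 2 L : Set L) := by
  have : Fact (Nat.Prime 2) := ⟨Nat.prime_two⟩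
  refine iSup_le fun S => (Thompson.omegaOne_le 2 _).trans fun x hx => ?_
  have hxc : x ∈ centralizer (Cfsg.pCore 2 L : Set L) :=
    centralizer_le (Core.pCore_le_sylow S) hx.2
  exact ⟨h.cQ hxc, hxc⟩

theorem core_le_cV : Cfsg.pCore 2 L ≤ cV L :=
  Subgroup.le_centralizer_iff.1 ((vSub_le_core h).trans inf_le_right)

theorem cV_le_normalizer (S : Sylow 2 L) : cV L ≤ normalizer ((S : Subgroup L) : Set L) :=
  (centralizer_le (le_iSup (fun S : Sylow 2 L => Cfsg.omegaCenterOf (S : Subgroup L)) S)).trans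
    (h.cZ S)

theorem cV_le_normalizer_jS (S : Sylow 2 L) :
    cV L ≤ normalizer (jS (S : Subgroup L) : Set L) :=
  (cV_le_normalizer h S).trans cj_normalizer_jS

theorem sylow_inf_cV (S : Sylow 2 L) : (S : Subgroup L) ⊓ cV L ≤ Cfsg.pCore 2 L := by
  have : Fact (Nat.Prime 2) := ⟨Nat.prime_two⟩
  have := cV_normal (L := L)
  refine Layer.subnormal_le_pCore ?_ (S.2.to_le inf_le_left)
  refine IsSubnormal.step _ _ inf_le_right (Subgroup.Normal.isSubnormal this) ?_
  exact normal_subgroupOf_of_le_normalizer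
    (Coprime.le_normalizer_inf (cV_le_normalizer h S) le_normalizer)

theorem le_core_of_cV {R : Subgroup L} (hR : IsPGroup 2 R) (hle : R ≤ cV L) :
    R ≤ Cfsg.pCore 2 L := by
  obtain ⟨S, hS⟩ := isPGroup_mem hR
  exact (le_inf hS hle).trans (sylow_inf_cV h S)

theorem commutator_mem {R : Subgroup L} (hR : IsPGroup 2 R) {c r : L} (hc : c ∈ cV L)
    (hr : r ∈ R) : ⁅c, r⁆ ∈ Cfsg.pCore 2 L := by
  obtain ⟨S, hS⟩ := isPGroup_mem hR
  have := cV_normal (L := L)
  refine sylow_inf_cV h S ⟨?_, ?_⟩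
  · rw [commutatorElement_def]
    exact (S : Subgroup L).mul_mem
      ((mem_normalizer_iff.1 (cV_le_normalizer h S hc) r).1 (hS hr)) (inv_mem (hS hr))
  · rw [commutatorElement_def, mul_assoc c, mul_assoc c]
    exact (cV L).mul_mem hc (this.conj_mem _ (inv_mem hc) r)

theorem mem_core_of_sq {c : L} (hc : c ∈ cV L) (h2 : c * c ∈ Cfsg.pCore 2 L) :
    c ∈ Cfsg.pCore 2 L := by
  have : Fact (Nat.Prime 2) := ⟨Nat.prime_two⟩
  obtain ⟨j, hj⟩ := (Core.pCore_isPGroup (p := 2) (G := L)) ⟨c * c, h2⟩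
  have hj' : (c * c) ^ 2 ^ j = 1 := congrArg Subtype.val hj
  rw [← pow_two, ← pow_mul, ← pow_succ'] at hj'
  obtain ⟨k, -, hk⟩ := (Nat.dvd_prime_pow Nat.prime_two).1 (orderOf_dvd_of_pow_eq_one hj')
  have hp : IsPGroup 2 (zpowers c) := IsPGroup.of_card (n := k) (by rw [Nat.card_zpowers, hk])
  exact le_core_of_cV h hp (zpowers_le.2 hc) (mem_zpowers c)

/-- Every 2-group centralizes `cV` modulo `O₂`. -/
theorem le_stab_cV {R : Subgroup L} (hR : IsPGroup 2 R) :
    R ≤ Offender.stab (cV L) (Cfsg.pCore 2 L) := fun r hr =>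
  ⟨by rw [normalizer_eq_top]; exact mem_top _, fun _ hc => commutator_mem h hR hc hr⟩

/-- Commutators with a 2-element centralize `cV` modulo `O₂`. -/
theorem commutator_mem_stab {J : Subgroup L} (hJ : IsPGroup 2 J) {k j : L} (hj : j ∈ J) :
    ⁅k, j⁆ ∈ Offender.stab (cV L) (Cfsg.pCore 2 L) := by
  rw [commutatorElement_def]
  refine mul_mem ?_ (inv_mem (le_stab_cV h hJ hj))
  exact le_stab_cV h (hJ.map (MulAut.conj k).toMonoidHom) ⟨j, hj, rfl⟩

theorem ff : Offender.FF 2 (embV L) (imJ L) := by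
  have : Fact (Nat.Prime 2) := ⟨Nat.prime_two⟩
  refine Offender.ff_of_thompson (pSolvable_top h) le_top (vSub_ea h) ?_
  rw [← MonoidHom.range_eq_map]
  refine Offender.pCore_range_eq_bot _ (Offender.pCore_quotient_eq_bot ?_)
  rw [Offender.act_ker]
  exact (S0601.result h.cQ).2.2

theorem offender {S : Sylow 2 L} {P : Subgroup L} (hP : Mem (S : Subgroup L) P) :
    Cfsg.IsBestOffenderOn 2 (embV L) (P.map (rep L)) := by
  have : Fact (Nat.Prime 2) := ⟨Nat.prime_two⟩
  have hmax := mem_max hP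
  have hoff := S0606.result (vSub L) (vSub_ea h) P hmax
  refine ⟨fun B hB => ?_, ?_, fun a ha => ?_⟩
  · set B₀ := P ⊓ B.comap (rep L) with hB₀
    have hmap : B₀.map (rep L) = B := by
      refine le_antisymm (map_le_iff_le_comap.2 inf_le_right) fun b hb => ?_
      obtain ⟨a, ha, rfl⟩ := hB hb
      exact ⟨a, ⟨ha, hb⟩, rfl⟩
    have hker : B₀ ⊓ cV L = P ⊓ cV L := by
      refine le_antisymm (inf_le_inf_right _ inf_le_left) fun x hx => ⟨⟨hx.1, ?_⟩, hx.2⟩
      show rep L x ∈ B
      rw [act_mem_iff.2 hx.2]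
      exact one_mem _
    have key := hoff.1 B₀ inf_le_left
    rw [← Offender.card_map_act_mul (V := vSub L) B₀,
      ← Offender.card_map_act_mul (V := vSub L) P, hker, hmap] at key
    rw [← hmap, Offender.fix_act, Offender.fix_act, Offender.card_emb inf_le_left,
      Offender.card_emb inf_le_left, hmap]
    refine Nat.le_of_mul_le_mul_right ?_ (Nat.card_pos (α := (P ⊓ cV L : Subgroup L)))
    linarith
  · rw [commutator_eq_bot_iff_le_centralizer.2
      (Thompson.ea_iff.1 (Thompson.ea_map hP.2.1 (rep L))).1]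
    exact bot_le
  · rw [(Thompson.ea_iff.1 (Thompson.ea_map hP.2.1 (rep L))).2 a ha]
    exact one_mem _

/-- `σ(P)` is a product of lines. -/
theorem lines_span {S : Sylow 2 L} {P : Subgroup L} (hP : Mem (S : Subgroup L) P)
    {K : Subgroup (Offender.Hol (vSub L))}
    (hK : ∀ A ≤ P.map (rep L), Offender.IsLine 2 (embV L) (imJ L) A → A ≤ K) :
    P.map (rep L) ≤ K := by
  have : Fact (Nat.Prime 2) := ⟨Nat.prime_two⟩
  obtain ⟨k, B, hB, -, hsup⟩ :=
    (ff h).exists_lines (map_mono ((SfFree.le_jS hP).trans (jS_le_jT S))) (offender h hP)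
  exact hsup.ge.trans (iSup_le fun i => hK _ (hB i).1 (hB i).2)

theorem sq_mem_core {x : Offender.Hol (vSub L)} (hx : x ∈ imJ L) :
    x * x ∈ Offender.core 2 (imJ L) := by
  have : Fact (Nat.Prime 2) := ⟨Nat.prime_two⟩
  have hff := ff h
  set Q := Offender.core 2 (imJ L) with hQ
  have hn : imJ L ≤ normalizer (Q : Set (Offender.Hol (vSub L))) := Offender.FF.le_normalizer_core
  have hcomm : imJ L ≤ Offender.stab (imJ L) Q := by
    refine hff.le_of_lines fun A hA a ha => ⟨hn (hA.le ha), fun v hv => ?_⟩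
    have hAQ : A ≤ normalizer (Q : Set (Offender.Hol (vSub L))) := hA.le.trans hn
    have h1 : imJ L ≤ Offender.stab A Q := by
      refine hff.le_of_lines fun B hB => Offender.le_stab_iff.2 ⟨hB.le.trans hn, ?_⟩
      rw [commutator_le]
      intro s hs t ht
      rcases hA.mem_or_centralizes hff hB with hle | hc
      · exact Offender.IsLine.commutator_core_le hA.le
          (hA.commutator_mem hff (mem_sup_right hs) (hle ht))
      · rw [commutatorElement_eq_one_iff_commute.2
          (mem_centralizer_iff.1 (hc.1 ht) s (mem_sup_right hs))]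
        exact one_mem _
    have := (h1 hv).2 a ha
    rw [← commutatorElement_inv] at this
    exact (inv_mem_iff (x := ⁅v, a⁆)).1 this
  let M : Subgroup (Offender.Hol (vSub L)) :=
    { carrier := {x | x ∈ imJ L ∧ x * x ∈ Q}
      one_mem' := ⟨one_mem _, by simp [one_mem]⟩
      mul_mem' := by
        rintro a b ⟨ha, ha'⟩ ⟨hb, hb'⟩
        refine ⟨mul_mem ha hb, ?_⟩
        rw [show a * b * (a * b) = a * ⁅b, a⁆ * a⁻¹ * (a * a) * (b * b) by
          simp only [commutatorElement_def]; group]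
        exact mul_mem (mul_mem ((mem_normalizer_iff.1 (hn ha) _).1 ((hcomm ha).2 b hb)) ha') hb'
      inv_mem' := by
        rintro a ⟨ha, ha'⟩
        refine ⟨inv_mem ha, ?_⟩
        rw [← mul_inv_rev]
        exact inv_mem ha' }
  exact (hff.le_of_lines (K := M) (fun A hA a ha => ⟨hA.le ha, by
    rw [← pow_two, (Thompson.ea_iff.1 hA.ea).2 a ha]; exact one_mem _⟩) hx).2

/-- Odd elements of `J(L)` map into the core. -/
theorem map_mem_core {x : L} (hx : x ∈ jT L) (ho : Odd (orderOf x)) :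
    rep L x ∈ Offender.core 2 (imJ L) := by
  have h1 : rep L x ^ 2 ∈ Offender.core 2 (imJ L) := by
    rw [pow_two]; exact sq_mem_core h (mem_map_of_mem _ hx)
  refine zpowers_le.2 h1 (SfFree.self_mem_zpowers_pow ?_)
  exact (Nat.coprime_two_left.2 ho).coprime_dvd_right (orderOf_map_dvd _ _)

/-- The lines of one 2-group commute. -/
theorem line_eq_or_centralizes {R A B : Subgroup (Offender.Hol (vSub L))} (hR : IsPGroup 2 R)
    (hA : Offender.IsLine 2 (embV L) (imJ L) A) (hB : Offender.IsLine 2 (embV L) (imJ L) B)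
    (hAR : A ≤ R) (hBR : B ≤ R) :
    B = A ∨ B ≤ centralizer (Offender.blk 2 (imJ L) A : Set (Offender.Hol (vSub L))) := by
  have : Fact (Nat.Prime 2) := ⟨Nat.prime_two⟩
  rcases hA.mem_or_centralizes (ff h) hB with hle | hc
  · left
    have hAB : A ⊔ B ≤ Offender.blk 2 (imJ L) A := sup_le le_sup_right hle
    have h6 : Nat.card (Offender.blk 2 (imJ L) A : Subgroup _) ∣ 6 := by
      have e := S0606.card_sup_mul_card_inf_of_le_normalizer
        (normalizer_commutator_ge_right (Offender.core 2 (imJ L)) A)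
      rw [hA.card_eq, hA.card_commutator_core (ff h), sup_comm] at e
      exact Dvd.intro _ e
    obtain ⟨k, hk⟩ := IsPGroup.iff_card.1 (hR.to_le (sup_le hAR hBR))
    have hd : 2 ^ k ∣ 6 := hk ▸ (card_dvd_of_le hAB).trans h6
    have h1 : 2 ^ k ≤ 2 := by
      rcases k with _ | _ | k
      · norm_num
      · norm_num
      · exfalso
        have : (4 : ℕ) ∣ 6 := (Dvd.intro (2 ^ k) (by ring)).trans hd
        norm_num at this
    have e1 : A = A ⊔ B := eq_of_le_of_card_ge le_sup_left (by rw [hk, hA.card_eq]; exact h1)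
    exact eq_of_le_of_card_ge (le_sup_right.trans e1.ge) (by rw [hA.card_eq, hB.card_eq])
  · exact Or.inr hc.1

/-- A line inverts its part of the core, of order 3. -/
theorem line_inverts {A : Subgroup (Offender.Hol (vSub L))}
    (hA : Offender.IsLine 2 (embV L) (imJ L) A) :
    Nat.card (⁅Offender.core 2 (imJ L), A⁆ : Subgroup _) = 3 ∧
      ∀ a ∈ A, a ≠ 1 → ∀ r ∈ ⁅Offender.core 2 (imJ L), A⁆, a * r * a⁻¹ = r⁻¹ := by
  have : Fact (Nat.Prime 2) := ⟨Nat.prime_two⟩
  have hff := ff h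
  set R := ⁅Offender.core 2 (imJ L), A⁆ with hR
  have h3 : Nat.card R = 3 := hA.card_commutator_core hff
  refine ⟨h3, fun a ha ha1 r hr => ?_⟩
  have hAR : A ≤ normalizer (R : Set (Offender.Hol (vSub L))) :=
    normalizer_commutator_ge_right _ _
  have hA2 : a * a = 1 := by
    rw [← pow_two]; exact (Thompson.ea_iff.1 hA.ea).2 a ha
  have hzA : zpowers a = A := Offender.zpowers_eq_of_card hA.card_eq ha ha1
  have : Fact (Nat.Prime 3) := ⟨Nat.prime_three⟩
  by_cases hr1 : r = 1
  · simp [hr1]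
  have hz : zpowers r = R := Offender.zpowers_eq_of_card h3 hr hr1
  have hmem : a * r * a⁻¹ ∈ zpowers r := hz ▸ (mem_normalizer_iff.1 (hAR ha) r).1 hr
  have ho : orderOf r = 3 := by rw [← Nat.card_zpowers, hz, h3]
  obtain ⟨i, hi⟩ := mem_zpowers_iff.1 hmem
  have hi' : a * r * a⁻¹ = r ^ (i % (orderOf r : ℤ)) := by rw [zpow_mod_orderOf, hi]
  rw [ho] at hi'
  have h0 : i % (3 : ℤ) = 0 ∨ i % (3 : ℤ) = 1 ∨ i % (3 : ℤ) = 2 := by omega
  rcases h0 with e | e | e <;> rw [show ((3 : ℕ) : ℤ) = 3 from rfl, e] at hi'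
  · rw [zpow_zero] at hi'
    exact absurd (conj_eq_one_iff.1 hi') hr1
  · exfalso
    rw [zpow_one] at hi'
    have hcA : A ≤ centralizer (R : Set (Offender.Hol (vSub L))) := by
      rw [← hzA, zpowers_le, mem_centralizer_iff]
      intro y hy
      have hy' : y ∈ zpowers r := hz.symm ▸ hy
      obtain ⟨n, rfl⟩ := mem_zpowers_iff.1 hy'
      exact ((show Commute a r from mul_inv_eq_iff_eq_mul.1 hi').zpow_right n).eq.symm
    have e2 : ⁅R, A⁆ = R := by
      refine Coprime.commutator_commutator_eq (hA.le.trans Offender.FF.le_normalizer_core) ?_ ?_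
      · rw [hA.card_eq]
        exact (Offender.FF.coprime_core (H := imJ L) (p := 2)).symm
      · exact Or.inl (Layer.isSolvable_of_isPGroup (Thompson.ea_isPGroup hA.ea))
    rw [commutator_eq_bot_iff_le_centralizer.2 (Subgroup.le_centralizer_iff.1 hcA)] at e2
    rw [← e2, card_bot] at h3
    norm_num at h3
  · rw [hi']
    refine eq_inv_of_mul_eq_one_left ?_
    rw [show (2 : ℤ) = ((2 : ℕ) : ℤ) from rfl, zpow_natCast, ← pow_succ]
    have := pow_orderOf_eq_one r
    rw [ho] at this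
    exact this

end Cfsg.Agent.ZNComp
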