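import Cfsg.Agent.ZNComp.Std

/-!
# The structure when the maximal straddling group is not Sylow
-/

set_option autoImplicit false

namespace Cfsg.Agent.ZNComp

open Subgroup
open scoped commutatorElement
open SfFree (cj Mem jS)

variable {G : Type*} [Group G] [Finite G]

theorem omegaCenter_jS_eq (T : Subgroup G) :
    Cfsg.omegaCenterOf (Cfsg.thompsonSubgroupOf 2 T) = zJ T := by rw [thompson_eq_jS]

namespace PCtx

variable {S : Sylow 2 G} {M T : Subgroup G} (c : PCtx S M T)
include c

theorem le_normalizer_of_local {K L : Subgroup G} (hK : Out M T K) (hL : Cfsg.IsTwoLocal L)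
    (hTL : T ≤ L) (hKL : K ≤ L) : T ≤ normalizer (K : Set G) :=
  hTL.trans (c.rigid hK hL ((SfFree.jS_le T).trans hTL) hKL)

theorem normalizer_local {K : Subgroup G} (hK : Out M T K) :
    Cfsg.IsTwoLocal (normalizer (K : Set G)) := by
  rw [normalizer_eq c.hyp c.two (c.good hK).mem_zero]
  exact IsJComponent.isTwoLocal hK.comp

theorem mem_omega_T {z : G} (hz : z ∈ Cfsg.omegaCenterOf (S : Subgroup G)) :
    z ∈ Cfsg.omegaCenterOf T :=
  mem_omega (c.omega_sylow_le hz) (omega_sq hz) fun _ ht => omega_commute hz (c.le ht)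

theorem std {K : Subgroup G} (hK : Out M T K) (hTK : T ≤ normalizer (K : Set G)) : Std T K where
  comp := hK.comp
  norm := hTK
  isLocal := c.normalizer_local hK
  jover := (of_le c.hyp c.hMJ c.max (c.normalizer_local hK)
    (fun h => hK.out (le_normalizer.trans h)) hTK).1
  rigid := fun _ hL hJ hKL => c.rigid hK hL hJ hKL
  active := fun h => by
    obtain ⟨z, hz, hz1⟩ := c.exists_z
    exact c.not_le_centralizer hK.comp hz hz1 (h.trans (centralizer_le (by
      rintro _ rfl
      exact c.mem_omega_T hz)))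

theorem exists_std : ∃ K, Out M T K ∧ Std T K := by
  obtain ⟨K, L, hK, hL, hTL, hKL⟩ := c.exists_out
  exact ⟨K, hK, c.std hK (c.le_normalizer_of_local hK hL hTL hKL)⟩

theorem omega_eq : Cfsg.omegaCenterOf T = zJ T := by
  obtain ⟨K, hK, h⟩ := c.exists_std
  refine le_antisymm (omega_le_zJ T) fun x hx => ?_
  exact mem_omega (SfFree.jS_le T (zJ_le T hx)) (zJ_sq hx) fun t ht =>
    c.zJ_central hK h.norm x hx t ht

theorem exists_pair : ∃ K K', Std T K ∧ Std T K' ∧ K ≠ K' ∧
    Cfsg.pCoreOf 2 ((K ⊔ T) ⊔ (K' ⊔ T)) = ⊥ ∧ Out M T K := by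
  obtain ⟨K, hK, h⟩ := c.exists_std
  obtain ⟨g, hg, hgN, hgT, -⟩ := c.exists_outer
  have hK' := c.out_cj hK hg hgN
  have hne : K ≠ cj g K := fun e => hK.out (le_normalizer.trans
    (c.le_of_outer hg hgT h.isLocal h.norm (mem_normalizer_iff_map_conj_eq.2 e.symm)))
  have hTK' : T ≤ normalizer (cj g K : Set G) := by
    rw [← Subgroup.map_equiv_normalizer_eq K (MulAut.conj g)]
    conv_lhs => rw [← SfFree.cj_of_mem_normalizer hgN]
    exact map_mono h.norm
  refine ⟨K, cj g K, h, c.std hK' hTK', hne, ?_, hK⟩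
  by_contra hb
  have hle := LocalStructure.le_normalizer_pCoreOf (p := 2) ((K ⊔ T) ⊔ (cj g K ⊔ T))
  exact hne (c.co_eq hK hK'.comp (SfFree.isTwoLocal_normalizer (core_isPGroup _) hb)
    ((SfFree.jS_le T).trans ((le_sup_right.trans le_sup_left).trans hle))
    ((le_sup_left.trans le_sup_left).trans hle) ((le_sup_left.trans le_sup_right).trans hle)).symm

theorem card_zJ_cases : Nat.card (zJ T) = 2 ∨ Nat.card (zJ T) = 4 := by
  obtain ⟨K, hK, -⟩ := c.exists_std
  have h := card_zJ c.two hK.comp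
  have := c.card_zJ_le
  have := Nat.card_pos (α := eFix T K)
  omega

theorem omega_sylow_eq (h2 : Nat.card (zJ T) = 2) :
    Cfsg.omegaCenterOf (S : Subgroup G) = zJ T := by
  obtain ⟨z, hz, hz1⟩ := c.exists_z
  refine eq_of_le_of_card_ge c.omega_sylow_le_zJ ?_
  rw [h2]
  exact Finite.one_lt_card_iff_nontrivial.2 ((Subgroup.nontrivial_iff_ne_bot _).2 fun e =>
    hz1 (by rw [e, Subgroup.mem_bot] at hz; exact hz))

/-- The normalizer of a fours group `Ω₁(Z(J))`. -/
theorem relIndex_eq_two {K : Subgroup G} (hK : Out M T K) (hTK : T ≤ normalizer (K : Set G))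
    (h4 : Nat.card (zJ T) = 4) :
    (normalizer (K : Set G) ⊓ centralizer (zJ T : Set G)).relIndex
      (normalizer (zJ T : Set G)) = 2 := by
  have : Fact (Nat.Prime 2) := ⟨Nat.prime_two⟩
  obtain ⟨g, hg, hgN, hgT, -⟩ := c.exists_outer
  obtain ⟨z, hz, hz1⟩ := c.exists_z
  obtain ⟨e, he, he1⟩ : ∃ e ∈ eFix T K, e ≠ 1 := by
    refine Offender.exists_ne_one_of_ne_bot fun e0 => ?_
    have := card_zJ c.two hK.comp
    rw [e0, card_bot] at this
    omega
  have hlines := c.lines hK he he1 hz hz1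
  obtain ⟨L, hL, hJ, hKL, -, hC⟩ := local_of_fix he he he1
  have hCN : centralizer (zJ T : Set G) ≤ normalizer (K : Set G) := by
    refine le_trans ?_ (c.rigid hK hL hJ hKL)
    exact (centralizer_le (by rintro _ rfl; exact he.1)).trans hC
  rw [inf_eq_right.2 hCN]
  set C := centralizer (zJ T : Set G)
  have hgz : Commute g z := omega_commute hz hg
  have hgZ : g ∈ normalizer (zJ T : Set G) := normalizer_le_omegaCenter _ (c.jS_normalizer hgN)
  have hzJz : z ∈ zJ T := c.omega_sylow_le_zJ hz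
  have hge : g * e * g⁻¹ = e * z := by
    rcases hlines _ ((mem_normalizer_iff.1 hgZ e).1 he.1) with h | h | h | h
    · exact absurd (by simpa using h) he1
    · exfalso
      refine hK.out (hKL.trans (c.le_of_outer hg hgT hL (fun t ht => hC ?_) (hC ?_)))
      · exact mem_centralizer_singleton_iff.2 (c.zJ_central hK hTK e he.1 t ht).eq
      · exact mem_centralizer_singleton_iff.2 (mul_inv_eq_iff_eq_mul.1 h)
    · exfalso
      refine c.not_mem_eFix hK hz hz1 ?_
      have : e = z := by
        calc e = g⁻¹ * (g * e * g⁻¹) * g := by group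
          _ = g⁻¹ * (z * g) := by rw [h, mul_assoc]
          _ = z := by rw [← hgz.eq, inv_mul_cancel_left]
      exact this ▸ he
    · exact h
  have hK2 := c.out_cj hK hg hgN
  have he2 : e * z ∈ eFix T (cj g K) := by
    rw [← hge]
    refine ⟨(mem_normalizer_iff.1 hgZ e).1 he.1, mem_centralizer_iff.2 fun k hk => ?_⟩
    obtain ⟨k, hk', rfl⟩ := hk
    show (MulAut.conj g) k * (MulAut.conj g) e = (MulAut.conj g) e * (MulAut.conj g) k
    rw [← map_mul, ← map_mul, mem_centralizer_iff.1 he.2 k hk']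
  have hfix : ∀ y ∈ normalizer (zJ T : Set G), y * z * y⁻¹ = z := by
    intro y hy
    have hv1 : y * z * y⁻¹ ≠ 1 := fun h => hz1 (by simpa using h)
    rcases (show y * z * y⁻¹ = z ∨ ∃ A, Out M T A ∧ y * z * y⁻¹ ∈ eFix T A by
      rcases hlines _ ((mem_normalizer_iff.1 hy z).1 hzJz) with h | h | h | h
      · exact absurd h hv1
      · exact Or.inr ⟨K, hK, h ▸ he⟩
      · exact Or.inl h
      · exact Or.inr ⟨_, hK2, h ▸ he2⟩) with h | ⟨A, hA, h⟩
    · exact h
    exfalso
    obtain ⟨L', hL', hJ', hAL', -, hC'⟩ := local_of_fix h h hv1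
    have hSL : cj y (S : Subgroup G) ≤ L' := by
      rintro _ ⟨s, hs, rfl⟩
      refine hC' (mem_centralizer_singleton_iff.2 ?_)
      show (MulAut.conj y) s * (MulAut.conj y) z = (MulAut.conj y) z * (MulAut.conj y) s
      rw [← map_mul, ← map_mul, (omega_commute hz hs).eq]
    obtain ⟨S₀, hS₀⟩ := exists_sylow_containing (c.two.to_le (SfFree.jS_le T)) hJ'
    have h1 := (sylow_facts c.hyp c.hMJ c.max hL' (fun h' => hA.out (hAL'.trans h'))
      (isSylowTwoIn_map S₀) hS₀).2.2.2
    have h2 := card_le_of_isSylowTwoIn (isSylowTwoIn_map S₀) (S.2.map _) hSL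
    rw [SfFree.card_cj] at h2
    exact c.ne (eq_of_le_of_card_ge c.le (h2.trans h1))
  have hgC : g ∉ C := fun h => he1 <| by
    have h1 : g * e * g⁻¹ = e := by rw [← mem_centralizer_iff.1 h e he.1, mul_inv_cancel_right]
    rw [hge] at h1
    exact absurd (mul_eq_left.1 h1) hz1
  refine le_antisymm (S4Amal.relIndex_le_two hgZ fun y hy => ?_) ?_
  · have hcen : ∀ r ∈ normalizer (zJ T : Set G), r * e * r⁻¹ = e → r ∈ C := by
      intro r hr h1
      refine mem_centralizer_iff.2 fun v hv => ?_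
      have c1 : Commute r e := mul_inv_eq_iff_eq_mul.1 h1
      have c2 : Commute r z := mul_inv_eq_iff_eq_mul.1 (hfix r hr)
      rcases hlines v hv with rfl | rfl | rfl | rfl
      exacts [(Commute.one_left r).eq, c1.eq.symm, c2.eq.symm, (c1.mul_right c2).eq.symm]
    rcases hlines _ ((mem_normalizer_iff.1 hy e).1 he.1) with h | h | h | h
    · exact absurd (by simpa using h) he1
    · exact Or.inl (hcen y hy h)
    · exfalso
      refine c.not_mem_eFix hK hz hz1 ?_
      have : e = z := by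
        calc e = y⁻¹ * (y * e * y⁻¹) * y := by group
          _ = y⁻¹ * ((y * z * y⁻¹) * y) := by rw [h, hfix y hy, mul_assoc]
          _ = z := by group
      exact this ▸ he
    · refine Or.inr (hcen _ (mul_mem hy hgZ) ?_)
      calc y * g * e * (y * g)⁻¹ = y * (g * e * g⁻¹) * y⁻¹ := by group
        _ = (y * e * y⁻¹) * (y * z * y⁻¹) := by rw [hge]; group
        _ = e := by rw [h, hfix y hy, mul_assoc, zJ_sq hzJz, mul_one]
  · have h1 : C.relIndex (normalizer (zJ T : Set G)) ≠ 1 := fun h =>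
      hgC (relIndex_eq_one.1 h hgZ)
    have h0 : C.relIndex (normalizer (zJ T : Set G)) ≠ 0 := Nat.card_pos.ne'
    omega

end PCtx

end Cfsg.Agent.ZNComp
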