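import Cfsg.Agent.ZNComp.Family
import Cfsg.Agent.ZNComp.ProperStd
import Cfsg.Agent.S2947
import Cfsg.Agent.Invol.SEPairs

/-!
# Not all components share a 2-local subgroup
-/

set_option autoImplicit false

namespace Cfsg.Agent.ZNComp

open Subgroup
open scoped commutatorElement
open SfFree (cj Mem jS)

variable {G : Type*} [Group G] [Finite G]

theorem exists_max_straddling {M : Subgroup G}
    (h : (Cfsg.straddlingTwoSubgroups M).Nonempty) :
    (Cfsg.maxStraddlingTwoSubgroups M).Nonempty := by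
  obtain ⟨T1, hT1, hmax1⟩ := Set.exists_max_image (Cfsg.straddlingTwoSubgroups M)
    Cfsg.maxElemAbelianOrder (Set.toFinite _) h
  obtain ⟨T2, hT2, hmax2⟩ := Set.exists_max_image {T | T ∈ Cfsg.straddlingTwoSubgroups M ∧
    Cfsg.maxElemAbelianOrder T = Cfsg.maxElemAbelianOrder T1}
    (fun T => Nat.card (Cfsg.thompsonSubgroupOf 2 T)) (Set.toFinite _) ⟨T1, hT1, rfl⟩
  obtain ⟨T3, hT3, hmax3⟩ := Set.exists_max_image {T | T ∈ Cfsg.straddlingTwoSubgroups M ∧
    Cfsg.maxElemAbelianOrder T = Cfsg.maxElemAbelianOrder T1 ∧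
    Nat.card (Cfsg.thompsonSubgroupOf 2 T) = Nat.card (Cfsg.thompsonSubgroupOf 2 T2)}
    (fun T => Nat.card T) (Set.toFinite _) ⟨T2, hT2.1, hT2.2, rfl⟩
  refine ⟨T3, hT3.1, fun T hT => ⟨hT3.2.1 ▸ hmax1 T hT, fun he => ⟨hT3.2.2 ▸ hmax2 T ⟨hT, ?_⟩,
    fun hj => hmax3 T ⟨hT, ?_, ?_⟩⟩⟩⟩
  · exact he.trans hT3.2.1
  · exact he.trans hT3.2.1
  · exact hj.trans hT3.2.2

theorem cj_max {M T : Subgroup G} (hT : T ∈ Cfsg.maxStraddlingTwoSubgroups M) {m : G} (hm : m ∈ M) :
    cj m T ∈ Cfsg.maxStraddlingTwoSubgroups M := by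
  obtain ⟨⟨h2, h1, hle, L, hL, hTL, hLM⟩, hmax⟩ := hT
  have hM : ∀ {n : G}, n ∈ M → cj n M = M := fun hn =>
    SfFree.cj_of_mem_normalizer (le_normalizer hn)
  have hinj := (MulAut.conj m).injective
  have hJ : Nat.card (Cfsg.thompsonSubgroupOf 2 (cj m T)) =
      Nat.card (Cfsg.thompsonSubgroupOf 2 T) := by
    rw [thompson_eq_jS, thompson_eq_jS, SfFree.cj, SfFree.jS_map hinj, card_map_of_injective hinj]
  have ha : Cfsg.maxElemAbelianOrder (cj m T) = Cfsg.maxElemAbelianOrder T := by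
    obtain ⟨P, hP⟩ := SfFree.exists_mem T
    have hP' : Mem (cj m T) (cj m P) := ⟨SfFree.cj_mono hP.1, SfFree.ea_cj hP.2.1,
      fun B hB hBe => by
        rw [SfFree.card_cj, ← SfFree.card_cj m⁻¹ B]
        refine hP.2.2 _ ((SfFree.cj_mono hB).trans (le_of_eq ?_)) (SfFree.ea_cj hBe)
        rw [SfFree.cj_cj, inv_mul_cancel, SfFree.cj_one]⟩
    rw [maxOrder_eq hP, maxOrder_eq hP', SfFree.card_cj]
  refine ⟨⟨h2.map _, fun e => h1 ((map_eq_bot_iff_of_injective _ hinj).1 e),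
    (SfFree.cj_mono hle).trans (hM hm).le, cj m L, isTwoLocal_cj hL m, SfFree.cj_mono hTL,
    fun hle' => hLM ?_⟩, fun R hR => ?_⟩
  · refine le_trans (le_of_eq ?_) ((SfFree.cj_mono (g := m⁻¹) hle').trans (hM (M.inv_mem hm)).le)
    rw [SfFree.cj_cj, inv_mul_cancel, SfFree.cj_one]
  · rw [ha, hJ, SfFree.card_cj]
    exact hmax R hR

/-- A maximal elementary abelian subgroup of a group of order at most 16 with proper centralizer
has order at most 8. -/
theorem card_le_eight {T A P : Subgroup G} (h16 : Nat.card T ≤ 16) (hP : P ≤ T)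
    (hPe : Cfsg.IsElementaryAbelian 2 P) (hA : A ≤ T)
    (hne : ¬ T ≤ centralizer (A : Set G)) : Nat.card P ≤ 8 := by
  have h := SfFree.two_mul_card_le hP fun hTP => hne
    ((hTP.trans (Thompson.ea_iff.1 hPe).1).trans (centralizer_le (hA.trans hTP)))
  omega

namespace FCtx

variable {S : Sylow 2 G} (c : FCtx S)
include c

theorem straddling_nonempty {L' : Subgroup G} (hloc : Cfsg.IsTwoLocal L')
    (hN : normalizer (jS (S : Subgroup G) : Set G) ≤ L')
    (hK : ∀ K, Cfsg.IsJComponent (S : Subgroup G) K → K ≤ L') :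
    (Cfsg.straddlingTwoSubgroups L').Nonempty := by
  have : Fact (Nat.Prime 2) := ⟨Nat.prime_two⟩
  rw [Set.nonempty_iff_ne_empty]
  intro hemp
  have hse : Cfsg.IsStronglyEmbedded L' := (S2947.result c.hyp.char2 c.hyp.solv c.hyp.cZ c.hO S L'
    hloc (by rwa [thompson_eq_jS])).2 hemp
  obtain ⟨K₀, hK₀⟩ := c.exist
  have hSL : (S : Subgroup G) ≤ L' := (SfFree.le_normalizer_jS _).trans hN
  have hne : (S : Subgroup G) ≠ ⊥ := fun e => by
    refine not_le_normalizer hK₀ IsPGroup.of_bot ((SfFree.jS_le _).trans e.le) ?_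
    rw [normalizer_eq_top (⊥ : Subgroup G)]
    exact le_top
  obtain ⟨z, hz, hz1⟩ := Offender.exists_ne_one_of_ne_bot (SfFree.omZ_ne_bot S.2 hne)
  replace hz : z ∈ Cfsg.omegaCenterOf (S : Subgroup G) := hz
  have hz2 : orderOf z = 2 := orderOf_eq_prime (by rw [pow_two]; exact omega_sq hz) hz1
  set C := Cfsg.pCoreOf 2 L' with hC
  have hCS : C ≤ (S : Subgroup G) := S4Amal.core_le_sylow hSL S.2 fun h =>
    S.not_dvd_index (h.trans (relIndex_dvd_index_of_le hSL))
  have hzC : z ∈ C := local_charTwo c.hyp hloc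
    (mem_centralizer_iff.2 fun t ht => (omega_commute hz (hCS ht)).eq)
  have hzO : z ∈ Cfsg.omegaCenterOf C :=
    mem_omega hzC (omega_sq hz) fun t ht => omega_commute hz (hCS ht)
  have hinv : ∀ t ∈ L', orderOf t = 2 → t ∈ C := by
    intro t ht ht2
    obtain ⟨g, rfl⟩ := isConj_iff.1 (Cfsg.Agent.Invol.se_isConj_all hse hz2 ht2)
    have hg : g ∈ L' := by
      have := Cfsg.Agent.Invol.se_mem hse hz2 (hSL (omega_le _ hz)) (g := g⁻¹)
        (by rwa [inv_inv])
      exact inv_mem_iff.1 this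
    refine omega_le _ ((mem_normalizer_iff.1 ?_ z).1 hzO)
    exact normalizer_le_omegaCenter _ (LocalStructure.le_normalizer_pCoreOf L' hg)
  refine not_le_normalizer hK₀ (core_isPGroup L') (iSup₂_le fun P hP a ha => ?_)
    ((hK K₀ hK₀).trans (LocalStructure.le_normalizer_pCoreOf L'))
  by_cases ha1 : a = 1
  · rw [ha1]; exact one_mem _
  exact hinv a (hSL (hP.1 ha))
    (orderOf_eq_prime (by rw [pow_two]; exact SfFree.ea_sq hP.2.1 ha) ha1)

end FCtx

end Cfsg.Agent.ZNComp
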