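import Cfsg.Agent.ZNComp.NoCo

/-!
# The final contradiction for sharing components
-/

set_option autoImplicit false

namespace Cfsg.Agent.ZNComp

open Subgroup
open scoped commutatorElement
open SfFree (cj Mem jS)

variable {G : Type*} [Group G] [Finite G]

/-- The elements of a group of order four. -/
theorem four_elems {W : Subgroup G} (h4 : Nat.card W = 4) {z w : G} (hz : z ∈ W) (hw : w ∈ W)
    (hz1 : z ≠ 1) (hw1 : w ≠ 1) (hne : w ≠ z) (hwz : w * z ≠ 1) :
    ∀ v ∈ W, v = 1 ∨ v = z ∨ v = w ∨ v = w * z := by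
  intro v hv
  by_contra! h
  have h5 : ({1, z, w, w * z, v} : Set G).ncard ≤ (W : Set G).ncard :=
    Set.ncard_le_ncard (by
      rintro _ (rfl | rfl | rfl | rfl | rfl)
      exacts [one_mem _, hz, hw, mul_mem hw hz, hv]) (Set.toFinite _)
  rw [show (W : Set G).ncard = 4 from (Nat.card_coe_set_eq _).symm.trans h4] at h5
  have hn : ({1, z, w, w * z, v} : Set G).ncard = 5 := by
    rw [Set.ncard_insert_of_notMem, Set.ncard_insert_of_notMem, Set.ncard_insert_of_notMem,
      Set.ncard_insert_of_notMem, Set.ncard_singleton]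
    all_goals simp only [Set.mem_insert_iff, Set.mem_singleton_iff, not_or]
    · exact h.2.2.2.symm
    · exact ⟨fun e => hz1 (mul_eq_left.1 e.symm), h.2.2.1.symm⟩
    · exact ⟨hne.symm, fun e => hw1 (mul_eq_right.1 e.symm), h.2.1.symm⟩
    · exact ⟨hz1.symm, hw1.symm, hwz.symm, h.1.symm⟩
  omega

namespace FCtx

variable {S : Sylow 2 G} (c : FCtx S)
include c

theorem false : False := by
  have : Fact (Nat.Prime 2) := ⟨Nat.prime_two⟩
  obtain ⟨L', hloc, hN, hK, hLoc⟩ := c.exists_top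
  obtain ⟨hVn, hVS, hVcen, hTI⟩ := c.vAll_facts hloc hN hK hLoc
  have hSL : (S : Subgroup G) ≤ L' := (SfFree.le_normalizer_jS _).trans hN
  obtain ⟨T'', hT''⟩ := exists_max_straddling (c.straddling_nonempty hloc hN hK)
  obtain ⟨x, hxL, hx⟩ := exists_cj_ge hSL hT''.1.1 hT''.1.2.2.1
  have hmax := cj_max hT'' (L'.inv_mem hxL)
  set T := cj x⁻¹ T'' with hTdef
  have hTS : T ≤ (S : Subgroup G) := (SfFree.cj_mono hx).trans (le_of_eq (by
    rw [SfFree.cj_cj, inv_mul_cancel, SfFree.cj_one]))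
  have hne : T ≠ (S : Subgroup G) := fun e => by
    obtain ⟨L, hL, hTL, hLM⟩ := hmax.1.2.2.2
    exact hLM (hLoc L hL ((SfFree.jS_le _).trans (e ▸ hTL)))
  have p : PCtx S L' T := ⟨c.hyp, hN, hmax, hTS, hne⟩
  obtain ⟨K, K', hs, hs', -, hbot, hKout⟩ := p.exists_pair
  obtain ⟨hpara, -, -⟩ := hs.para c.hyp
  obtain ⟨-, h16, hA2, hTA⟩ := hs.pair c.hyp hs' hbot
  have hAea := hs.core_ea c.hyp hs' hbot
  have hAc := hs.charp c.hyp
  set A := Cfsg.pCoreOf 2 (K ⊔ T)
  have hA8 : Nat.card A ≤ 8 := by omega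
  have hAT : A ≤ T := S4Amal.core_le_sylow le_sup_right hs.two (by rw [hpara.three]; norm_num)
  have hPN : K ⊔ T ≤ normalizer (A : Set G) := LocalStructure.le_normalizer_pCoreOf _
  have hTN : T ≤ normalizer (A : Set G) := le_sup_right.trans hPN
  have hKN : K ≤ normalizer (A : Set G) := le_sup_left.trans hPN
  have hnc : ¬ T ≤ centralizer (A : Set G) := fun h => by
    have := hpara.core
    rw [relIndex_eq_one.2 (h.trans hAc)] at this
    norm_num at this
  have hAlocal : Cfsg.IsTwoLocal (normalizer (A : Set G)) :=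
    SfFree.isTwoLocal_normalizer (core_isPGroup _) (hs.core_ne_bot c.hyp)
  obtain ⟨g, hg, hgN, hgT, -⟩ := p.exists_outer
  have hgA : g ∉ normalizer (A : Set G) := fun h =>
    hKout.out (hKN.trans (p.le_of_outer hg hgT hAlocal hTN h))
  obtain ⟨z, hz, hz1⟩ := p.exists_z
  have hz2 := omega_sq hz
  have hzS : z ∈ (S : Subgroup G) := omega_le _ hz
  have hzA : z ∈ A :=
    hAc (mem_centralizer_iff.2 fun a ha => (omega_commute hz (hTS (hAT ha))).eq)
  set V := vAll (S : Subgroup G) with hV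
  obtain ⟨K₀, hK₀⟩ := c.exist
  have hVea := c.vAll_ea
  have hV4 : 4 ≤ Nat.card V := by
    rw [← hK₀.2.2.2.2.1]
    exact SfFree.card_le_card_of_le (wOf_le_vAll hK₀)
  have hzV : z ∈ V := by
    obtain ⟨v, ⟨hv, hvC⟩, hv1⟩ := Offender.exists_ne_one_of_ne_bot (exists_fixed S.2
      (Thompson.ea_isPGroup hVea) (fun e => wOf_ne_bot hK₀ (le_bot_iff.1 (e ▸ wOf_le_vAll hK₀)))
      (hSL.trans hVn))
    have hvO : v ∈ Cfsg.omegaCenterOf (S : Subgroup G) :=
      mem_omega (hVS hv) (SfFree.ea_sq hVea hv) fun t ht => mem_centralizer_iff.1 hvC t ht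
    exact (p.z_unique hz hz1 hvO).resolve_left hv1 ▸ hv
  have hCz : ∀ y : G, y * z = z * y → y ∈ normalizer ((S : Subgroup G) : Set G) := by
    refine fun y hy => c.hyp.cZ S (mem_centralizer_iff.2 fun v hv => ?_)
    rcases p.z_unique hz hz1 hv with rfl | rfl
    · rw [one_mul, mul_one]
    · exact hy.symm
  -- either `V` is large or `A` centralizes it
  have hcases : 16 ≤ Nat.card V ∨ A ≤ centralizer (V : Set G) := by
    by_cases htwo : ∃ K₁, Cfsg.IsJComponent (S : Subgroup G) K₁ ∧ K₁ ≠ K₀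
    · obtain ⟨K₁, hK₁, hne1⟩ := htwo
      obtain ⟨hdis, hc1, -, -, -⟩ := (c.pair hK₀ hK₁).resolve_left hne1
      have h := SfFree.card_sup_mul (((wOf_le_self K₁).trans hc1).trans
        (centralizer_le_normalizer _))
      rw [hdis, card_bot, mul_one, hK₀.2.2.2.2.1, hK₁.2.2.2.2.1] at h
      exact Or.inl (h.symm.le.trans
        (SfFree.card_le_card_of_le (sup_le (wOf_le_vAll hK₀) (wOf_le_vAll hK₁))))
    push Not at htwo
    refine Or.inr ?_
    have hVW : V = Cfsg.wOf K₀ :=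
      le_antisymm (iSup₂_le fun K₁ h => by rw [htwo K₁ h]) (wOf_le_vAll hK₀)
    have h4 : Nat.card V = 4 := hVW ▸ hK₀.2.2.2.2.1
    by_contra hcon
    obtain ⟨w, hw, hwA⟩ := SetLike.not_le_iff_exists.1 fun h : V ≤ A =>
      hcon ((Thompson.ea_iff.1 hAea).1.trans (centralizer_le h))
    have hw1 : w ≠ 1 := fun e => hwA (e ▸ one_mem _)
    have hwz : w ≠ z := fun e => hwA (e ▸ hzA)
    have hwz1 : w * z ≠ 1 := fun e => hwz (by
      rw [eq_inv_of_mul_eq_one_left e, inv_eq_of_mul_eq_one_left hz2])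
    have hlines := four_elems h4 hzV hw hz1 hw1 hwz hwz1
    have hzw : Commute w z := SfFree.ea_commute hVea hw hzV
    -- conjugates of `w`
    have hmove : ∀ s ∈ (S : Subgroup G), s⁻¹ * w * s = w ∨ s⁻¹ * w * s = w * z := by
      intro s hs'
      have hcs : Commute s z := omega_commute hz hs'
      rcases hlines _ ((mem_normalizer_iff''.1 (hVn (hSL hs')) w).1 hw) with h | h | h | h
      · exact absurd (by simpa [mul_assoc, inv_mul_eq_one] using h) hw1
      · exfalso
        refine hwz ?_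
        calc w = s * (s⁻¹ * w * s) * s⁻¹ := by group
          _ = z := by rw [h, hcs.eq, mul_inv_cancel_right]
      · exact Or.inl h
      · exact Or.inr h
    have hwN : w ∈ normalizer (A : Set G) := by
      refine (S4Amal.mem_normalizer_of_le (s := zpowers w) fun y hy a ha => ?_) (mem_zpowers w)
      have key : w * a * w⁻¹ ∈ A := by
        rw [show w * a * w⁻¹ = a * (a⁻¹ * w * a) * w⁻¹ by group]
        rcases hmove a (hTS (hAT ha)) with h | h
        · rw [h, mul_inv_cancel_right]; exact ha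
        · rw [h, hzw.eq, ← mul_assoc, mul_inv_cancel_right]
          exact mul_mem ha hzA
      obtain ⟨i, rfl⟩ := mem_zpowers_iff.1 hy
      have h2 : w ^ (2 : ℤ) = 1 := by rw [zpow_two]; exact SfFree.ea_sq hVea hw
      rcases Int.even_or_odd' i with ⟨j, rfl | rfl⟩
      · rw [zpow_mul, h2, one_zpow]; simpa using ha
      · rwa [zpow_add, zpow_mul, h2, one_zpow, one_mul, zpow_one]
    have hwT : w ∈ T := by
      by_contra hwT
      exact hKout.out (hKN.trans (p.le_of_outer (hVS hw) hwT hAlocal hTN hwN))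
    have hwc : w ∉ centralizer (A : Set G) := fun h => hwA (hAc h)
    rcases ea_dichotomy hAea hTN hpara.core hwT (SfFree.ea_sq hVea hw) hwc
      (SfFree.ea_cj (g := g) hAea) ((SfFree.cj_mono hAT).trans
        (SfFree.cj_of_mem_normalizer hgN).le) (SfFree.card_cj g A).ge with h | h
    · exact hgA (mem_normalizer_iff_map_conj_eq.2
        (eq_of_le_of_card_ge h (SfFree.card_cj g A).ge))
    · have hwg : w ∈ cj g A := h ▸ mem_sup_right (mem_zpowers w)
      rw [SfFree.mem_cj] at hwg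
      rcases hmove g hg with e | e <;> rw [e] at hwg
      · exact hwA hwg
      · exact hwA ((A.mul_mem_cancel_right hzA).1 hwg)
  obtain ⟨k, hk, hkL⟩ := SetLike.not_le_iff_exists.1 hKout.out
  set z₁ := k * z * k⁻¹ with hz₁
  have hz₁A : z₁ ∈ A := (mem_normalizer_iff.1 (hKN hk) z).1 hzA
  have hz₂A : k⁻¹ * z * k ∈ A := (mem_normalizer_iff''.1 (hKN hk) z).1 hzA
  have hAV : A ≤ normalizer (V : Set G) := (hAT.trans hTS).trans (hSL.trans hVn)
  have hNk : ∀ y ∈ L', k * y * k⁻¹ ∈ normalizer (cj k V : Set G) := fun y hy =>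
    (Subgroup.map_equiv_normalizer_eq V (MulAut.conj k)).le ⟨y, hVn hy, rfl⟩
  set P₁ := V ⊓ centralizer (zpowers z₁ : Set G) with hP₁
  set P₂ := cj k V ⊓ centralizer (zpowers z : Set G) with hP₂
  have hfour : 4 ≤ Nat.card P₁ ∧ 4 ≤ Nat.card P₂ := by
    rcases hcases with h | h
    · have h1 := card_le_sq hVea (hAV hz₁A) (SfFree.ea_sq hAea hz₁A)
      have h2 := card_le_sq (SfFree.ea_cj (g := k) hVea) (a := z) (by
        have := hNk _ (hSL (hTS (hAT hz₂A)))
        rwa [show k * (k⁻¹ * z * k) * k⁻¹ = z by group] at this) hz2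
      rw [SfFree.card_cj] at h2
      exact ⟨(Nat.pow_le_pow_iff_left two_ne_zero).1 (h.trans h1),
        (Nat.pow_le_pow_iff_left two_ne_zero).1 (h.trans h2)⟩
    · constructor
      · refine hV4.trans (SfFree.card_le_card_of_le (le_inf le_rfl ?_))
        exact Subgroup.le_centralizer_iff.1 ((zpowers_le.2 hz₁A).trans h)
      · refine hV4.trans ((SfFree.card_cj k V).ge.trans
          (SfFree.card_le_card_of_le (le_inf le_rfl ?_)))
        rintro _ ⟨v, hv, rfl⟩
        refine Offender.mem_centralizer_zpowers.2 ?_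
        show z * (k * v * k⁻¹) = (k * v * k⁻¹) * z
        calc z * (k * v * k⁻¹) = k * ((k⁻¹ * z * k) * v) * k⁻¹ := by group
          _ = k * (v * (k⁻¹ * z * k)) * k⁻¹ := by rw [mem_centralizer_iff.1 (h hz₂A) v hv]
          _ = _ := by group
  have hP₂S : P₂ ≤ (S : Subgroup G) :=
    le_sylow_of_le_normalizer ((Thompson.ea_isPGroup hVea).map _ |>.to_le inf_le_left) fun y hy =>
      hCz y (Offender.mem_centralizer_zpowers.1 hy.2).symm
  have hP₁S : cj k⁻¹ P₁ ≤ (S : Subgroup G) := by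
    refine le_sylow_of_le_normalizer (((Thompson.ea_isPGroup hVea).to_le inf_le_left).map _) ?_
    rintro _ ⟨y, hy, rfl⟩
    refine hCz _ ?_
    have := Offender.mem_centralizer_zpowers.1 hy.2
    show k⁻¹ * y * k⁻¹⁻¹ * z = z * (k⁻¹ * y * k⁻¹⁻¹)
    calc k⁻¹ * y * k⁻¹⁻¹ * z = k⁻¹ * (y * z₁) * k := by rw [hz₁]; group
      _ = k⁻¹ * (z₁ * y) * k := by rw [this]
      _ = z * (k⁻¹ * y * k⁻¹⁻¹) := by rw [hz₁]; group
  have hcomm : P₁ ≤ centralizer (P₂ : Set G) := by
    refine fun a ha => mem_centralizer_iff.2 fun b hb => ?_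
    have haD : a ∈ normalizer (cj k V : Set G) := by
      have := hNk (k⁻¹ * a * k) (hSL (hP₁S ⟨a, ha, by simp⟩))
      rwa [show k * (k⁻¹ * a * k) * k⁻¹ = a by group] at this
    have h1 : a * b * a⁻¹ * b⁻¹ ∈ V := by
      rw [show a * b * a⁻¹ * b⁻¹ = a * (b * a⁻¹ * b⁻¹) by group]
      exact mul_mem ha.1 ((mem_normalizer_iff.1 (hVn (hSL (hP₂S hb))) _).1 (inv_mem ha.1))
    have h2 : a * b * a⁻¹ * b⁻¹ ∈ cj k V :=
      mul_mem ((mem_normalizer_iff.1 haD b).1 hb.1) (inv_mem hb.1)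
    have h3 : a * b * a⁻¹ * b⁻¹ ∈ V ⊓ cj k V := ⟨h1, h2⟩
    rw [hTI k hkL, Subgroup.mem_bot, mul_inv_eq_one, mul_inv_eq_iff_eq_mul] at h3
    exact h3.symm
  set R := P₁ ⊔ P₂ with hR
  have hRea : Cfsg.IsElementaryAbelian 2 R := Thompson.ea_sup (Thompson.ea_mono hVea inf_le_left)
    (Thompson.ea_mono (SfFree.ea_cj hVea) inf_le_left) hcomm
  have hR16 : 16 ≤ Nat.card R := by
    have h := SfFree.card_sup_mul
      ((Subgroup.le_centralizer_iff.1 hcomm).trans (centralizer_le_normalizer _))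
    rw [show P₁ ⊓ P₂ = ⊥ from le_bot_iff.1 ((hTI k hkL).le.trans' (inf_le_inf inf_le_left
      inf_le_left)), card_bot, mul_one] at h
    rw [h]
    exact Nat.mul_le_mul hfour.1 hfour.2
  have hz₁1 : z₁ ≠ 1 := fun e => hz1 (by simpa [hz₁] using e)
  have hC : centralizer ({z₁} : Set G) ≤ normalizer ((zpowers z₁ : Subgroup G) : Set G) := by
    refine le_trans (le_of_eq ?_) (centralizer_le_normalizer _)
    rw [zpowers_eq_closure, centralizer_closure]
  have hRC : R ≤ centralizer ({z₁} : Set G) := sup_le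
    (fun a ha => mem_centralizer_singleton_iff.2 (Offender.mem_centralizer_zpowers.1 ha.2).symm)
    (by
      rintro _ ⟨⟨v, hv, rfl⟩, -⟩
      refine mem_centralizer_singleton_iff.2 ?_
      show (MulAut.conj k) v * (MulAut.conj k) z = (MulAut.conj k) z * (MulAut.conj k) v
      rw [← map_mul, ← map_mul, (SfFree.ea_commute hVea hv hzV).eq])
  have hRS : R ≤ (S : Subgroup G) := sup_le (inf_le_left.trans hVS) hP₂S
  have hst : R ∈ Cfsg.straddlingTwoSubgroups L' := by
    refine ⟨Thompson.ea_isPGroup hRea, fun e => ?_, hRS.trans hSL, _,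
      SfFree.isTwoLocal_normalizer (X := zpowers z₁) (IsPGroup.of_card (n := 1) ?_)
        (fun h => hz₁1 (zpowers_eq_bot.1 h)), hRC.trans hC, fun hle => hkL ?_⟩
    · rw [e, card_bot] at hR16; omega
    · rw [Nat.card_zpowers, pow_one, orderOf_eq_prime_iff]
      exact ⟨by rw [pow_two]; exact SfFree.ea_sq hAea hz₁A, hz₁1⟩
    · refine mem_of_cj_le hSL hN ?_
      rintro _ ⟨j, hj, rfl⟩
      refine hle (hC (mem_centralizer_singleton_iff.2 ?_))
      show (MulAut.conj k) j * (MulAut.conj k) z = (MulAut.conj k) z * (MulAut.conj k) j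
      rw [← map_mul, ← map_mul, (omega_commute hz (SfFree.jS_le _ hj)).eq]
  obtain ⟨Q, hQ⟩ := SfFree.exists_mem R
  obtain ⟨P, hP⟩ := SfFree.exists_mem T
  have hle := (hmax.2 R hst).1
  rw [maxOrder_eq hP, maxOrder_eq hQ] at hle
  have h1 := card_le_eight h16 hP.1 hP.2.1 hAT hnc
  have h2 := hQ.2.2 R le_rfl hRea
  omega

end FCtx

/-- Some two components share no 2-local subgroup. -/
theorem exists_not_share {S : Sylow 2 G} (hG : Hyp G) (hO : Cfsg.pCore 2 G = ⊥) {K₀ : Subgroup G}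
    (hK₀ : Cfsg.IsJComponent (S : Subgroup G) K₀) :
    ∃ K K', Cfsg.IsJComponent (S : Subgroup G) K ∧ Cfsg.IsJComponent (S : Subgroup G) K' ∧
      ¬ Share (S : Subgroup G) K K' := by
  by_contra! h
  exact FCtx.false ⟨hG, hO, h, K₀, hK₀⟩

end Cfsg.Agent.ZNComp
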