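import Cfsg.Agent.ZNComp.Coexist
import Cfsg.Agent.ZNComp.Amalgam

/-!
# The parabolic of a component
-/

set_option autoImplicit false

namespace Cfsg.Agent.ZNComp

open Subgroup
open scoped commutatorElement
open SfFree (cj Mem jS)

variable {G : Type*} [Group G] [Finite G]

theorem triv_index {K T : Subgroup G} (h3 : (Cfsg.pCoreOf 2 K).relIndex K = 3)
    (hTK : T ≤ normalizer (K : Set G)) : (T ⊓ Triv K).relIndex T ≤ 2 := by
  by_cases hall : ∀ t ∈ T, t ∈ Triv K
  · rw [relIndex_eq_one.2 (fun t ht => ⟨ht, hall t ht⟩ : T ≤ T ⊓ Triv K)]; norm_num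
  push Not at hall
  obtain ⟨t, ht, ht'⟩ := hall
  obtain ⟨x, hx, hx0⟩ := exists_not_mem_core h3
  set O := Cfsg.pCoreOf 2 K
  have hKO : K ≤ normalizer (O : Set G) := le_normalizer.trans (normalizer_le_core K)
  refine S4Amal.relIndex_le_two (T.inv_mem ht) fun b hb => ?_
  by_cases hb' : b ∈ Triv K
  · exact Or.inl ⟨hb, hb'⟩
  refine Or.inr ⟨T.mul_mem hb (T.inv_mem ht), ?_⟩
  by_contra hc
  have hti : t⁻¹ ∉ Triv K := fun e => ht' (by simpa using inv_mem e)
  have h1 := inverts h3 hx hx0 (hTK hb) hb'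
  have h2 := inverts h3 hx hx0 (hTK (T.inv_mem ht)) hti
  have hcc := inverts h3 hx hx0 (hTK (T.mul_mem hb (T.inv_mem ht))) hc
  rw [inv_inv] at h2
  have hbO := normalizer_le_core K (hTK hb)
  set o2 := x * (t⁻¹ * x * t) with ho2
  have h4 : b * o2 * b⁻¹ ∈ O := (mem_normalizer_iff.1 hbO _).1 h2
  set o1 := x * (b * x * b⁻¹) with ho1
  have e : b * t⁻¹ * x * (b * t⁻¹)⁻¹ = o1⁻¹ * x * (b * o2 * b⁻¹) := by
    rw [ho1, ho2]; group
  rw [e] at hcc
  have h5 : x * o1⁻¹ * x⁻¹ ∈ O := (mem_normalizer_iff.1 (hKO hx) _).1 (inv_mem h1)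
  have h6 : x * x * (b * o2 * b⁻¹) ∈ O := by
    have := mul_mem (inv_mem h5) hcc
    rwa [show (x * o1⁻¹ * x⁻¹)⁻¹ * (x * (o1⁻¹ * x * (b * o2 * b⁻¹))) = x * x * (b * o2 * b⁻¹) by
      group] at this
  have h8 : x * x ∈ O := (O.mul_mem_cancel_right h4).1 h6
  have h9 := mul_mem (core_cosets h3 hx hx0).1 (inv_mem h8)
  rw [show x ^ 3 * (x * x)⁻¹ = x by group] at h9
  exact hx0 h9

/-- `K T` is a parabolic over `T`. -/
theorem para_of_component (hG : Hyp G) {T K L : Subgroup G} (hK : Cfsg.IsJComponent T K)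
    (hL : L ∈ Cfsg.jOvergroups T) (hKL : K ≤ L) (hTK : T ≤ normalizer (K : Set G))
    (hact : ¬ K ≤ centralizer (Cfsg.omegaCenterOf T : Set G)) :
    Para T (K ⊔ T) ∧ Cfsg.pCoreOf 2 L ≤ Cfsg.pCoreOf 2 (K ⊔ T) ∧
      (Cfsg.pCoreOf 2 (K ⊔ T)).relIndex (K ⊔ T) = 6 := by
  have : Fact (Nat.Prime 2) := ⟨Nat.prime_two⟩
  obtain ⟨⟨hTL, hT, hodd⟩, -, hc⟩ := id hL
  set O := Cfsg.pCoreOf 2 K with hO
  have h3 := hK.2.2.1
  have hJT : jS T ≤ T := SfFree.jS_le T
  have hOsn : (O.subgroupOf L).IsSubnormal := by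
    refine isSubnormal_step (isSubnormal_subgroupOf hG hL hK hKL)
      (comap_mono (core_le K)) ?_
    exact (comap_mono (le_normalizer.trans (normalizer_le_core K))).trans (le_normalizer_comap _)
  have hQT : Cfsg.pCoreOf 2 L ≤ T := S4Amal.core_le_sylow hTL hT
    (Nat.two_dvd_ne_zero.2 (Nat.odd_iff.1 hodd))
  have hOT : O ≤ T :=
    (LocalStructure.le_pCoreOf ((core_le K).trans hKL) hOsn (core_isPGroup K)).trans hQT
  have hinf : K ⊓ T = O := by
    refine le_antisymm (fun y hy => ?_) (le_inf (core_le K) hOT)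
    by_contra hy0
    have hKT : K ≤ T := (le_of_mem h3 (le_inf (core_le K) hOT) hy.1 hy0 hy).trans inf_le_right
    exact not_le_normalizer hK hT hJT (hKT.trans le_normalizer)
  have hcO := Coprime.card_mul_relIndex_of_le (core_le K)
  rw [h3] at hcO
  have hP : Nat.card (K ⊔ T : Subgroup G) = 3 * Nat.card T := by
    have := SfFree.card_sup_mul hTK
    rw [hinf, ← hcO] at this
    refine Nat.eq_of_mul_eq_mul_right (Nat.card_pos (α := O)) ?_
    rw [this]; ring
  have hthree : T.relIndex (K ⊔ T) = 3 := by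
    have := Coprime.card_mul_relIndex_of_le (le_sup_right : T ≤ K ⊔ T)
    rw [hP, mul_comm 3] at this
    exact Nat.eq_of_mul_eq_mul_left Nat.card_pos this
  set C := Cfsg.pCoreOf 2 (K ⊔ T) with hC
  have hCT : C ≤ T := S4Amal.core_le_sylow le_sup_right hT (by rw [hthree]; norm_num)
  have hDn : K ⊔ T ≤ normalizer ((T ⊓ Triv K : Subgroup G) : Set G) := by
    refine sup_le (S4Amal.mem_normalizer_of_le fun k hk d hd => ?_) ?_
    · have h1 : ⁅k, d⁆ ∈ O := hd.2.2 k hk
      have h2 : ⁅k, d⁆ ∈ T ⊓ Triv K := ⟨hOT h1, normalizer_le_core K (le_normalizer (core_le K h1)),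
        fun v hv => by
          rw [commutatorElement_def]
          have hvO : v ∈ normalizer (O : Set G) := normalizer_le_core K (le_normalizer hv)
          exact mul_mem ((mem_normalizer_iff.1 hvO _).1 h1) (inv_mem h1)⟩
      rw [show k * d * k⁻¹ = ⁅k, d⁆ * d by rw [commutatorElement_def, inv_mul_cancel_right]]
      exact mul_mem h2 hd
    · refine S4Amal.mem_normalizer_of_le fun t ht d hd => ⟨T.mul_mem (T.mul_mem ht hd.1) (T.inv_mem ht),
        ?_, fun v hv => ?_⟩
      · have htO := normalizer_le_core K (hTK ht)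
        exact (normalizer (O : Set G)).mul_mem ((normalizer (O : Set G)).mul_mem htO hd.2.1)
          ((normalizer (O : Set G)).inv_mem htO)
      · have h := hd.2.2 _ ((mem_normalizer_iff''.1 (hTK ht) v).1 hv)
        rw [show ⁅v, t * d * t⁻¹⁆ = t * ⁅t⁻¹ * v * t, d⁆ * t⁻¹ by
          simp only [commutatorElement_def]; group]
        exact (mem_normalizer_iff.1 (normalizer_le_core K (hTK ht)) _).1 h
  have hDC : T ⊓ Triv K ≤ C :=
    S4Amal.le_core_of_normal (inf_le_left.trans le_sup_right) hDn (hT.to_le inf_le_left)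
  have htwo : C.relIndex T = 2 := by
    have h2 : C.relIndex T ≤ 2 :=
      (relIndex_le_of_le_left hDC Nat.card_pos.ne').trans (triv_index h3 hTK)
    have h1 : C.relIndex T ≠ 1 := fun e => by
      have hTC : T ≤ C := relIndex_eq_one.1 e
      refine not_le_normalizer hK hT hJT ?_
      rw [← le_antisymm hCT hTC]
      exact le_sup_left.trans (LocalStructure.le_normalizer_pCoreOf _)
    have h0 : C.relIndex T ≠ 0 := Nat.card_pos.ne'
    omega
  have hQC : Cfsg.pCoreOf 2 L ≤ C := S4Amal.le_core_of_normal (hQT.trans le_sup_right)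
    ((sup_le hKL hTL).trans (LocalStructure.le_normalizer_pCoreOf L)) (core_isPGroup L)
  refine ⟨⟨le_sup_right, hT, hthree, htwo, ?_, fun h => hact (le_sup_left.trans h)⟩, hQC, ?_⟩
  · exact inf_le_right.trans ((centralizer_le hQC).trans (hc.trans hQC))
  · rw [← relIndex_mul_relIndex _ _ _ hCT le_sup_right, htwo, hthree]

end Cfsg.Agent.ZNComp
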