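import Cfsg.Agent.ZNComp.Parabolic

/-!
# Maximal straddling 2-groups which are not Sylow
-/

set_option autoImplicit false

namespace Cfsg.Agent.ZNComp

open Subgroup
open scoped commutatorElement
open SfFree (cj Mem jS)

variable {G : Type*} [Group G] [Finite G]

/-- A component outside `M`. -/
structure Out (M T K : Subgroup G) : Prop where
  comp : Cfsg.IsJComponent T K
  out : ¬ K ≤ M

theorem Out.good {S : Sylow 2 G} {M T K : Subgroup G} (hG : Hyp G)
    (hMJ : normalizer (jS (S : Subgroup G) : Set G) ≤ M)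
    (hT : T ∈ Cfsg.maxStraddlingTwoSubgroups M) (hK : Out M T K) : Good T K :=
  ⟨hK.comp, fun _ _ hL _ hKL hT₀ hJT =>
    (sylow_facts hG hMJ hT hL (fun h => hK.out (hKL.trans h)) hT₀ hJT).1⟩

theorem omega_mem_zJ {T : Subgroup G} {x : G} (hx : x ∈ T) (h2 : x * x = 1)
    (hc : ∀ t ∈ T, Commute t x) : x ∈ zJ T := by
  obtain ⟨P, hP⟩ := SfFree.exists_mem T
  have hxP : x ∈ P := by
    have hea : Cfsg.IsElementaryAbelian 2 (P ⊔ zpowers x : Subgroup G) := by
      refine Thompson.ea_sup hP.2.1 (Thompson.ea_zpowers (by rw [pow_two]; exact h2)) ?_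
      exact Subgroup.le_centralizer_iff.1
        (zpowers_le.2 (mem_centralizer_iff.2 fun p hp => (hc p (hP.1 hp)).eq))
    have := hP.2.2 _ (sup_le hP.1 (zpowers_le.2 hx)) hea
    rw [eq_of_le_of_card_ge le_sup_left this]
    exact mem_sup_right (mem_zpowers x)
  refine Thompson.mem_omegaOne ⟨SfFree.le_jS hP hxP, mem_centralizer_iff.2 fun t ht => ?_⟩
    (by rw [pow_two]; exact h2)
  exact (hc t (SfFree.jS_le T ht)).eq

theorem card_le_of_isSylowTwoIn {R T₀ L : Subgroup G} (hT₀ : Cfsg.IsSylowTwoIn T₀ L)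
    (hR : IsPGroup 2 R) (hle : R ≤ L) : Nat.card R ≤ Nat.card T₀ := by
  have : Fact (Nat.Prime 2) := ⟨Nat.prime_two⟩
  obtain ⟨k, hk⟩ := IsPGroup.iff_card.1 hR
  have h1 : Nat.card R ∣ Nat.card T₀ * T₀.relIndex L :=
    (Coprime.card_mul_relIndex_of_le hT₀.1).symm ▸ card_dvd_of_le hle
  refine Nat.le_of_dvd Nat.card_pos (Nat.Coprime.dvd_of_dvd_mul_right ?_ h1)
  rw [hk]
  exact (Nat.coprime_two_left.2 hT₀.2.2).pow_left k

/-- The standing hypotheses, with `T` not Sylow. -/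
structure PCtx (S : Sylow 2 G) (M T : Subgroup G) : Prop where
  hyp : Hyp G
  hMJ : normalizer (jS (S : Subgroup G) : Set G) ≤ M
  max : T ∈ Cfsg.maxStraddlingTwoSubgroups M
  le : T ≤ (S : Subgroup G)
  ne : T ≠ (S : Subgroup G)

namespace PCtx

variable {S : Sylow 2 G} {M T : Subgroup G} (c : PCtx S M T)
include c

theorem two : IsPGroup 2 T := c.max.1.1

theorem sylow_le : (S : Subgroup G) ≤ M := (SfFree.le_normalizer_jS _).trans c.hMJ

theorem good {K : Subgroup G} (hK : Out M T K) : Good T K := hK.good c.hyp c.hMJ c.max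

theorem exists_outer :
    ∃ g ∈ (S : Subgroup G), g ∈ normalizer (T : Set G) ∧ g ∉ T ∧ g * g ∈ T := by
  obtain ⟨g₀, ⟨hg0, hg0N⟩, hg0T⟩ := SetLike.exists_of_lt
    (SfFree.exists_lt_normalizer_inf S.2 (lt_of_le_of_ne c.le c.ne))
  obtain ⟨k, hk⟩ := S.2 ⟨g₀, hg0⟩
  have hk' : g₀ ^ 2 ^ k = 1 := by simpa using congrArg Subtype.val hk
  classical
  have hex : ∃ j, g₀ ^ 2 ^ j ∈ T := ⟨k, by rw [hk']; exact one_mem _⟩
  obtain ⟨j, hj⟩ : ∃ j, Nat.find hex = j + 1 := by
    refine Nat.exists_eq_succ_of_ne_zero fun e => hg0T ?_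
    simpa [e] using Nat.find_spec hex
  refine ⟨g₀ ^ 2 ^ j, (S : Subgroup G).pow_mem hg0 _, (normalizer (T : Set G)).pow_mem hg0N _,
    Nat.find_min hex (by omega), ?_⟩
  have := Nat.find_spec hex
  rw [hj] at this
  rwa [← pow_add, ← two_mul, ← pow_succ']

/-- No local subgroup outside `M` contains `T` and an outer element. -/
theorem le_of_outer {g : G} (hg : g ∈ (S : Subgroup G)) (hgT : g ∉ T) {L : Subgroup G}
    (hL : Cfsg.IsTwoLocal L) (hTL : T ≤ L) (hgL : g ∈ L) : L ≤ M := by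
  by_contra hLM
  have hR : T ⊔ zpowers g ≤ (S : Subgroup G) := sup_le c.le (zpowers_le.2 hg)
  have hs : T ⊔ zpowers g ∈ Cfsg.straddlingTwoSubgroups M :=
    ⟨S.2.to_le hR, fun e => c.max.1.2.1 (le_bot_iff.1 (e ▸ le_sup_left)), hR.trans c.sylow_le,
      L, hL, sup_le hTL (zpowers_le.2 hgL), hLM⟩
  have h1 := (eq_of_max c.max hs ((SfFree.jS_le T).trans le_sup_left)).2
  exact hgT ((eq_of_le_of_card_ge le_sup_left h1).ge (mem_sup_right (mem_zpowers g)))

theorem jS_normalizer {g : G} (hg : g ∈ normalizer (T : Set G)) : g ∈ normalizer (jS T : Set G) :=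
  normalizer_le_of_map (fun g H =>
    (SfFree.jS_map (ι := (MulAut.conj g).toMonoidHom) (MulAut.conj g).injective H).symm) T hg

theorem out_cj {K : Subgroup G} (hK : Out M T K) {g : G} (hg : g ∈ (S : Subgroup G))
    (hgN : g ∈ normalizer (T : Set G)) : Out M T (cj g K) := by
  refine ⟨(good_cj (c.good hK) (c.jS_normalizer hgN)).comp, fun h => hK.out ?_⟩
  have hgM : g⁻¹ ∈ M := M.inv_mem (c.sylow_le hg)
  have := (SfFree.cj_mono (g := g⁻¹) h).trans (SfFree.cj_of_mem_normalizer (le_normalizer hgM)).le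
  rwa [SfFree.cj_cj, inv_mul_cancel, SfFree.cj_one] at this

theorem cj_T {K : Subgroup G} (hK : Out M T K) {t : G} (ht : t ∈ T) : Out M T (cj t K) :=
  c.out_cj hK (c.le ht) (le_normalizer ht)

/-- Outside components do not form a normalizing family. -/
theorem no_family (𝒦 : Set (Subgroup G)) {K₀ : Subgroup G} (h0 : K₀ ∈ 𝒦)
    (hout : ∀ K ∈ 𝒦, Out M T K) (hn : ∀ K ∈ 𝒦, ∀ K' ∈ 𝒦, K' ≤ normalizer (K : Set G))
    {g : G} (hg : g ∈ (S : Subgroup G)) (hgT : g ∉ T)
    (hinv : ∀ r : G, r ∈ T ∨ r = g → ∀ K ∈ 𝒦, cj r K ∈ 𝒦) : False := by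
  obtain ⟨L, hL, hK, -, hmem⟩ := local_of_family 𝒦 h0 (fun K hK => (hout K hK).comp) hn
  exact (hout K₀ h0).out ((hK K₀ h0).trans (c.le_of_outer hg hgT hL
    (fun t ht => hmem t (hinv t (Or.inl ht))) (hmem g (hinv g (Or.inr rfl)))))

theorem exists_out : ∃ K L : Subgroup G, Out M T K ∧ Cfsg.IsTwoLocal L ∧ T ≤ L ∧ K ≤ L := by
  obtain ⟨K, ⟨hKc, -⟩, hKM, hne⟩ := outside_nonempty c.hyp c.hMJ c.max
  exact ⟨K, normalizer (Cfsg.pCoreOf 2 (K ⊔ T) : Set G), ⟨hKc, hKM⟩,
    SfFree.isTwoLocal_normalizer (core_isPGroup _) hne,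
    le_sup_right.trans (LocalStructure.le_normalizer_pCoreOf _),
    le_sup_left.trans (LocalStructure.le_normalizer_pCoreOf _)⟩

theorem card_zJ_le : Nat.card (zJ T) ≤ 4 := by
  by_contra hlt
  obtain ⟨g, hg, hgN, hgT, -⟩ := c.exists_outer
  obtain ⟨K, L, hK, -, -, -⟩ := c.exists_out
  refine c.no_family {K' | Out M T K'} hK (fun _ h => h) (fun A hA B hB => ?_) hg hgT
    (fun r hr A hA => ?_)
  · by_cases hAB : B = A
    · rw [hAB]; exact le_normalizer
    obtain ⟨e, he, he'⟩ : ∃ e, e ∈ eFix T A ⊓ eFix T B ∧ e ≠ 1 := by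
      refine Offender.exists_ne_one_of_ne_bot fun e0 => hlt ?_
      have a1 := card_zJ c.two hA.comp
      have b1 := card_zJ c.two hB.comp
      have h1 := Coprime.card_mul_relIndex_of_le (inf_le_left : eFix T A ≤ zJ T)
      have h2 := Coprime.card_mul_relIndex_of_le (inf_le_left : eFix T B ≤ zJ T)
      rw [a1, mul_comm 2] at h1
      rw [b1, mul_comm 2] at h2
      have i1 := Nat.eq_of_mul_eq_mul_left Nat.card_pos h1
      have i2 := Nat.eq_of_mul_eq_mul_left Nat.card_pos h2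
      have := relIndex_inf_le (H := eFix T A) (K := eFix T B) (L := zJ T)
      rw [e0, relIndex_bot_left, i1, i2] at this
      omega
    obtain ⟨L', hL', hJ, hAL, hBL, -⟩ := local_of_fix he.1 he.2 he'
    exact ((co_pair c.hyp c.two (c.good hA) hB.comp hL' hJ hAL hBL).resolve_left hAB).2.2.2.1
  · rcases hr with hr | rfl
    · exact c.cj_T hA hr
    · exact c.out_cj hA hg hgN

theorem omega_sylow_le : Cfsg.omegaCenterOf (S : Subgroup G) ≤ T := by
  obtain ⟨K, L, hK, hL, hTL, hKL⟩ := c.exists_out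
  obtain ⟨⟨hsyl, -, hc⟩, -⟩ := of_le c.hyp c.hMJ c.max hL (fun h => hK.out (hKL.trans h)) hTL
  have hQT : Cfsg.pCoreOf 2 L ≤ T := S4Amal.core_le_sylow hTL c.two
    (Nat.two_dvd_ne_zero.2 (Nat.odd_iff.1 hsyl.2.2))
  exact fun z hz => hQT (hc (centralizer_le (hQT.trans c.le) ((Thompson.omegaOne_le 2 _) hz).2))

theorem omega_sylow_le_zJ : Cfsg.omegaCenterOf (S : Subgroup G) ≤ zJ T := fun z hz =>
  omega_mem_zJ (c.omega_sylow_le hz)
    (SfFree.ea_sq (Thompson.omegaOne_centre_ea 2 (S : Subgroup G)) hz)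
    fun t ht => mem_centralizer_iff.1 ((Thompson.omegaOne_le 2 _) hz).2 t (c.le ht)

theorem not_mem_eFix {K : Subgroup G} (hK : Out M T K) {z : G}
    (hz : z ∈ Cfsg.omegaCenterOf (S : Subgroup G)) (hz1 : z ≠ 1) : z ∉ eFix T K := fun he => by
  obtain ⟨L, hL, -, hKL, -, hC⟩ := local_of_fix he he hz1
  obtain ⟨g, hg, -, hgT, -⟩ := c.exists_outer
  have hSL : (S : Subgroup G) ≤ L := fun s hs => hC (mem_centralizer_singleton_iff.2
    (mem_centralizer_iff.1 ((Thompson.omegaOne_le 2 _) hz).2 s hs))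
  exact hK.out (hKL.trans (c.le_of_outer hg hgT hL (c.le.trans hSL) (hSL hg)))

theorem exists_z : ∃ z ∈ Cfsg.omegaCenterOf (S : Subgroup G), z ≠ 1 := by
  have : Fact (Nat.Prime 2) := ⟨Nat.prime_two⟩
  have hne : (S : Subgroup G) ≠ ⊥ := fun e => c.max.1.2.1 (le_bot_iff.1 (e ▸ c.le))
  obtain ⟨t, ht, ht1⟩ := (bot_or_exists_ne_one (Cfsg.omegaCenterOf (S : Subgroup G))).resolve_left
    (SfFree.omZ_ne_bot S.2 hne)
  exact ⟨t, ht, ht1⟩

theorem z_unique {z v : G} (hz : z ∈ Cfsg.omegaCenterOf (S : Subgroup G)) (hz1 : z ≠ 1)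
    (hv : v ∈ Cfsg.omegaCenterOf (S : Subgroup G)) : v = 1 ∨ v = z := by
  obtain ⟨K, -, hK, -, -, -⟩ := c.exists_out
  obtain ⟨w, hw, hwW, hw1, -⟩ := exists_w c.two hK.comp
  have key : ∀ {u : G}, u ∈ Cfsg.omegaCenterOf (S : Subgroup G) → u ≠ 1 →
      u * w ∈ eFix T K := fun {u} hu hu1 =>
    (eFix_split c.two hK.comp hw hwW hw1 (c.omega_sylow_le_zJ hu)).resolve_left
      (c.not_mem_eFix hK hu hu1)
  by_cases hv1 : v = 1
  · exact Or.inl hv1
  refine Or.inr ?_
  by_contra hvz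
  refine c.not_mem_eFix hK ((Cfsg.omegaCenterOf (S : Subgroup G)).mul_mem hv hz) (fun e => hvz ?_) ?_
  · rw [eq_inv_of_mul_eq_one_left e]
    exact inv_eq_of_mul_eq_one_left (zJ_sq (c.omega_sylow_le_zJ hz))
  · have hzw : Commute z w := zJ_commute (c.omega_sylow_le_zJ hz) hw
    have := mul_mem (key hv hv1) (key hz hz1)
    rwa [show v * w * (z * w) = v * z by
      rw [mul_assoc v, ← mul_assoc w, ← hzw.eq, mul_assoc z, zJ_sq hw, mul_one]] at this

/-- The elements of `Ω₁(Z(J))` when a component has a nontrivial fixed element. -/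
theorem lines {K : Subgroup G} (hK : Out M T K) {e z : G} (he : e ∈ eFix T K) (he1 : e ≠ 1)
    (hz : z ∈ Cfsg.omegaCenterOf (S : Subgroup G)) (hz1 : z ≠ 1) :
    ∀ v ∈ zJ T, v = 1 ∨ v = e ∨ v = z ∨ v = e * z := by
  intro v hv
  obtain ⟨w, hw, hwW, hw1, -⟩ := exists_w c.two hK.comp
  have hE : ∀ u ∈ eFix T K, u = 1 ∨ u = e := by
    intro u hu
    by_contra hh
    push Not at hh
    have h4 := c.card_zJ_le
    rw [card_zJ c.two hK.comp] at h4
    have h3 : Nat.card ({1, e, u} : Set G) ≤ Nat.card (eFix T K) :=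
      Nat.card_mono (Set.toFinite _) (by
        rintro _ (rfl | rfl | rfl)
        exacts [one_mem _, he, hu])
    rw [Nat.card_coe_set_eq] at h3
    have h5 : ({1, e, u} : Set G).ncard = 3 := Set.ncard_eq_three.2
      ⟨1, e, u, he1.symm, hh.1.symm, hh.2.symm, rfl⟩
    omega
  have hzE := c.not_mem_eFix hK hz hz1
  have hzw := (eFix_split c.two hK.comp hw hwW hw1 (c.omega_sylow_le_zJ hz)).resolve_left hzE
  rcases eFix_split c.two hK.comp hw hwW hw1 hv with h | h
  · rcases hE v h with rfl | rfl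
    · exact Or.inl rfl
    · exact Or.inr (Or.inl rfl)
  · have h9 := mul_mem h hzw
    rw [show v * w * (z * w) = v * z by
      rw [mul_assoc v, ← mul_assoc w, ← (zJ_commute (c.omega_sylow_le_zJ hz) hw).eq, mul_assoc z,
        zJ_sq hw, mul_one]] at h9
    rcases hE _ h9 with h' | h'
    · refine Or.inr (Or.inr (Or.inl ?_))
      rw [eq_inv_of_mul_eq_one_left h', inv_eq_of_mul_eq_one_left (zJ_sq (c.omega_sylow_le_zJ hz))]
    · refine Or.inr (Or.inr (Or.inr ?_))
      rw [← h', mul_assoc, zJ_sq (c.omega_sylow_le_zJ hz), mul_one]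

theorem not_le_centralizer {K : Subgroup G} (hK : Cfsg.IsJComponent T K) {z : G}
    (hz : z ∈ Cfsg.omegaCenterOf (S : Subgroup G)) (hz1 : z ≠ 1) :
    ¬ K ≤ centralizer ({z} : Set G) := fun h => by
  refine not_le_normalizer hK S.2 ((SfFree.jS_le T).trans c.le) (fun k hk => c.hyp.cZ S ?_)
  rw [mem_centralizer_iff]
  intro v hv
  rcases c.z_unique hz hz1 hv with rfl | rfl
  · rw [one_mul, mul_one]
  · exact (mem_centralizer_singleton_iff.1 (h hk)).symm

/-- No second component shares a local subgroup with an outside one. -/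
theorem co_eq {K K' L : Subgroup G} (hK : Out M T K) (hK' : Cfsg.IsJComponent T K')
    (hL : Cfsg.IsTwoLocal L) (hJ : jS T ≤ L) (hKL : K ≤ L) (hKL' : K' ≤ L) : K' = K := by
  by_contra hne
  obtain ⟨g, hg, hgN, hgT, -⟩ := c.exists_outer
  obtain ⟨z, hz, hz1⟩ := c.exists_z
  obtain ⟨w, hw, hwW, hw1, -⟩ := exists_w c.two hK.comp
  obtain ⟨w', hw', hwW', hw1', -⟩ := exists_w c.two hK'
  have hwE := (co_fix c.hyp c.two (c.good hK) hK' hL hJ hKL hKL' hne hw').1 hwW'
  have hwE' := (co_fix c.hyp c.two (c.good hK) hK' hL hJ hKL hKL' hne hw).2 hwW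
  have hn2 := ((co_pair c.hyp c.two (c.good hK) hK' hL hJ hKL hKL').resolve_left hne)
  -- the lines of the two fixed groups
  have hline : ∀ {A : Subgroup G}, Out M T A → ∀ {a : G}, a ∈ eFix T A → a ≠ 1 →
      a = w' ∨ a = w' * z := by
    intro A hA a ha ha1
    rcases c.lines hK hwE hw1' hz hz1 a ha.1 with h | h | h | h
    · exact absurd h ha1
    · exact Or.inl h
    · exact absurd (h ▸ ha) (c.not_mem_eFix hA hz hz1)
    · exact Or.inr h
  have hsame : ∀ {A : Subgroup G}, Out M T A → ∀ {B : Subgroup G}, Cfsg.IsJComponent T B →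
      ∀ {a : G}, a ∈ eFix T A → a ∈ eFix T B → a ≠ 1 → B = A := by
    intro A hA B hB a ha hb ha1
    refine eq_of_eFix c.hyp c.two (c.good hA) hB ?_ (fun e => ha1 (by
      rw [e, Subgroup.mem_bot] at ha; exact ha))
    have h2 : ∀ {C : Subgroup G}, Cfsg.IsJComponent T C → a ∈ eFix T C →
        eFix T C = zpowers a := fun {C} hC haC => by
      refine (eq_of_le_of_card_ge (zpowers_le.2 haC) ?_).symm
      have h4 := c.card_zJ_le
      rw [card_zJ c.two hC] at h4
      rw [Nat.card_zpowers, orderOf_eq_prime (by rw [pow_two]; exact zJ_sq haC.1) ha1]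
      omega
    rw [h2 hB hb, h2 hA.comp ha]
  have hmove : ∃ r, (r ∈ T ∨ r = g) ∧ cj r K ≠ K := by
    by_contra! hfix
    have hN : ∀ r, (r ∈ T ∨ r = g) → r ∈ normalizer (Cfsg.wOf K : Set G) := fun r hr =>
      normalizer_le_wOf K (mem_normalizer_iff_map_conj_eq.2 (hfix r hr))
    exact hK.out ((le_normalizer.trans (normalizer_le_wOf K)).trans (c.le_of_outer hg hgT
      (IsJComponent.isTwoLocal hK.comp) (fun t ht => hN t (Or.inl ht)) (hN g (Or.inr rfl))))
  obtain ⟨r, hr, hrK⟩ := hmove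
  have hcj : ∀ {A : Subgroup G} (r : G), (r ∈ T ∨ r = g) → Out M T A → Out M T (cj r A) := by
    rintro A r (hr | rfl) hA
    exacts [c.cj_T hA hr, c.out_cj hA hg hgN]
  have hK2 := hcj r hr hK
  have hrN : r ∈ normalizer (zJ T : Set G) := by
    refine normalizer_le_omegaCenter _ ?_
    rcases hr with hr | rfl
    exacts [c.jS_normalizer (le_normalizer hr), c.jS_normalizer hgN]
  have he2 : r * w' * r⁻¹ ∈ eFix T (cj r K) := by
    refine ⟨(mem_normalizer_iff.1 hrN w').1 hwE.1, mem_centralizer_iff.2 fun k hk => ?_⟩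
    obtain ⟨k, hk', rfl⟩ := hk
    show (MulAut.conj r) k * (MulAut.conj r) w' = (MulAut.conj r) w' * (MulAut.conj r) k
    rw [← map_mul, ← map_mul, mem_centralizer_iff.1 hwE.2 k hk']
  have he21 : r * w' * r⁻¹ ≠ 1 := fun e => hw1' (by simpa using e)
  have he2' : r * w' * r⁻¹ = w' * z := by
    rcases hline hK2 he2 he21 with h | h
    · exact absurd (hsame hK hK2.comp hwE (h ▸ he2) hw1') hrK
    · exact h
  have hKK2 : K' = cj r K := by
    have hw'' : w = w' * z ∨ w = z := by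
      rcases c.lines hK hwE hw1' hz hz1 w hw with h | h | h | h
      · exact absurd h hw1
      · exact absurd (eFix_inf_wOf hK.comp hwW (h ▸ hwE)) hw1
      · exact Or.inr h
      · exact Or.inl h
    rcases hw'' with h | h
    · exact hsame hK2 hK' he2 (by rw [he2', ← h]; exact hwE') he21
    · exfalso
      refine c.not_le_centralizer hK' hz hz1 fun k hk => mem_centralizer_singleton_iff.2 ?_
      exact mem_centralizer_iff.1 (h ▸ hwE').2 k hk
  have hKo : Out M T K' := hKK2 ▸ hK2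
  refine c.no_family {A | A = K ∨ A = K'} (Or.inl rfl) ?_ ?_ hg hgT ?_
  · rintro A (rfl | rfl)
    exacts [hK, hKo]
  · rintro A (rfl | rfl) B (rfl | rfl)
    exacts [le_normalizer, hn2.2.2.2.1, hn2.2.2.2.2, le_normalizer]
  · intro q hq A hA
    have hA' : Out M T A := by rcases hA with rfl | rfl <;> assumption
    have hAq := hcj q hq hA'
    have hqN : q ∈ normalizer (zJ T : Set G) := by
      refine normalizer_le_omegaCenter _ ?_
      rcases hq with hq | rfl
      exacts [c.jS_normalizer (le_normalizer hq), c.jS_normalizer hgN]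
    obtain ⟨a, ha, ha1⟩ : ∃ a ∈ eFix T A, a ≠ 1 := by
      rcases hA with rfl | rfl
      exacts [⟨w', hwE, hw1'⟩, ⟨w, hwE', hw1⟩]
    have haq : q * a * q⁻¹ ∈ eFix T (cj q A) := by
      refine ⟨(mem_normalizer_iff.1 hqN a).1 ha.1, mem_centralizer_iff.2 fun k hk => ?_⟩
      obtain ⟨k, hk', rfl⟩ := hk
      show (MulAut.conj q) k * (MulAut.conj q) a = (MulAut.conj q) a * (MulAut.conj q) k
      rw [← map_mul, ← map_mul, mem_centralizer_iff.1 ha.2 k hk']
    have haq1 : q * a * q⁻¹ ≠ 1 := fun e => ha1 (by simpa using e)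
    rcases hline hAq haq haq1 with h | h
    · exact Or.inl (hsame hK hAq.comp hwE (h ▸ haq) hw1')
    · exact Or.inr (hKK2.symm ▸ hsame hK2 hAq.comp he2 (by rw [he2', ← h]; exact haq) he21)

theorem rigid {K L : Subgroup G} (hK : Out M T K) (hL : Cfsg.IsTwoLocal L) (hJ : jS T ≤ L)
    (hKL : K ≤ L) : L ≤ normalizer (K : Set G) := fun y hy =>
  mem_normalizer_iff_map_conj_eq.2 (c.co_eq hK (orbit_comp c.hyp c.two (c.good hK) hL hJ hKL hy)
    hL hJ hKL ((SfFree.cj_mono hKL).trans (SfFree.cj_of_mem_normalizer (le_normalizer hy)).le))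

/-- `T` centralizes `Ω₁(Z(J(T)))`. -/
theorem zJ_central {K : Subgroup G} (hK : Out M T K) (hTK : T ≤ normalizer (K : Set G)) :
    ∀ v ∈ zJ T, ∀ t ∈ T, Commute t v := by
  obtain ⟨w, hw, hwW, hw1, huniq⟩ := exists_w c.two hK.comp
  intro v hv t ht
  have htZ : t ∈ normalizer (zJ T : Set G) :=
    normalizer_le_omegaCenter _ (SfFree.le_normalizer_jS T ht)
  have htw : Commute t w := by
    refine mul_inv_eq_iff_eq_mul.1 ?_
    exact ((huniq _ ((mem_normalizer_iff.1 htZ w).1 hw)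
      ((mem_normalizer_iff.1 (normalizer_le_wOf K (hTK ht)) w).1 hwW))).resolve_left
      (fun e => hw1 (by simpa using e))
  have key : ∀ e ∈ eFix T K, Commute t e := by
    intro e he
    by_cases he1 : e = 1
    · rw [he1]; exact Commute.one_right t
    refine mul_inv_eq_iff_eq_mul.1 ?_
    have he' : t * e * t⁻¹ ∈ eFix T K := ⟨(mem_normalizer_iff.1 htZ e).1 he.1,
      mem_centralizer_iff.2 fun k hk => by
        have hk' := (mem_normalizer_iff''.1 (hTK ht) k).1 hk
        calc k * (t * e * t⁻¹) = t * ((t⁻¹ * k * t) * e) * t⁻¹ := by group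
          _ = t * (e * (t⁻¹ * k * t)) * t⁻¹ := by rw [mem_centralizer_iff.1 he.2 _ hk']
          _ = t * e * t⁻¹ * k := by group⟩
    have h4 := c.card_zJ_le
    rw [card_zJ c.two hK.comp] at h4
    have heq : eFix T K = zpowers e := by
      refine (eq_of_le_of_card_ge (zpowers_le.2 he) ?_).symm
      rw [Nat.card_zpowers, orderOf_eq_prime (by rw [pow_two]; exact zJ_sq he.1) he1]
      omega
    rw [heq] at he'
    obtain ⟨i, hi⟩ := mem_zpowers_iff.1 he'
    have h2 : e ^ (2 : ℤ) = 1 := by rw [zpow_two]; exact zJ_sq he.1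
    rcases Int.even_or_odd' i with ⟨j, rfl | rfl⟩
    · rw [zpow_mul, h2, one_zpow] at hi
      exact absurd (by simpa using hi.symm) he1
    · rw [zpow_add, zpow_mul, h2, one_zpow, one_mul, zpow_one] at hi
      exact hi.symm
  rcases eFix_split c.two hK.comp hw hwW hw1 hv with h | h
  · exact key v h
  · have := (key _ h).mul_right htw
    rwa [mul_assoc, zJ_sq hw, mul_one] at this

end PCtx

end Cfsg.Agent.ZNComp
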