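import Cfsg.Agent.ZNComp.Proper

/-!
# Components with their maximal 2-local subgroup
-/

set_option autoImplicit false

namespace Cfsg.Agent.ZNComp

open Subgroup
open scoped commutatorElement
open SfFree (cj Mem jS)

variable {G : Type*} [Group G] [Finite G]

theorem mem_omega {T : Subgroup G} {x : G} (hx : x ∈ T) (h2 : x * x = 1)
    (hc : ∀ t ∈ T, Commute t x) : x ∈ Cfsg.omegaCenterOf T :=
  Thompson.mem_omegaOne ⟨hx, mem_centralizer_iff.2 fun t ht => (hc t ht).eq⟩
    (by rw [pow_two]; exact h2)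

theorem omega_le (T : Subgroup G) : Cfsg.omegaCenterOf T ≤ T :=
  (Thompson.omegaOne_le 2 _).trans inf_le_left

theorem omega_commute {T : Subgroup G} {x t : G} (hx : x ∈ Cfsg.omegaCenterOf T) (ht : t ∈ T) :
    Commute t x :=
  mem_centralizer_iff.1 ((Thompson.omegaOne_le 2 _) hx).2 t ht

theorem omega_sq {T : Subgroup G} {x : G} (hx : x ∈ Cfsg.omegaCenterOf T) : x * x = 1 :=
  SfFree.ea_sq (Thompson.omegaOne_centre_ea 2 T) hx

theorem omega_le_zJ (T : Subgroup G) : Cfsg.omegaCenterOf T ≤ zJ T := fun _ hx =>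
  omega_mem_zJ (omega_le T hx) (omega_sq hx) fun _ ht => omega_commute hx ht

/-- A component is not a 2-group. -/
theorem not_isPGroup {T K : Subgroup G} (hK : Cfsg.IsJComponent T K) : ¬ IsPGroup 2 K := fun h => by
  have h3 := hK.2.2.1
  rw [relIndex_eq_one.2 (S4Amal.le_core_of_normal le_rfl le_normalizer h)] at h3
  norm_num at h3

/-- A component of `T` together with the unique maximal 2-local subgroup above it. -/
structure Std (T K : Subgroup G) : Prop where
  comp : Cfsg.IsJComponent T K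
  norm : T ≤ normalizer (K : Set G)
  isLocal : Cfsg.IsTwoLocal (normalizer (K : Set G))
  jover : normalizer (K : Set G) ∈ Cfsg.jOvergroups T
  rigid : ∀ L, Cfsg.IsTwoLocal L → jS T ≤ L → K ≤ L → L ≤ normalizer (K : Set G)
  active : ¬ K ≤ centralizer (Cfsg.omegaCenterOf T : Set G)

namespace Std

variable {T K : Subgroup G}

theorem two (h : Std T K) : IsPGroup 2 T := h.jover.1.2.1

theorem para (hG : Hyp G) (h : Std T K) :
    Para T (K ⊔ T) ∧ Cfsg.pCoreOf 2 (normalizer (K : Set G)) ≤ Cfsg.pCoreOf 2 (K ⊔ T) ∧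
      (Cfsg.pCoreOf 2 (K ⊔ T)).relIndex (K ⊔ T) = 6 :=
  para_of_component hG h.comp h.jover le_normalizer h.norm h.active

theorem charp (hG : Hyp G) (h : Std T K) :
    centralizer (Cfsg.pCoreOf 2 (K ⊔ T) : Set G) ≤ Cfsg.pCoreOf 2 (K ⊔ T) :=
  (centralizer_le (h.para hG).2.1).trans (h.jover.2.2.trans (h.para hG).2.1)

theorem core_ne_bot (hG : Hyp G) (h : Std T K) : Cfsg.pCoreOf 2 (K ⊔ T) ≠ ⊥ := fun e =>
  pCoreOf_ne_bot hG h.jover.2.2 (le_bot_iff.1 (e ▸ (h.para hG).2.1))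

theorem maximal (h : Std T K) : Cfsg.IsMaximalTwoLocal (normalizer (K : Set G)) :=
  ⟨h.isLocal, fun L hL hle => le_antisymm (h.rigid L hL
    ((SfFree.jS_le T).trans (h.norm.trans hle)) (le_normalizer.trans hle)) hle⟩

theorem eq_of_maximal (h : Std T K) {L : Subgroup G} (hL : Cfsg.IsMaximalTwoLocal L)
    (hJ : jS T ≤ L) (hK : K ≤ L) : L = normalizer (K : Set G) :=
  (hL.2 _ h.isLocal (h.rigid L hL.1 hJ hK)).symm

theorem subnormal (_h : Std T K) : (K.subgroupOf (normalizer (K : Set G))).IsSubnormal := by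
  have : (K.subgroupOf (normalizer (K : Set G))).Normal :=
    normal_subgroupOf_of_le_normalizer le_rfl
  exact Subgroup.Normal.isSubnormal this

theorem not_derived (h : Std T K) : ¬ ⁅K ⊔ T, K ⊔ T⁆ ≤ Cfsg.pCoreOf 2 (K ⊔ T) := fun hle => by
  refine not_isPGroup h.comp ((core_isPGroup (K ⊔ T)).to_le (le_trans ?_ hle))
  conv_lhs => rw [← h.comp.2.1, thompson_eq_jS]
  exact commutator_mono le_sup_left ((SfFree.jS_le T).trans le_sup_right)

theorem sylow (hG : Hyp G) (h : Std T K) : Cfsg.IsSylowTwoIn T (K ⊔ T) :=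
  ⟨le_sup_right, h.two, by rw [(h.para hG).1.three]; decide⟩

theorem commutator_ne_bot (h : Std T K) : ⁅Cfsg.omegaCenterOf T, K ⊔ T⁆ ≠ ⊥ := fun e =>
  h.active (le_sup_left.trans
    (Subgroup.le_centralizer_iff.1 (commutator_eq_bot_iff_le_centralizer.1 e)))

/-- Two standard components generating no common 2-core give a small amalgam. -/
theorem pair (hG : Hyp G) {K' : Subgroup G} (h : Std T K) (h' : Std T K')
    (hbot : Cfsg.pCoreOf 2 ((K ⊔ T) ⊔ (K' ⊔ T)) = ⊥) :
    (∀ x ∈ Cfsg.pCoreOf 2 (K ⊔ T), x * x = 1) ∧ Nat.card T ≤ 16 ∧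
      Nat.card (Cfsg.pCoreOf 2 (K ⊔ T)) = 2 * Nat.card (Cfsg.omegaCenterOf T) ∧
      Nat.card T = 2 * Nat.card (Cfsg.pCoreOf 2 (K ⊔ T)) := by
  refine two_parabolics (h.para hG).1 (h'.para hG).1 (fun hle => ?_) fun N hN hP hQ => ?_
  · rw [sup_eq_left.2 hle] at hbot
    exact h.core_ne_bot hG hbot
  · exact le_bot_iff.1 (hbot ▸ S4Amal.le_core_of_normal (hN.trans (le_sup_right.trans le_sup_left))
      (sup_le hP hQ) (h.two.to_le hN))

theorem core_ea (hG : Hyp G) {K' : Subgroup G} (h : Std T K) (h' : Std T K')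
    (hbot : Cfsg.pCoreOf 2 ((K ⊔ T) ⊔ (K' ⊔ T)) = ⊥) :
    Cfsg.IsElementaryAbelian 2 (Cfsg.pCoreOf 2 (K ⊔ T)) := by
  have hsq := (h.pair hG h' hbot).1
  refine Thompson.ea_iff.2 ⟨fun a ha => mem_centralizer_iff.2 fun b hb => ?_,
    fun a ha => by rw [pow_two]; exact hsq a ha⟩
  have e1 : ∀ y ∈ Cfsg.pCoreOf 2 (K ⊔ T), y⁻¹ = y := fun y hy =>
    inv_eq_of_mul_eq_one_right (hsq y hy)
  calc b * a = (b * a)⁻¹ := (e1 _ (mul_mem hb ha)).symm
    _ = a * b := by rw [mul_inv_rev, e1 a ha, e1 b hb]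

end Std

/-- The elementary abelian subgroups of maximal order in a group with an elementary abelian
subgroup of index two. -/
theorem ea_dichotomy {T A X : Subgroup G} (hA : Cfsg.IsElementaryAbelian 2 A)
    (hn : T ≤ normalizer (A : Set G)) (h2 : A.relIndex T = 2) {y : G} (hy : y ∈ T) (hy2 : y * y = 1)
    (hyA : y ∉ centralizer (A : Set G)) (hX : Cfsg.IsElementaryAbelian 2 X) (hXT : X ≤ T)
    (hcard : Nat.card A ≤ Nat.card X) :
    X ≤ A ∨ X = (A ⊓ centralizer ({y} : Set G)) ⊔ zpowers y := by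
  rw [or_iff_not_imp_left]
  intro hXA
  obtain ⟨x, hx, hxA⟩ := SetLike.not_le_iff_exists.1 hXA
  have hyA' : y ∉ A := fun h => hyA ((Thompson.ea_iff.1 hA).1 h)
  have hmem : ∀ {u v : G}, u ∈ T → u ∉ A → v ∈ T → v ∉ A → u * v ∈ A := fun {u v} hu hu' hv hv' =>
    mem_subgroupOf.1 ((Subgroup.mul_mem_iff_of_index_two (show (A.subgroupOf T).index = 2 from h2)
      (a := ⟨u, hu⟩) (b := ⟨v, hv⟩)).2 ⟨fun e => absurd (mem_subgroupOf.1 e) hu',
        fun e => absurd (mem_subgroupOf.1 e) hv'⟩)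
  set C := A ⊓ centralizer ({y} : Set G) with hC
  have ha : x * y ∈ A := hmem (hXT hx) hxA hy hyA'
  have hxeq : x = x * y * y := by rw [mul_assoc, hy2, mul_one]
  have hay : x * y ∈ C := by
    refine ⟨ha, mem_centralizer_singleton_iff.2 ?_⟩
    have h1 : x * y * y * (x * y * y) = 1 := by rw [← hxeq]; exact SfFree.ea_sq hX hx
    have h3 := SfFree.ea_sq hA ha
    calc x * y * y = (x * y * y)⁻¹ := (inv_eq_of_mul_eq_one_left h1).symm
      _ = y⁻¹ * (x * y)⁻¹ := mul_inv_rev _ _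
      _ = y * (x * y) := by rw [inv_eq_of_mul_eq_one_left hy2, inv_eq_of_mul_eq_one_left h3]
  have hle : X ≤ C ⊔ zpowers y := by
    intro v hv
    have hcy : ∀ a ∈ A, a ∈ X → a ∈ C := fun a haA haX => by
      refine ⟨haA, mem_centralizer_singleton_iff.2 ?_⟩
      have c1 : Commute a x := SfFree.ea_commute hX haX hx
      have c2 : Commute a (x * y) := SfFree.ea_commute hA haA ha
      have := c1.inv_right.mul_right c2
      rw [inv_mul_cancel_left] at this
      exact this.eq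
    by_cases hvA : v ∈ A
    · exact mem_sup_left (hcy v hvA hv)
    · have h4 := hcy _ (hmem (hXT hv) hvA (hXT hx) hxA) (mul_mem hv hx)
      have h5 : v = v * x * (x * y) * y := by
        rw [mul_assoc (v * x), ← hxeq, mul_assoc, SfFree.ea_sq hX hx, mul_one]
      rw [h5]
      exact mul_mem (mem_sup_left (mul_mem h4 hay)) (mem_sup_right (mem_zpowers y))
  refine eq_of_le_of_card_ge hle ?_
  have hcl : zpowers y ≤ centralizer (C : Set G) := zpowers_le.2 (mem_centralizer_iff.2 fun c hc =>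
    mem_centralizer_singleton_iff.1 hc.2)
  have h6 := SfFree.card_sup_mul (hcl.trans (centralizer_le_normalizer _))
  have h7 : 2 * Nat.card C ≤ Nat.card A := SfFree.two_mul_card_le inf_le_left fun hle' =>
    hyA (mem_centralizer_iff.2 fun a ha => mem_centralizer_singleton_iff.1 (hle' ha).2)
  have h8 : Nat.card (zpowers y) ≤ 2 := by
    rw [Nat.card_zpowers]
    exact orderOf_le_of_pow_eq_one (by norm_num) (by rw [pow_two]; exact hy2)
  calc Nat.card (C ⊔ zpowers y : Subgroup G)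
      ≤ Nat.card (C ⊔ zpowers y : Subgroup G) * Nat.card (C ⊓ zpowers y : Subgroup G) :=
        Nat.le_mul_of_pos_right _ Nat.card_pos
    _ = Nat.card C * Nat.card (zpowers y) := h6
    _ ≤ Nat.card C * 2 := Nat.mul_le_mul_left _ h8
    _ ≤ Nat.card A := by omega
    _ ≤ Nat.card X := hcard

end Cfsg.Agent.ZNComp
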