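import Cfsg.Agent.ZNComp.Std

/-!
# `J(S)` of a Sylow group is weakly closed
-/

set_option autoImplicit false

namespace Cfsg.Agent.ZNComp

open Subgroup
open SfFree (cj Mem jS)

variable {G : Type*} [Group G] [Finite G] {S : Sylow 2 G}

theorem cj_jS_eq {u : G} (h : cj u (jS (S : Subgroup G)) ≤ (S : Subgroup G)) :
    cj u (jS (S : Subgroup G)) = jS (S : Subgroup G) := by
  refine eq_of_le_of_card_ge ?_ (SfFree.card_cj u _).ge
  rw [SfFree.cj, jS, Subgroup.map_iSup]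
  refine iSup_le fun P => ?_
  rw [Subgroup.map_iSup]
  refine iSup_le fun hP => SfFree.le_jS ⟨(SfFree.cj_mono (SfFree.le_jS hP)).trans h,
    SfFree.ea_cj hP.2.1, fun B hB hBe => ?_⟩
  rw [SfFree.card_cj]
  exact hP.2.2 B hB hBe

theorem cj_normalizer {u : G} (h : cj u (jS (S : Subgroup G)) ≤ (S : Subgroup G)) :
    u ∈ normalizer (jS (S : Subgroup G) : Set G) :=
  mem_normalizer_iff_map_conj_eq.2 (cj_jS_eq h)

/-- A 2-subgroup lies in a conjugate of `S` by an element of any overgroup of `S`. -/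
theorem exists_cj_ge {L R : Subgroup G} (hSL : (S : Subgroup G) ≤ L) (hR : IsPGroup 2 R)
    (hRL : R ≤ L) : ∃ x ∈ L, R ≤ cj x (S : Subgroup G) := by
  have : Fact (Nat.Prime 2) := ⟨Nat.prime_two⟩
  obtain ⟨S₀, hS₀⟩ := exists_sylow_containing hR hRL
  obtain ⟨x, hx⟩ := MulAction.exists_smul_eq L (S.subtype hSL) S₀
  refine ⟨x, x.2, hS₀.trans ?_⟩
  rw [← hx, Sylow.coe_subgroup_smul, Coprime.conj_smul_eq_map, Sylow.coe_subtype, map_map]
  rintro _ ⟨s, hs, rfl⟩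
  exact ⟨s, mem_subgroupOf.1 hs, rfl⟩

/-- A 2-group containing `J(S)` has the same Thompson subgroup. -/
theorem jS_eq_of_sylow {R : Subgroup G} (hR : IsPGroup 2 R) (hle : jS (S : Subgroup G) ≤ R) :
    jS R = jS (S : Subgroup G) := by
  obtain ⟨x, -, hx⟩ := exists_cj_ge (S := S) (le_top (a := (S : Subgroup G))) hR le_top
  have e1 : ∀ H : Subgroup G, cj x⁻¹ (cj x H) = H := fun H => by
    rw [SfFree.cj_cj, inv_mul_cancel, SfFree.cj_one]
  have hJ : cj x (jS (S : Subgroup G)) = jS (S : Subgroup G) := by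
    refine SfFree.cj_of_mem_normalizer (inv_mem_iff.1 (cj_normalizer (S := S) ?_))
    calc cj x⁻¹ (jS (S : Subgroup G)) ≤ cj x⁻¹ (cj x (S : Subgroup G)) :=
          SfFree.cj_mono (hle.trans hx)
      _ = _ := e1 _
  obtain ⟨P₀, hP₀⟩ := SfFree.exists_mem (S : Subgroup G)
  have hmax : ∀ {B : Subgroup G}, B ≤ R → Cfsg.IsElementaryAbelian 2 B →
      Nat.card B ≤ Nat.card P₀ := fun {B} hB hBe => by
    rw [← SfFree.card_cj x⁻¹ B]
    exact hP₀.2.2 _ ((SfFree.cj_mono (hB.trans hx)).trans (e1 _).le) (SfFree.ea_cj hBe)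
  refine le_antisymm (iSup₂_le fun P hP => ?_) (iSup₂_le fun P hP => SfFree.le_jS
    ⟨(SfFree.le_jS hP).trans hle, hP.2.1, fun B hB hBe => (hmax hB hBe).trans
      (hP.2.2 _ hP₀.1 hP₀.2.1)⟩)
  have hcard : Nat.card P₀ ≤ Nat.card P := hP.2.2 _ ((SfFree.le_jS hP₀).trans hle) hP₀.2.1
  have hm : Mem (S : Subgroup G) (cj x⁻¹ P) := ⟨(SfFree.cj_mono (hP.1.trans hx)).trans (e1 _).le,
    SfFree.ea_cj hP.2.1, fun B hB hBe => (hP₀.2.2 B hB hBe).trans
      (hcard.trans (SfFree.card_cj x⁻¹ P).ge)⟩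
  have h2 := SfFree.cj_mono (g := x) (SfFree.le_jS hm)
  rw [SfFree.cj_cj, mul_inv_cancel, SfFree.cj_one, hJ] at h2
  exact h2

theorem good_full {K : Subgroup G} (hK : Cfsg.IsJComponent (S : Subgroup G) K) :
    Good (S : Subgroup G) K :=
  ⟨hK, fun _ _ _ _ _ hT₀ hJ => jS_eq_of_sylow hT₀.2.1 hJ⟩

theorem mem_of_cj_le {L : Subgroup G} (hSL : (S : Subgroup G) ≤ L)
    (hN : normalizer (jS (S : Subgroup G) : Set G) ≤ L) {y : G}
    (hy : cj y (jS (S : Subgroup G)) ≤ L) : y ∈ L := by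
  obtain ⟨x, hxL, hx⟩ := exists_cj_ge hSL ((S.2.to_le (SfFree.jS_le _)).map _) hy
  have h : x⁻¹ * y ∈ normalizer (jS (S : Subgroup G) : Set G) := by
    refine cj_normalizer ?_
    rw [← SfFree.cj_cj]
    refine (SfFree.cj_mono hx).trans (le_of_eq ?_)
    rw [SfFree.cj_cj, inv_mul_cancel, SfFree.cj_one]
  simpa using L.mul_mem hxL (hN h)

theorem le_sylow_of_le_normalizer {R : Subgroup G} (hR : IsPGroup 2 R)
    (hle : R ≤ normalizer ((S : Subgroup G) : Set G)) : R ≤ (S : Subgroup G) := by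
  have h := hR.to_sup_of_normal_right' S.2 hle
  rw [← S.3 h le_sup_right]
  exact le_sup_left

/-- A 2-group of `M` may be assumed to lie in `S`. -/
theorem exists_sylow_over {M T : Subgroup G}
    (hMJ : normalizer (jS (S : Subgroup G) : Set G) ≤ M) (hT : IsPGroup 2 T) (hTM : T ≤ M) :
    ∃ S' : Sylow 2 G, T ≤ (S' : Subgroup G) ∧
      normalizer (jS (S' : Subgroup G) : Set G) ≤ M := by
  obtain ⟨m, hm, hle⟩ := exists_cj_ge ((SfFree.le_normalizer_jS _).trans hMJ) hT hTM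
  refine ⟨m • S, ?_, ?_⟩
  · rwa [Sylow.coe_subgroup_smul, Coprime.conj_smul_eq_map]
  · rw [Sylow.coe_subgroup_smul, Coprime.conj_smul_eq_map,
      SfFree.jS_map (ι := (MulAut.conj m).toMonoidHom) (MulAut.conj m).injective]
    refine ((Subgroup.map_equiv_normalizer_eq _ (MulAut.conj m)).symm.le).trans ?_
    rintro _ ⟨v, hv, rfl⟩
    exact M.mul_mem (M.mul_mem hm (hMJ hv)) (M.inv_mem hm)

end Cfsg.Agent.ZNComp
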